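import Mathlib
import Cfsg.Agent.H383.Cube.Crude_m3
import Cfsg.Agent.H807.CubePar
import Cfsg.Agent.Nodes.WittU
import Cfsg.Agent.S0245
import Cfsg.Agent.S0246
import Cfsg.Agent.S0280
import Cfsg.Agent.S0292
import Cfsg.Agent.S0293
import Cfsg.Agent.S0294
import Cfsg.Agent.Lib.RingK
import Cfsg.Agent.FastGrp
import Cfsg.Agent.Prune
set_option linter.all false
prune_inst 0x7ffcfff8efb83fffdfff7e7fa7f8cffc39d09fffefdffd43ffe4ebffbfff23022be5fbad0de090fe0e77603c10387853fb7eeabfe06fdc7ffffdfff41ffbee4ff5f7b78971d48c340fbc0fff03f07f8e7f3fffffffffffffffffffffffffffbeffbfffffffff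
open scoped Cfsg.Agent.FastGrp

-- part: H383/Cube/Ref
section
/-!
# The refined count of twisted involutions (helper383, S5721)

`R : RGD cs h p T n X`, `T` abelian, `β = conj g * α` a frame automorphism; for `x ∈ Tw α` in the cell of `w`
(`x g⁻¹ ∈ B w B`) and a representative `k` of `w`
`|JJ α B x| |T| ≤ |DD α B x| |{t ∈ T : t (k β(t) k⁻¹) = 1}|`.
-/

set_option autoImplicit false
set_option linter.unusedSectionVars false

namespace Cfsg.Agent.H383.Cube.Ref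

open CoxeterSystem Cfsg.Agent.ChevalleyStructure.CoxeterGeom Cfsg.Agent.Tits.Roots Cfsg.Agent.Tits.Core
  Cfsg.Agent.Tits.Exchange Cfsg.Agent.Nodes.Reps Cfsg.Agent.Nodes.BNOf Cfsg.Agent.Nodes.StabComb
  Cfsg.Agent.Nodes.Bruhat Cfsg.Agent.Nodes.OppDec Cfsg.Agent.Nodes.LeviDec Cfsg.Agent.Nodes.NormalForm
  Cfsg.Agent.KFacts.RgdOpp Cfsg.Agent.KFacts.RgdAut Cfsg.Agent.KFacts.RgdDiag Cfsg.Agent.Nodes.CardSup
  Cfsg.Agent.Nodes.BNOf.RGD Cfsg.Agent.Nodes.Comb Cfsg.Agent.Nodes.Unique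
open scoped Pointwise

variable {I W Y : Type*} [Fintype I] [DecidableEq I] [Group W] [Group Y] {M : CoxeterMatrix I}
  {cs : CoxeterSystem M W} {A : I → I → ℤ} {h : IsCartan M A} {p : ℕ} {T : Subgroup Y} {n : I → Y}
  {X : (I → ℤ) → Subgroup Y} (R : RGD cs h p T n X)

/-- `b ∈ t U`, `t ∈ T` -/
def Pr (cs : CoxeterSystem M W) (h : IsCartan M A) (T : Subgroup Y) (X : (I → ℤ) → Subgroup Y) (b t : Y) : Prop :=
  t ∈ T ∧ t⁻¹ * b ∈ RGD.Sup X (RGD.Pos cs h)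

theorem Pr.mem_B {b t : Y} (hb : Pr cs h T X b t) : b ∈ RGD.B cs h T X := by
  have h1 : b = t * (t⁻¹ * b) := by group
  rw [h1]
  exact mul_mem (T_le_B hb.1) (U_le_B hb.2)

include R

theorem exists_pr {b : Y} (hb : b ∈ RGD.B cs h T X) : ∃ t, Pr cs h T X b t := by
  obtain ⟨t, ht, u, hu, rfl⟩ := R.mem_B.1 hb
  exact ⟨t, ht, by rwa [inv_mul_cancel_left]⟩

omit R in
theorem pr_of_T {t : Y} (ht : t ∈ T) : Pr cs h T X t t := ⟨ht, by rw [inv_mul_cancel]; exact one_mem _⟩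

theorem conj_U {t u : Y} (ht : t ∈ T) : t * u * t⁻¹ ∈ RGD.Sup X (RGD.Pos cs h) ↔ u ∈ RGD.Sup X (RGD.Pos cs h) :=
  ((Subgroup.mem_normalizer_iff.1 (R.B_le_normalizer_U (T_le_B ht))) u).symm

theorem Pr.mul {b t b' t' : Y} (hb : Pr cs h T X b t) (hb' : Pr cs h T X b' t') : Pr cs h T X (b * b') (t * t') := by
  refine ⟨mul_mem hb.1 hb'.1, ?_⟩
  have h1 : (t * t')⁻¹ * (b * b') = (t'⁻¹ * (t⁻¹ * b) * t'⁻¹⁻¹) * (t'⁻¹ * b') := by group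
  rw [h1]
  exact mul_mem ((conj_U R (inv_mem hb'.1)).2 hb.2) hb'.2

theorem Pr.inv {b t : Y} (hb : Pr cs h T X b t) : Pr cs h T X b⁻¹ t⁻¹ := by
  refine ⟨inv_mem hb.1, ?_⟩
  have h1 : t⁻¹⁻¹ * b⁻¹ = t * (t⁻¹ * b)⁻¹ * t⁻¹ := by group
  rw [h1]
  exact (conj_U R hb.1).2 (inv_mem hb.2)

theorem eq_one_of_T_U [Finite W] {t : Y} (ht : t ∈ T) (hu : t ∈ RGD.Sup X (RGD.Pos cs h)) : t = 1 := by
  obtain ⟨k, hk⟩ := R.isPGroup_Upos ⟨t, hu⟩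
  have h1 : t ^ p ^ k = 1 := congrArg Subtype.val hk
  have h2 : orderOf t ∣ p ^ k := orderOf_dvd_of_pow_eq_one h1
  have h3 : orderOf t ∣ Nat.card T := by
    have := orderOf_dvd_natCard (⟨t, ht⟩ : T)
    rwa [Subgroup.orderOf_mk] at this
  have h4 : (Nat.card T).Coprime (p ^ k) := Nat.Coprime.pow_right _ R.tcop
  have h5 : orderOf t = 1 := Nat.eq_one_of_dvd_coprimes h4 h3 h2
  exact orderOf_eq_one_iff.1 h5

theorem Pr.eq_one [Finite W] {t : Y} (ht : Pr cs h T X 1 t) : t = 1 := by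
  have h1 := ht.2
  rw [mul_one] at h1
  have h2 := eq_one_of_T_U R (inv_mem ht.1) h1
  rwa [inv_eq_one] at h2

theorem Pr.unique [Finite W] {b t t' : Y} (ht : Pr cs h T X b t) (ht' : Pr cs h T X b t') : t = t' := by
  have h1 := (ht.inv R).mul R ht'
  rw [inv_mul_cancel] at h1
  have h2 := h1.eq_one R
  rwa [inv_mul_eq_one] at h2

theorem Pr.pow {b t : Y} (hb : Pr cs h T X b t) (k : ℕ) : Pr cs h T X (b ^ k) (t ^ k) := by
  induction k with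
  | zero => rw [pow_zero, pow_zero]; exact pr_of_T (one_mem _)
  | succ k ih => rw [pow_succ, pow_succ]; exact ih.mul R hb

theorem mem_U_of_pow [Finite W] {z : Y} (hz : z ∈ RGD.B cs h T X) {k : ℕ} (hk : z ^ p ^ k = 1) :
    z ∈ RGD.Sup X (RGD.Pos cs h) := by
  obtain ⟨s, hs⟩ := exists_pr R hz
  have h1 := hs.pow R (p ^ k)
  rw [hk] at h1
  have h2 := h1.eq_one R
  have h3 : orderOf s ∣ p ^ k := orderOf_dvd_of_pow_eq_one h2
  have h4 : orderOf s ∣ Nat.card T := by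
    have := orderOf_dvd_natCard (⟨s, hs.1⟩ : T)
    rwa [Subgroup.orderOf_mk] at this
  have h5 : orderOf s = 1 := Nat.eq_one_of_dvd_coprimes (Nat.Coprime.pow_right _ R.tcop) h4 h3
  have h6 := orderOf_eq_one_iff.1 h5
  have h7 := hs.2
  rwa [h6, inv_one, one_mul] at h7

theorem Pr.conj_rp [Finite W] {d t k : Y} {w : W} (hd : Pr cs h T X d t) (hk : Rp cs R.nsys w k)
    (hB : k * d * k⁻¹ ∈ RGD.B cs h T X) : Pr cs h T X (k * d * k⁻¹) (k * t * k⁻¹) := by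
  have ht : k * t * k⁻¹ ∈ T := (Subgroup.mem_normalizer_iff.1 hk.mem_normalizer t).1 hd.1
  refine ⟨ht, ?_⟩
  have h1 : (k * t * k⁻¹)⁻¹ * (k * d * k⁻¹) = k * (t⁻¹ * d) * k⁻¹ := by group
  rw [h1]
  have h2 : k * (t⁻¹ * d) * k⁻¹ ∈ RGD.B cs h T X := by
    rw [← h1]
    exact mul_mem (inv_mem (T_le_B ht)) hB
  obtain ⟨m, hm⟩ := R.isPGroup_Upos ⟨t⁻¹ * d, hd.2⟩
  have h3 : (t⁻¹ * d) ^ p ^ m = 1 := congrArg Subtype.val hm
  refine mem_U_of_pow R h2 (k := m) ?_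
  rw [conj_pow, h3]
  group

omit R in
theorem Pr.map {β : MulAut Y} (hU : Fix β (RGD.Sup X (RGD.Pos cs h))) (hT : Fix β T) {b t : Y}
    (hb : Pr cs h T X b t) : Pr cs h T X (β b) (β t) := by
  refine ⟨(hT t).2 hb.1, ?_⟩
  rw [← map_inv, ← map_mul]
  exact (hU _).2 hb.2

theorem Pr.conj_B (hTc : ∀ s ∈ T, ∀ t ∈ T, s * t = t * s) {b c t : Y} (hc : Pr cs h T X c t)
    (hb : b ∈ RGD.B cs h T X) : Pr cs h T X (b * c * b⁻¹) t := by
  obtain ⟨s, hs⟩ := exists_pr R hb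
  have h1 := (hs.mul R hc).mul R (hs.inv R)
  have h2 : s * t * s⁻¹ = t := by rw [hTc s hs.1 t hc.1, mul_inv_cancel_right]
  rwa [h2] at h1

section

variable [Finite W] {α : MulAut Y} (hα : α * α = 1) {g : Y}

/-- the elements of `T` inverted by `t ↦ k β(t) k⁻¹` -/
def Tm (T : Subgroup Y) (β : MulAut Y) (k : Y) : Set Y := {t | t ∈ T ∧ t * (k * β t * k⁻¹) = 1}

include hα in
/-- the torus part of an element of `DD` -/
theorem pr_tau (hTc : ∀ s ∈ T, ∀ t ∈ T, s * t = t * s) (hU : Fix (MulAut.conj g * α) (RGD.Sup X (RGD.Pos cs h)))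
    (hT : Fix (MulAut.conj g * α) T) {x : Y} (hx : x ∈ Tw α) {w : W} {b₁ k b₂ : Y} (hb₁ : b₁ ∈ RGD.B cs h T X)
    (hk : Rp cs R.nsys w k) (hb₂ : b₂ ∈ RGD.B cs h T X) (e : x * g⁻¹ = b₁ * k * b₂) {c t : Y}
    (hc : c ∈ DD α (RGD.B cs h T X) x) (ht : Pr cs h T X c t) :
    Pr cs h T X (tau α x c) (k * (MulAut.conj g * α) t * k⁻¹) := by
  have hc' := (mem_DD hα hx).1 hc
  have h1 : tau α x c = b₁ * (k * (b₂ * (MulAut.conj g * α) c * b₂⁻¹) * k⁻¹) * b₁⁻¹ := by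
    have h2 : x = b₁ * k * b₂ * g := by rw [← e]; group
    rw [tau_apply, MulAut.mul_apply, MulAut.conj_apply]
    nth_rewrite 1 2 [h2]
    group
  have h3 : k * (b₂ * (MulAut.conj g * α) c * b₂⁻¹) * k⁻¹ ∈ RGD.B cs h T X := by
    have h4 : k * (b₂ * (MulAut.conj g * α) c * b₂⁻¹) * k⁻¹ = b₁⁻¹ * tau α x c * b₁ := by
      rw [h1]; group
    rw [h4]
    exact mul_mem (mul_mem (inv_mem hb₁) hc'.2) hb₁
  rw [h1]
  exact (((ht.map hU hT).conj_B R hTc hb₂).conj_rp R hk h3).conj_B R hTc hb₁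

include hα in
theorem card_JJ_mul_le [Finite Y] (hTc : ∀ s ∈ T, ∀ t ∈ T, s * t = t * s)
    (hU : Fix (MulAut.conj g * α) (RGD.Sup X (RGD.Pos cs h))) (hB : Fix (MulAut.conj g * α) (RGD.B cs h T X))
    (hT : Fix (MulAut.conj g * α) T) {x : Y} (hx : x ∈ Tw α) {w : W} (hw : Cell R.nsys cs h X w (x * g⁻¹)) {k : Y}
    (hk : Rp cs R.nsys w k) :
    Nat.card (JJ α (RGD.B cs h T X) x) * Nat.card T ≤
      Nat.card (DD α (RGD.B cs h T X) x) * Nat.card (Tm T (MulAut.conj g * α) k) := by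
  -- the cell with the given representative
  obtain ⟨b₁, hb₁, k', hk', b₂, hb₂, e⟩ := hw
  have hkk : k⁻¹ * k' ∈ T := hk.unique hk'
  have e' : x * g⁻¹ = b₁ * k * ((k⁻¹ * k') * b₂) := by rw [e]; group
  have hb₂' : (k⁻¹ * k') * b₂ ∈ RGD.B cs h T X := mul_mem (T_le_B hkk) hb₂
  generalize (k⁻¹ * k') * b₂ = b₃ at e' hb₂'
  set β := MulAut.conj g * α with hβ
  choose! π hπ using fun (b : Y) (hb : b ∈ RGD.B cs h T X) => exists_pr R hb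
  have hJ : ∀ c ∈ JJ α (RGD.B cs h T X) x, π c ∈ Tm T β k := by
    intro c hc
    have hcB := ((mem_DD hα hx).1 hc.1).1
    have h1 := pr_tau R hα hTc hU hT hx hb₁ hk hb₂' e' hc.1 (hπ c hcB)
    have h2 := (hπ c hcB).mul R h1
    rw [hc.2] at h2
    exact ⟨(hπ c hcB).1, h2.eq_one R⟩
  have hD : ∀ c ∈ DD α (RGD.B cs h T X) x, ∀ t ∈ T, c * (b₁ * t * b₁⁻¹) ∈ DD α (RGD.B cs h T X) x := by
    intro c hc t ht
    refine mul_mem hc (Subgroup.mem_inf.2 ⟨mul_mem (mul_mem hb₁ (T_le_B ht)) (inv_mem hb₁), ?_⟩)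
    have h1 : b₃⁻¹ * (k⁻¹ * t * k) * b₃ ∈ RGD.B cs h T X := by
      have h2 : k⁻¹ * t * k ∈ T := by
        have := (Subgroup.mem_normalizer_iff.1 hk.inv.mem_normalizer t).1 ht
        rwa [inv_inv] at this
      exact mul_mem (mul_mem (inv_mem hb₂') (T_le_B h2)) hb₂'
    refine ⟨β⁻¹ (b₃⁻¹ * (k⁻¹ * t * k) * b₃), (hB.inv _).2 h1, ?_⟩
    rw [MulEquiv.coe_toMonoidHom, tau_apply]
    have h2 : α (β⁻¹ (b₃⁻¹ * (k⁻¹ * t * k) * b₃)) = g⁻¹ * (b₃⁻¹ * (k⁻¹ * t * k) * b₃) * g := by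
      have h3 : β (β⁻¹ (b₃⁻¹ * (k⁻¹ * t * k) * b₃)) = b₃⁻¹ * (k⁻¹ * t * k) * b₃ := MulAut.apply_inv_self _ _ _
      rw [hβ, MulAut.mul_apply, MulAut.conj_apply] at h3
      have h4 : ∀ z v : Y, g * z * g⁻¹ = v → z = g⁻¹ * v * g := by
        intro z v e
        rw [← e]; group
      exact h4 _ _ h3
    have h5 : x = b₁ * k * b₃ * g := by rw [← e']; group
    rw [h2]
    nth_rewrite 1 2 [h5]
    group
  rw [← Nat.card_prod, ← Nat.card_prod]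
  refine Nat.card_le_card_of_injective (fun z : JJ α (RGD.B cs h T X) x × T =>
    ((⟨z.1 * (b₁ * ((π z.1)⁻¹ * z.2) * b₁⁻¹), hD z.1 z.1.2.1 _ (mul_mem (inv_mem (hJ z.1 z.1.2).1) z.2.2)⟩,
      ⟨π z.1, hJ z.1 z.1.2⟩) : DD α (RGD.B cs h T X) x × Tm T β k)) ?_
  rintro ⟨⟨c, hc⟩, ⟨t, ht⟩⟩ ⟨⟨c', hc'⟩, ⟨t', ht'⟩⟩ e0
  have e1 : c * (b₁ * ((π c)⁻¹ * t) * b₁⁻¹) = c' * (b₁ * ((π c')⁻¹ * t') * b₁⁻¹) :=
    congrArg (fun z => (z.1 : Y)) e0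
  have e2 : π c = π c' := congrArg (fun z => (z.2 : Y)) e0
  have hcB := ((mem_DD hα hx).1 hc.1).1
  have hcB' := ((mem_DD hα hx).1 hc'.1).1
  have h1 : ∀ c t : Y, c ∈ RGD.B cs h T X → t ∈ T → Pr cs h T X (c * (b₁ * ((π c)⁻¹ * t) * b₁⁻¹)) t := by
    intro c t hc ht
    have h2 := (hπ c hc).mul R ((pr_of_T (cs := cs) (h := h) (X := X) (mul_mem (inv_mem (hπ c hc).1) ht)).conj_B R hTc hb₁)
    rwa [mul_inv_cancel_left] at h2
  have h3 := h1 c t hcB ht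
  have h4 := h1 c' t' hcB' ht'
  rw [← e1] at h4
  have h5 : t = t' := h3.unique R h4
  subst h5
  rw [← e2] at e1
  have h6 : c = c' := mul_right_cancel e1
  subst h6
  rfl

/-- `Tm` as a subgroup of `T` -/
def TmS (hTc : ∀ s ∈ T, ∀ t ∈ T, s * t = t * s) {β : MulAut Y} (hT : Fix β T) {k : Y}
    (hk : k ∈ Subgroup.normalizer (T : Set Y)) : Subgroup T where
  carrier := {t | (t : Y) * (k * β t * k⁻¹) = 1}
  mul_mem' := by
    intro a b ha hb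
    change (a : Y) * (k * β a * k⁻¹) = 1 at ha
    change (b : Y) * (k * β b * k⁻¹) = 1 at hb
    change (a : Y) * b * (k * β (a * b) * k⁻¹) = 1
    have h1 : k * β a * k⁻¹ ∈ T := (Subgroup.mem_normalizer_iff.1 hk _).1 ((hT _).2 a.2)
    have h2 : k * β (a * b) * k⁻¹ = (k * β a * k⁻¹) * (k * β b * k⁻¹) := by rw [map_mul]; group
    rw [h2]
    calc (a : Y) * b * ((k * β a * k⁻¹) * (k * β b * k⁻¹)) = a * (b * (k * β a * k⁻¹)) * (k * β b * k⁻¹) := by group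
      _ = a * ((k * β a * k⁻¹) * b) * (k * β b * k⁻¹) := by rw [hTc b b.2 _ h1]
      _ = (a * (k * β a * k⁻¹)) * (b * (k * β b * k⁻¹)) := by group
      _ = 1 := by rw [ha, hb, one_mul]
  one_mem' := by
    change (1 : Y) * (k * β 1 * k⁻¹) = 1
    rw [map_one]; group
  inv_mem' := by
    intro a ha
    change (a : Y) * (k * β a * k⁻¹) = 1 at ha
    change (a : Y)⁻¹ * (k * β (a : Y)⁻¹ * k⁻¹) = 1
    have h2 : k * β (a : Y)⁻¹ * k⁻¹ = (k * β a * k⁻¹)⁻¹ := by rw [map_inv]; group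
    rw [h2, ← mul_inv_rev, inv_eq_one]
    have h1 : (a : Y)⁻¹ = k * β a * k⁻¹ := inv_eq_of_mul_eq_one_right ha
    rw [← h1, inv_mul_cancel]

omit R in
theorem card_Tm [Finite Y] (hTc : ∀ s ∈ T, ∀ t ∈ T, s * t = t * s) {β : MulAut Y} (hT : Fix β T) {k : Y}
    (hk : k ∈ Subgroup.normalizer (T : Set Y)) : Nat.card (Tm T β k) = Nat.card (TmS hTc hT hk) :=
  Nat.card_congr
    { toFun := fun c => ⟨⟨c.1, c.2.1⟩, c.2.2⟩
      invFun := fun c => ⟨c.1, c.1.2, c.2⟩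
      left_inv := fun _ => rfl
      right_inv := fun _ => rfl }

omit R in
theorem card_Tm_le [Finite Y] (hTc : ∀ s ∈ T, ∀ t ∈ T, s * t = t * s) {β : MulAut Y} (hT : Fix β T) {k : Y}
    (hk : k ∈ Subgroup.normalizer (T : Set Y)) {l : ℕ} (hl : ∀ d, d ∣ Nat.card T → d ≠ 1 → l ≤ d)
    (hne : ∃ t ∈ T, t * (k * β t * k⁻¹) ≠ 1) : Nat.card (Tm T β k) * l ≤ Nat.card T := by
  rw [card_Tm hTc hT hk, ← (TmS hTc hT hk).card_mul_index]
  apply Nat.mul_le_mul_left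
  apply hl _ (Subgroup.index_dvd_card _)
  intro h1
  rw [Subgroup.index_eq_one] at h1
  obtain ⟨t, ht, hne⟩ := hne
  apply hne
  have : (⟨t, ht⟩ : T) ∈ TmS hTc hT hk := by rw [h1]; exact Subgroup.mem_top _
  exact this

end

omit R in
theorem card_Tm_le_T [Finite Y] (β : MulAut Y) (k : Y) : Nat.card (Tm T β k) ≤ Nat.card T :=
  Nat.card_le_card_of_injective (fun c : Tm T β k => (⟨c.1, c.2.1⟩ : T)) fun _ _ e =>
    Subtype.ext (congrArg (fun z : T => (z : Y)) e)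

/-- **The refined count**: if a central involution `v` of `W` does not centralise `T` -/
theorem card_tw_le_ref [Finite W] [Finite Y] [Fact p.Prime] (hG : GG cs h T X = ⊤)
    (hTc : ∀ s ∈ T, ∀ t ∈ T, s * t = t * s) {α : MulAut Y} (hα : α * α = 1) {v : W} {kv : Y}
    (hv : Rp cs R.nsys v kv) (hv2 : v * v = 1) (hvc : ∀ w, w * v = v * w)
    (hvσ : ∀ (σ : Equiv.Perm I) (hσ : ∀ i j, M (σ i) (σ j) = M i j), hat cs σ hσ v = v) (hne : ∃ t ∈ T, kv * t * kv⁻¹ ≠ t)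
    {l : ℕ} (hl : ∀ d, d ∣ Nat.card T → d ≠ 1 → l ≤ d) (hl0 : 0 < l) :
    ∃ (σ : Equiv.Perm I) (hσ : ∀ i j, M (σ i) (σ j) = M i j),
      2 * l * Nat.card (Tw α) ≤ Nat.card ↥(RGD.B cs h T X) * (Nat.card {w : W // hat cs σ hσ w = w⁻¹} * (l + 1)) := by
  classical
  obtain ⟨g, hU, hB, -, σ, D⟩ := exists_frame_any R hG α
  have hσ : ∀ i j, M (σ i) (σ j) = M i j := D.matrix R
  refine ⟨σ, hσ, ?_⟩
  have : Fintype W := Fintype.ofFinite W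
  have hcell : ∀ x : Y, ∃ w, Cell R.nsys cs h X w (x * g⁻¹) := fun x =>
    (mem_GG R).1 (by rw [hG]; exact Subgroup.mem_top _)
  choose δ hδ using hcell
  choose k hk using fun w : W => exists_rp cs R.nsys w
  set β := MulAut.conj g * α with hβ
  set S := Finset.univ.filter fun w : W => hat cs σ hσ w = w⁻¹ with hS
  let r : W → ℚ := fun w => (Nat.card (Tm T β (k w)) : ℚ) / Nat.card T
  have hT0 : 0 < (Nat.card T : ℚ) := by exact_mod_cast Nat.card_pos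
  have hTT : Fix β T := D.tor
  have h1 := card_tw_le_sum hα (RGD.B cs h T X) δ S
    (fun x hx => Finset.mem_filter.2 ⟨Finset.mem_univ _, cell_of_tw R hG hα hU hB D hσ hx (hδ x)⟩) ?_ r
    (fun w _ => by (clear * -; positivity)) ?_
  · -- the estimate of the sum
    have hr1 : ∀ w, r w ≤ 1 := by
      intro w
      rw [div_le_one hT0]
      exact_mod_cast card_Tm_le_T β (k w)
    have hrl : ∀ w, (∃ t ∈ T, t * (k w * β t * (k w)⁻¹) ≠ 1) → r w ≤ 1 / l := by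
      intro w hw
      rw [div_le_div_iff₀ hT0 (by exact_mod_cast hl0), one_mul]
      exact_mod_cast card_Tm_le hTc hTT (hk w).mem_normalizer hl hw
    have hpair : ∀ w, r w + r (w * v) ≤ 1 + 1 / l := by
      intro w
      by_cases h2 : ∃ t ∈ T, t * (k w * β t * (k w)⁻¹) ≠ 1
      · have := hrl w h2
        have := hr1 (w * v)
        linarith
      · have h3 : ∃ t ∈ T, t * (k (w * v) * β t * (k (w * v))⁻¹) ≠ 1 := by
          by_contra h3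
          push Not at h2 h3
          obtain ⟨t, ht, hne⟩ := hne
          apply hne
          have ht' : β⁻¹ t ∈ T := (hTT.inv t).2 ht
          have e1 := h2 _ ht'
          have e2 := h3 _ ht'
          rw [MulAut.apply_inv_self] at e1 e2
          have e3 : k w * t * (k w)⁻¹ = k (w * v) * t * (k (w * v))⁻¹ := mul_left_cancel (e1.trans e2.symm)
          have hs : (k w * kv)⁻¹ * k (w * v) ∈ T := ((hk w).mul hv).unique (hk (w * v))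
          have e4 : k (w * v) = k w * kv * ((k w * kv)⁻¹ * k (w * v)) := by group
          generalize (k w * kv)⁻¹ * k (w * v) = s at hs e4
          rw [e4] at e3
          have e5 : k w * kv * s * t * (k w * kv * s)⁻¹ = k w * (kv * (s * t * s⁻¹) * kv⁻¹) * (k w)⁻¹ := by group
          rw [e5, hTc s hs t ht, mul_inv_cancel_right] at e3
          exact (mul_left_cancel (mul_right_cancel e3)).symm
        have := hrl _ h3
        have := hr1 w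
        linarith
    have hSv : ∀ w, w ∈ S ↔ w * v ∈ S := by
      intro w
      rw [hS, Finset.mem_filter, Finset.mem_filter]
      have hvi : v⁻¹ = v := inv_eq_of_mul_eq_one_right hv2
      have hvc' : w⁻¹ * v = v * w⁻¹ := hvc w⁻¹
      rw [map_mul, hvσ, mul_inv_rev, hvi, ← hvc', mul_left_inj]
      simp
    have hsum : ∑ w ∈ S, r (w * v) = ∑ w ∈ S, r w :=
      Finset.sum_equiv (Equiv.mulRight v) (fun w => by rw [Equiv.coe_mulRight]; exact hSv w)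
        (fun w _ => by rw [Equiv.coe_mulRight])
    have h2 : 2 * ∑ w ∈ S, r w ≤ S.card * (1 + 1 / l : ℚ) := by
      calc 2 * ∑ w ∈ S, r w = ∑ w ∈ S, (r w + r (w * v)) := by rw [Finset.sum_add_distrib, hsum]; ring
        _ ≤ ∑ _w ∈ S, (1 + 1 / l : ℚ) := Finset.sum_le_sum fun w _ => hpair w
        _ = _ := by rw [Finset.sum_const, nsmul_eq_mul]
    have hScard : Nat.card {w : W // hat cs σ hσ w = w⁻¹} = S.card := by
      rw [Nat.card_eq_fintype_card, Fintype.card_subtype]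
    rw [hScard]
    have hlq : (0 : ℚ) < l := by exact_mod_cast hl0
    have h3 : (2 * l * Nat.card (Tw α) : ℚ) ≤ Nat.card ↥(RGD.B cs h T X) * (S.card * (l + 1)) := by
      calc (2 * l * Nat.card (Tw α) : ℚ) ≤ 2 * l * (Nat.card ↥(RGD.B cs h T X) * ∑ w ∈ S, r w) := by gcongr
        _ = Nat.card ↥(RGD.B cs h T X) * (l * (2 * ∑ w ∈ S, r w)) := by ring
        _ ≤ Nat.card ↥(RGD.B cs h T X) * (l * (S.card * (1 + 1 / l : ℚ))) := by gcongr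
        _ = Nat.card ↥(RGD.B cs h T X) * (S.card * (l + 1)) := by
            congr 1
            field_simp
    exact_mod_cast h3
  · intro x _ y _ hxy
    obtain ⟨b₁, hb₁, k, hk, b₂, hb₂, e⟩ := hδ x
    obtain ⟨c₁, hc₁, l, hl, c₂, hc₂, e'⟩ := hδ y
    rw [← hxy] at hl
    have ht : k⁻¹ * l ∈ T := by
      have := hk.inv.mul hl
      rw [inv_mul_cancel] at this
      exact this.mem_of_one
    have hd : b₂⁻¹ * (k⁻¹ * l) * c₂ ∈ RGD.B cs h T X :=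
      mul_mem (mul_mem (inv_mem hb₂) (RGD.T_le_B ht)) hc₂
    have hdβ := (hB.inv (b₂⁻¹ * (k⁻¹ * l) * c₂)).2 hd
    refine ⟨c₁ * b₁⁻¹, mul_mem hc₁ (inv_mem hb₁), _, hdβ, ?_⟩
    have h2 : α ((MulAut.conj g * α)⁻¹ (b₂⁻¹ * (k⁻¹ * l) * c₂)) = g⁻¹ * (b₂⁻¹ * (k⁻¹ * l) * c₂) * g := by
      have h3 : (MulAut.conj g * α) ((MulAut.conj g * α)⁻¹ (b₂⁻¹ * (k⁻¹ * l) * c₂)) = b₂⁻¹ * (k⁻¹ * l) * c₂ :=
        MulAut.apply_inv_self _ _ _
      rw [MulAut.mul_apply, MulAut.conj_apply] at h3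
      have h4 : ∀ z v : Y, g * z * g⁻¹ = v → z = g⁻¹ * v * g := by
        intro z v e
        rw [← e]; group
      exact h4 _ _ h3
    rw [h2]
    have h4 : x = b₁ * k * b₂ * g := by rw [← e]; group
    have h5 : y = c₁ * l * c₂ * g := by rw [← e']; group
    rw [h4, h5]
    group
  · intro x hx
    have h2 := card_JJ_mul_le R hα hTc hU hB hTT hx (hδ x) (hk (δ x))
    have h3 : (Nat.card (JJ α (RGD.B cs h T X) x) * Nat.card T : ℚ) ≤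
      Nat.card (DD α (RGD.B cs h T X) x) * Nat.card (Tm T β (k (δ x))) := by exact_mod_cast h2
    show _ ≤ (Nat.card (Tm T β (k (δ x))) : ℚ) / Nat.card T * _
    rw [div_mul_eq_mul_div, le_div_iff₀ hT0]
    linarith only [h, h3]

end Cfsg.Agent.H383.Cube.Ref
end

-- part: H383/Cube/Odd
section
/-!
# Twisted involutions in `B` for odd `p` (helper383, S5721)

* `card_tw_mul_le` : an involutory automorphism of a nonabelian `p`-group, `p` odd, inverts at most `|U| / p` elements;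
* `card_tw_ext` : the same bound for extensions;
* `card_tw_le_odd` : `p |Tw α| ≤ |B| (p (s - 1) + 1)` for groups with root group data and nonabelian `U`.
-/

set_option autoImplicit false
set_option linter.unusedSectionVars false

namespace Cfsg.Agent.H383.Cube.Odd

section

variable {U : Type*} [Group U]

theorem sq_inj [Finite U] {p : ℕ} (hp : p.Prime) (hp2 : p ≠ 2) (hU : IsPGroup p U) {a b : U} (hab : a * a = b * b) : a = b := by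
  have : Fact p.Prime := ⟨hp⟩
  have hc : (Nat.card U).Coprime 2 := by
    obtain ⟨k, hk⟩ := (IsPGroup.iff_card (p := p) (G := U)).1 hU
    rw [hk]
    apply Nat.Coprime.pow_left
    exact (Nat.coprime_primes hp Nat.prime_two).2 hp2
  have h1 := (powCoprime hc).injective (a₁ := a) (a₂ := b) (by
    rw [powCoprime_apply, powCoprime_apply, sq, sq, hab])
  exact h1

/-- the elements inverted and the elements fixed -/
theorem card_tw_mul_fix_le [Finite U] {p : ℕ} (hp : p.Prime) (hp2 : p ≠ 2) (hU : IsPGroup p U) (β : MulAut U) :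
    Nat.card (Tw β) * Nat.card (fix β) ≤ Nat.card U := by
  rw [← Nat.card_prod]
  refine Nat.card_le_card_of_injective (fun z : Tw β × fix β => (z.1 : U) * z.2) ?_
  rintro ⟨⟨x, hx⟩, ⟨c, hc⟩⟩ ⟨⟨y, hy⟩, ⟨d, hd⟩⟩ e
  have e1 : x * c = y * d := e
  have e2 : x⁻¹ * c = y⁻¹ * d := by
    have := congrArg β e1
    rwa [map_mul, map_mul, apply_eq_inv hx, apply_eq_inv hy, mem_fix.1 hc, mem_fix.1 hd] at this
  have e3 : x * x = y * y := by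
    calc x * x = (x * c) * (x⁻¹ * c)⁻¹ := by group
      _ = (y * d) * (y⁻¹ * d)⁻¹ := by rw [e1, e2]
      _ = y * y := by group
  have e4 := sq_inj hp hp2 hU e3
  subst e4
  have e5 : c = d := mul_left_cancel e1
  subst e5
  rfl

theorem card_tw_mul_le [Finite U] {p : ℕ} (hp : p.Prime) (hp2 : p ≠ 2) (hU : IsPGroup p U)
    (hne : ∃ a b : U, a * b ≠ b * a) {β : MulAut U} (hβ : β * β = 1) : Nat.card (Tw β) * p ≤ Nat.card U := by
  refine le_trans (Nat.mul_le_mul_left _ ?_) (card_tw_mul_fix_le hp hp2 hU β)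
  have hF : IsPGroup p (fix β) := hU.to_subgroup _
  have : Fact p.Prime := ⟨hp⟩
  obtain ⟨k, hk⟩ := (IsPGroup.iff_card (p := p)).1 hF
  rcases Nat.eq_zero_or_pos k with h0 | h0
  · exfalso
    rw [h0, pow_zero] at hk
    have h1 := card_le hβ
    rw [← card_fix, hk, one_mul] at h1
    have h2 : Tw β = Set.univ := by
      apply Set.eq_of_subset_of_ncard_le (Set.subset_univ _)
      rw [Set.ncard_univ]
      exact h1
    obtain ⟨a, b, hab⟩ := hne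
    apply hab
    have h3 : ∀ x : U, β x = x⁻¹ := fun x => apply_eq_inv (by rw [h2]; trivial)
    have h4 := map_mul β a⁻¹ b⁻¹
    rw [h3, h3, h3, inv_inv, inv_inv, mul_inv_rev, inv_inv, inv_inv] at h4
    exact h4.symm
  · rw [hk]
    exact Nat.le_self_pow (by omega) p

end

/-- extensions -/
theorem card_tw_ext {G : Type*} [Group G] [Finite G] {N : Subgroup G} (hNn : N.Normal) {τ : MulAut G} (hτ : τ * τ = 1)
    (hτN : ∀ x, τ x ∈ N ↔ x ∈ N) {p : ℕ} (hN : ∀ β : MulAut N, β * β = 1 → Nat.card (Tw β) * p ≤ Nat.card N) :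
    Nat.card (Tw τ) * p ≤ Nat.card G := by
  classical
  have : Fintype (Tw τ) := Fintype.ofFinite _
  have : Fintype (G ⧸ N) := Fintype.ofFinite _
  have h0 : Nat.card (Tw τ) = ∑ q : G ⧸ N, (Finset.univ.filter fun x : Tw τ => (QuotientGroup.mk (x : G) : G ⧸ N) = q).card := by
    rw [Nat.card_eq_fintype_card, ← Finset.card_univ]
    exact Finset.card_eq_sum_card_fiberwise fun x _ => Finset.mem_coe.2 (Finset.mem_univ _)
  have h1 : ∀ q : G ⧸ N, (Finset.univ.filter fun x : Tw τ => (QuotientGroup.mk (x : G) : G ⧸ N) = q).card * p ≤ Nat.card N := by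
    intro q
    rcases Finset.eq_empty_or_nonempty (Finset.univ.filter fun x : Tw τ => (QuotientGroup.mk (x : G) : G ⧸ N) = q) with he | ⟨c, hc⟩
    · rw [he, Finset.card_empty, zero_mul]
      exact Nat.zero_le _
    · have hcq := (Finset.mem_filter.1 hc).2
      have hcτ : τ (c : G) = (c : G)⁻¹ := apply_eq_inv c.2
      have hconj : ∀ u : G, u ∈ N → (c : G)⁻¹ * τ u * c ∈ N := by
        intro u hu
        have := hNn.conj_mem (τ u) ((hτN u).2 hu) (c : G)⁻¹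
        rwa [inv_inv] at this
      have hsq : ∀ u : G, (c : G)⁻¹ * τ ((c : G)⁻¹ * τ u * c) * c = u := by
        intro u
        rw [map_mul, map_mul, map_inv, hcτ, sq_apply hτ]
        group
      let β : MulAut N :=
        { toFun := fun u => ⟨(c : G)⁻¹ * τ u * c, hconj u u.2⟩
          invFun := fun u => ⟨(c : G)⁻¹ * τ u * c, hconj u u.2⟩
          left_inv := fun u => Subtype.ext (hsq u)
          right_inv := fun u => Subtype.ext (hsq u)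
          map_mul' := fun a b => Subtype.ext (by
            show (c : G)⁻¹ * τ (a * b) * c = ((c : G)⁻¹ * τ a * c) * ((c : G)⁻¹ * τ b * c)
            rw [map_mul]; group) }
      have hβ : β * β = 1 := by
        ext u
        exact hsq u
      refine le_trans (Nat.mul_le_mul_right _ ?_) (hN β hβ)
      rw [← Fintype.card_coe, ← Nat.card_eq_fintype_card]
      have hmem : ∀ x : {x // x ∈ Finset.univ.filter fun x : Tw τ => (QuotientGroup.mk (x : G) : G ⧸ N) = q},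
          (c : G)⁻¹ * x.1 ∈ N := by
        intro x
        have hx := (Finset.mem_filter.1 x.2).2
        exact QuotientGroup.eq.1 (hcq.trans hx.symm)
      refine Nat.card_le_card_of_injective
        (fun x : {x // x ∈ Finset.univ.filter fun x : Tw τ => (QuotientGroup.mk (x : G) : G ⧸ N) = q} =>
          (⟨⟨(c : G)⁻¹ * x.1, hmem x⟩, ?_⟩ : Tw β)) ?_
      · apply Subtype.ext
        show ((c : G)⁻¹ * x.1) * ((c : G)⁻¹ * τ ((c : G)⁻¹ * x.1) * c) = 1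
        have hx : τ ((x.1 : Tw τ) : G) = ((x.1 : Tw τ) : G)⁻¹ := apply_eq_inv x.1.2
        rw [map_mul, map_inv, hcτ, hx]
        group
      · intro x y e
        have e1 : (c : G)⁻¹ * x.1 = (c : G)⁻¹ * y.1 := congrArg (fun z : Tw β => ((z : N) : G)) e
        exact Subtype.ext (Subtype.ext (mul_left_cancel e1))
  calc Nat.card (Tw τ) * p = ∑ q : G ⧸ N, (Finset.univ.filter fun x : Tw τ => (QuotientGroup.mk (x : G) : G ⧸ N) = q).card * p := by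
        rw [h0, Finset.sum_mul]
    _ ≤ ∑ _q : G ⧸ N, Nat.card N := Finset.sum_le_sum fun q _ => h1 q
    _ = Nat.card G := by
        rw [Finset.sum_const, Finset.card_univ, smul_eq_mul, ← Nat.card_eq_fintype_card,
          ← Subgroup.card_eq_card_quotient_mul_card_subgroup]

open CoxeterSystem Cfsg.Agent.ChevalleyStructure.CoxeterGeom Cfsg.Agent.Tits.Roots Cfsg.Agent.Tits.Core
  Cfsg.Agent.Tits.Exchange Cfsg.Agent.Nodes.Reps Cfsg.Agent.Nodes.BNOf Cfsg.Agent.Nodes.StabComb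
  Cfsg.Agent.Nodes.Bruhat Cfsg.Agent.Nodes.OppDec Cfsg.Agent.Nodes.LeviDec Cfsg.Agent.Nodes.NormalForm
  Cfsg.Agent.KFacts.RgdOpp Cfsg.Agent.KFacts.RgdAut Cfsg.Agent.KFacts.RgdDiag Cfsg.Agent.Nodes.CardSup
  Cfsg.Agent.Nodes.BNOf.RGD Cfsg.Agent.Nodes.Comb Cfsg.Agent.Nodes.Unique

variable {I W Y : Type*} [Fintype I] [DecidableEq I] [Group W] [Group Y] {M : CoxeterMatrix I}
  {cs : CoxeterSystem M W} {A : I → I → ℤ} {h : IsCartan M A} {p : ℕ} {T : Subgroup Y} {n : I → Y}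
  {X : (I → ℤ) → Subgroup Y} (R : RGD cs h p T n X)

include R

theorem cell_one {y : Y} (hy : Cell R.nsys cs h X 1 y) : y ∈ RGD.B cs h T X := by
  obtain ⟨b₁, hb₁, k, hk, b₂, hb₂, rfl⟩ := hy
  exact mul_mem (mul_mem hb₁ (T_le_B hk.mem_of_one)) hb₂

/-- the cell of `1` -/
theorem card_JJ_one [Finite W] [Finite Y] (hp : p.Prime) (hp2 : p ≠ 2) {α : MulAut Y} (hα : α * α = 1) {g : Y}
    (hU : Fix (MulAut.conj g * α) (RGD.Sup X (RGD.Pos cs h))) (hB : Fix (MulAut.conj g * α) (RGD.B cs h T X))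
    (hne : ∃ a ∈ RGD.Sup X (RGD.Pos cs h), ∃ b ∈ RGD.Sup X (RGD.Pos cs h), a * b ≠ b * a) {x : Y} (hx : x ∈ Tw α)
    (hy : x * g⁻¹ ∈ RGD.B cs h T X) :
    Nat.card (JJ α (RGD.B cs h T X) x) * p ≤ Nat.card (DD α (RGD.B cs h T X) x) := by
  set B := RGD.B cs h T X with hBdef
  set U := RGD.Sup X (RGD.Pos cs h) with hUdef
  have htau : ∀ c : Y, tau α x c = (x * g⁻¹) * (MulAut.conj g * α) c * (x * g⁻¹)⁻¹ := by
    intro c
    rw [tau_apply, MulAut.mul_apply, MulAut.conj_apply]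
    group
  have htB : ∀ c ∈ B, tau α x c ∈ B := by
    intro c hc
    rw [htau]
    exact mul_mem (mul_mem hy ((hB c).2 hc)) (inv_mem hy)
  have htU : ∀ c, tau α x c ∈ U ↔ c ∈ U := by
    intro c
    rw [htau, ← Subgroup.mem_normalizer_iff.1 (R.B_le_normalizer_U hy), hU]
  have hDD : DD α B x = B := by
    ext c
    rw [mem_DD hα hx]
    exact ⟨fun h => h.1, fun h => ⟨h, htB c h⟩⟩
  have hUB : U ≤ DD α B x := by
    rw [hDD]
    exact fun u hu => U_le_B hu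
  rw [card_JJ hα B hx]
  have : Fact p.Prime := ⟨hp⟩
  refine card_tw_ext (N := U.subgroupOf (DD α B x)) ?_ (tauD_mul_self hα B hx) ?_ ?_
  · refine ⟨fun u hu c => ?_⟩
    have hc : (c : Y) ∈ B := hDD.le c.2
    exact (Subgroup.mem_normalizer_iff.1 (R.B_le_normalizer_U hc) _).1 hu
  · intro c
    exact htU c
  · intro β hβ
    refine card_tw_mul_le hp hp2 ?_ ?_ hβ
    · have h1 : IsPGroup p U := R.isPGroup_Upos
      exact h1.of_equiv (Subgroup.subgroupOfEquivOfLe hUB).symm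
    · obtain ⟨a, ha, b, hb, hab⟩ := hne
      refine ⟨⟨⟨a, hUB ha⟩, ha⟩, ⟨⟨b, hUB hb⟩, hb⟩, fun e => hab ?_⟩
      exact congrArg (fun z : U.subgroupOf (DD α B x) => ((z : ↥(DD α B x)) : Y)) e

/-- `U` is not abelian if two nodes are joined -/
theorem U_not_comm [Finite W] {i j : I} (hij : i ≠ j) (hM : rep cs h (cs.simple i) (sr j) ≠ sr j) :
    ∃ a ∈ RGD.Sup X (RGD.Pos cs h), ∃ b ∈ RGD.Sup X (RGD.Pos cs h), a * b ≠ b * a := by
  by_contra hcon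
  push Not at hcon
  have hXU : ∀ i : I, ∀ u ∈ X (sr i), u ∈ RGD.Sup X (RGD.Pos cs h) := fun i u hu =>
    RGD.le_Sup (S := RGD.Pos cs h) ⟨isRoot_sr cs h i, sr_nonneg i⟩ hu
  obtain ⟨⟨u, hu⟩, hu1⟩ := Subgroup.ne_bot_iff_exists_ne_one.1 (X_ne_bot R (isRoot_sr cs h j))
  obtain ⟨⟨v, hv⟩, hv1⟩ := Subgroup.ne_bot_iff_exists_ne_one.1 (X_ne_bot R (isRoot_sr cs h i).neg)
  obtain ⟨a, ha, t, ht, b, hb, e⟩ := R.rk1 i v hv (fun h => hv1 (Subtype.ext h))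
  have hne1 : -sr i ≠ sr j := by
    intro e
    have := congrFun e i
    simp [sr, hij] at this
  have hne2 : -sr i ≠ -sr j := by
    intro e
    have := congrFun e i
    simp [sr, hij] at this
  have hno : ∀ z, ¬ Btwn cs h (-sr i) (sr j) z := by
    rintro z ⟨hz, m, a, b, hm, ha, hb, he⟩
    have h1 := congrFun he i
    have h2 := congrFun he j
    simp only [sr, hij, hij.symm, _root_.Pi.smul_apply, _root_.Int.zsmul_eq_mul, _root_.Cfsg.Agent.Tits.Roots.sr, _root_.smul_neg, _root_.zsmul_eq_mul, _root_.Pi.add_apply, _root_.Pi.neg_apply, _root_.Pi.mul_apply, _root_.Pi.intCast_apply, _root_.Int.cast_eq, _root_.Pi.single_eq_same, _root_.mul_one, _root_.ne_eq, _root_.not_false_eq_true, _root_.Pi.single_eq_of_ne, _root_.MulZeroClass.mul_zero, _root_.add_zero, _root_.neg_zero, _root_.zero_add] at h1 h2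
    rcases hz.pos_or_neg with h3 | h3
    · have h4 : 0 ≤ z i := h3 i
      nlinarith only [hm, ha, h1, h4]
    · have h4 : z j ≤ 0 := h3 j
      nlinarith only [hm, hb, h2, h4]
  have hvu : v * u = u * v := by
    have h1 := R.comm _ _ (isRoot_sr cs h i).neg (isRoot_sr cs h j) hne1 hne2 v hv u hu
    have h5 : btw cs h X (-sr i) (sr j) ≤ ⊥ := by
      unfold Nodes.Reps.btw
      refine iSup_le ?_
      rintro ⟨w, hw⟩
      exact absurd hw (hno w)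
    exact commutatorElement_eq_one_iff_mul_comm.1 ((Subgroup.mem_bot).1 (h5 h1))
  have hau := hcon a (hXU i a ha) u (hXU j u hu)
  have hbu := hcon b (hXU i b hb) u (hXU j u hu)
  have hk : t * n i = a⁻¹ * v * b⁻¹ := by rw [e]; group
  have hconj : (t * n i) * u * (t * n i)⁻¹ = u := by
    have h1 : Commute (t * n i) u := by
      rw [hk]
      exact ((Commute.inv_left hau).mul_left hvu).mul_left (Commute.inv_left hbu)
    rw [h1.eq, mul_inv_cancel_right]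
  have hmem : (t * n i) * u * (t * n i)⁻¹ ∈ X (rep cs h (cs.simple i) (sr j)) := by
    have h1 := R.conj_mem (rp_simple cs R.nsys i) (isRoot_sr cs h j) hu
    have h2 := R.tor _ ((isRoot_sr cs h j).act (cs.simple i)) t ht
    rw [← h2]
    have h3 : (t * n i) * u * (t * n i)⁻¹ = t * (n i * u * (n i)⁻¹) * t⁻¹ := by group
    rw [h3]
    exact conj_mem_cj.2 h1
  rw [hconj] at hmem
  have h1 : u ∈ X (rep cs h (cs.simple i) (sr j)) ⊓ X (sr j) := ⟨hmem, hu⟩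
  rw [X_inf_X R ((isRoot_sr cs h j).act _) (isRoot_sr cs h j) hM, Subgroup.mem_bot] at h1
  exact hu1 (Subtype.ext h1)

theorem same_dc [Finite W] {α : MulAut Y} {g : Y} (hB : Fix (MulAut.conj g * α) (RGD.B cs h T X)) {x y : Y} {w : W}
    (hx : Cell R.nsys cs h X w (x * g⁻¹)) (hy : Cell R.nsys cs h X w (y * g⁻¹)) :
    ∃ b ∈ RGD.B cs h T X, ∃ c ∈ RGD.B cs h T X, y = b * x * α c := by
  obtain ⟨b₁, hb₁, k, hk, b₂, hb₂, e⟩ := hx
  obtain ⟨c₁, hc₁, l, hl, c₂, hc₂, e'⟩ := hy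
  have ht : k⁻¹ * l ∈ T := by
    have := hk.inv.mul hl
    rw [inv_mul_cancel] at this
    exact this.mem_of_one
  have hd : b₂⁻¹ * (k⁻¹ * l) * c₂ ∈ RGD.B cs h T X :=
    mul_mem (mul_mem (inv_mem hb₂) (RGD.T_le_B ht)) hc₂
  have hdβ := (hB.inv (b₂⁻¹ * (k⁻¹ * l) * c₂)).2 hd
  refine ⟨c₁ * b₁⁻¹, mul_mem hc₁ (inv_mem hb₁), _, hdβ, ?_⟩
  have h2 : α ((MulAut.conj g * α)⁻¹ (b₂⁻¹ * (k⁻¹ * l) * c₂)) = g⁻¹ * (b₂⁻¹ * (k⁻¹ * l) * c₂) * g := by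
    have h3 : (MulAut.conj g * α) ((MulAut.conj g * α)⁻¹ (b₂⁻¹ * (k⁻¹ * l) * c₂)) = b₂⁻¹ * (k⁻¹ * l) * c₂ :=
      MulAut.apply_inv_self _ _ _
    rw [MulAut.mul_apply, MulAut.conj_apply] at h3
    have h4 : ∀ z v : Y, g * z * g⁻¹ = v → z = g⁻¹ * v * g := by
      intro z v e
      rw [← e]; group
    exact h4 _ _ h3
  rw [h2]
  have h4 : x = b₁ * k * b₂ * g := by rw [← e]; group
  have h5 : y = c₁ * l * c₂ * g := by rw [← e']; group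
  rw [h4, h5]
  group

/-- the count with the cell of `1` -/
theorem card_tw_le_odd [Finite W] [Finite Y] [Fact p.Prime] (hp2 : p ≠ 2) (hG : GG cs h T X = ⊤)
    (hne : ∃ a ∈ RGD.Sup X (RGD.Pos cs h), ∃ b ∈ RGD.Sup X (RGD.Pos cs h), a * b ≠ b * a) {α : MulAut Y}
    (hα : α * α = 1) {s : ℕ}
    (hs : ∀ (σ : Equiv.Perm I) (hσ : ∀ i j, M (σ i) (σ j) = M i j), Nat.card {w : W // hat cs σ hσ w = w⁻¹} ≤ s + 1) :
    Nat.card (Tw α) * p ≤ Nat.card ↥(RGD.B cs h T X) * (s * p + 1) := by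
  classical
  have hp : p.Prime := Fact.out
  obtain ⟨g, hU, hB, -, σ, D⟩ := exists_frame_any R hG α
  have hσ : ∀ i j, M (σ i) (σ j) = M i j := D.matrix R
  have : Fintype W := Fintype.ofFinite W
  have hcell : ∀ x : Y, ∃ w, Cell R.nsys cs h X w (x * g⁻¹) := fun x =>
    (mem_GG R).1 (by rw [hG]; exact Subgroup.mem_top _)
  choose δ hδ using hcell
  set S := Finset.univ.filter fun w : W => hat cs σ hσ w = w⁻¹ with hS
  have h1S : (1 : W) ∈ S := Finset.mem_filter.2 ⟨Finset.mem_univ _, by rw [map_one, inv_one]⟩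
  have hp0 : (0 : ℚ) < p := by exact_mod_cast hp.pos
  have h1 := card_tw_le_sum hα (RGD.B cs h T X) δ S
    (fun x hx => Finset.mem_filter.2 ⟨Finset.mem_univ _, cell_of_tw R hG hα hU hB D hσ hx (hδ x)⟩)
    (fun x _ y _ hxy => same_dc R hB (hδ x) (by rw [hxy]; exact hδ y)) (fun w => if w = 1 then 1 / p else 1)
    (fun w _ => by split_ifs <;> (clear * - hp0; positivity)) ?_
  · have h2 : ∑ w ∈ S, (if w = 1 then (1 / p : ℚ) else 1) ≤ 1 / p + s := by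
      rw [← Finset.add_sum_erase S _ h1S, if_pos rfl]
      have h3 : ∑ w ∈ S.erase 1, (if w = 1 then (1 / p : ℚ) else 1) = (S.erase 1).card := by
        rw [Finset.card_eq_sum_ones, Nat.cast_sum]
        refine Finset.sum_congr rfl fun w hw => ?_
        rw [if_neg (Finset.ne_of_mem_erase hw), Nat.cast_one]
      rw [h3]
      have h4 : (S.erase 1).card ≤ s := by
        rw [Finset.card_erase_of_mem h1S]
        have h5 : Nat.card {w : W // hat cs σ hσ w = w⁻¹} = S.card := by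
          rw [Nat.card_eq_fintype_card, Fintype.card_subtype]
        have := hs σ hσ
        omega
      have : ((S.erase 1).card : ℚ) ≤ s := by exact_mod_cast h4
      linarith only [this]
    have h6 : (Nat.card (Tw α) * p : ℚ) ≤ Nat.card ↥(RGD.B cs h T X) * (s * p + 1) := by
      calc (Nat.card (Tw α) * p : ℚ) ≤ (Nat.card ↥(RGD.B cs h T X) * (1 / p + s)) * p := by
            have := h1.trans (mul_le_mul_of_nonneg_left h2 (by (clear * - h; positivity)))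
            gcongr
        _ = _ := by field_simp; ring
    exact_mod_cast h6
  · intro x hx
    split_ifs with hw
    · have h2 := card_JJ_one R hp hp2 hα hU hB hne hx (cell_one R (by have := hδ x; rwa [hw] at this))
      have h3 : (Nat.card (JJ α (RGD.B cs h T X) x) * p : ℚ) ≤ Nat.card (DD α (RGD.B cs h T X) x) := by exact_mod_cast h2
      rw [one_div, inv_mul_eq_div, le_div_iff₀ hp0]
      exact h3
    · rw [one_mul]
      exact_mod_cast card_JJ_le α (RGD.B cs h T X) x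

/-- **the criterion** for odd `p` -/
theorem cube_of_odd [Finite W] [Finite Y] [Fact p.Prime] (hp2 : p ≠ 2) (hG : GG cs h T X = ⊤)
    (hne : ∃ a ∈ RGD.Sup X (RGD.Pos cs h), ∃ b ∈ RGD.Sup X (RGD.Pos cs h), a * b ≠ b * a) {s N : ℕ}
    (hs : ∀ (σ : Equiv.Perm I) (hσ : ∀ i j, M (σ i) (σ j) = M i j), Nat.card {w : W // hat cs σ hσ w = w⁻¹} ≤ s + 1)
    (hN : Nat.card ↥(RGD.B cs h T X) * N ≤ Nat.card Y) (hlt : (s * p + 1) ^ (3:ℕ) * Nat.card Y < (p * N) ^ (3:ℕ)) : CubeBound Y := by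
  apply CubeBound.of_tw
  intro α hα
  have h1 := card_tw_le_odd R hp2 hG hne (mul_self_of_order hα) hs
  set b := Nat.card ↥(RGD.B cs h T X)
  set y := Nat.card Y
  set t := Nat.card (Tw α)
  have hy : 0 < y := Nat.card_pos
  have h3 : t ^ (3:ℕ) * (p * N) ^ (3:ℕ) ≤ y ^ (3:ℕ) * (s * p + 1) ^ (3:ℕ) := by
    calc t ^ (3:ℕ) * (p * N) ^ (3:ℕ) = (t * p) ^ (3:ℕ) * N ^ (3:ℕ) := by ring
      _ ≤ (b * (s * p + 1)) ^ (3:ℕ) * N ^ (3:ℕ) := Nat.mul_le_mul_right _ (Nat.pow_le_pow_left h1 3)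
      _ = (b * N) ^ (3:ℕ) * (s * p + 1) ^ (3:ℕ) := by ring
      _ ≤ y ^ (3:ℕ) * (s * p + 1) ^ (3:ℕ) := Nat.mul_le_mul_right _ (Nat.pow_le_pow_left hN 3)
  have h4 : y ^ (3:ℕ) * (s * p + 1) ^ (3:ℕ) < y ^ (2:ℕ) * (p * N) ^ (3:ℕ) := by
    calc y ^ (3:ℕ) * (s * p + 1) ^ (3:ℕ) = y ^ (2:ℕ) * ((s * p + 1) ^ (3:ℕ) * y) := by ring
      _ < y ^ (2:ℕ) * (p * N) ^ (3:ℕ) := Nat.mul_lt_mul_of_pos_left hlt (by positivity)
  exact Nat.lt_of_mul_lt_mul_right (h3.trans_lt h4)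

/-- **the criterion** with a central involution of `W` not centralising `T` -/
theorem cube_of_ref [Finite W] [Finite Y] [Fact p.Prime] (hG : GG cs h T X = ⊤)
    (hTc : ∀ s ∈ T, ∀ t ∈ T, s * t = t * s) {v : W} {kv : Y}
    (hv : Rp cs R.nsys v kv) (hv2 : v * v = 1) (hvc : ∀ w, w * v = v * w)
    (hvσ : ∀ (σ : Equiv.Perm I) (hσ : ∀ i j, M (σ i) (σ j) = M i j), hat cs σ hσ v = v) (hne : ∃ t ∈ T, kv * t * kv⁻¹ ≠ t)
    {l : ℕ} (hl : ∀ d, d ∣ Nat.card T → d ≠ 1 → l ≤ d) (hl0 : 0 < l) {s N : ℕ}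
    (hs : ∀ (σ : Equiv.Perm I) (hσ : ∀ i j, M (σ i) (σ j) = M i j), Nat.card {w : W // hat cs σ hσ w = w⁻¹} ≤ s)
    (hN : Nat.card ↥(RGD.B cs h T X) * N ≤ Nat.card Y) (hlt : (s * (l + 1)) ^ (3:ℕ) * Nat.card Y < (2 * l * N) ^ (3:ℕ)) :
    CubeBound Y := by
  apply CubeBound.of_tw
  intro α hα
  obtain ⟨σ, hσ, h0⟩ := Ref.card_tw_le_ref R hG hTc (mul_self_of_order hα) hv hv2 hvc hvσ hne hl hl0
  have h1 : 2 * l * Nat.card (Tw α) ≤ Nat.card ↥(RGD.B cs h T X) * (s * (l + 1)) :=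
    h0.trans (Nat.mul_le_mul_left _ (Nat.mul_le_mul_right _ (hs σ hσ)))
  set b := Nat.card ↥(RGD.B cs h T X)
  set y := Nat.card Y
  set t := Nat.card (Tw α)
  have hy : 0 < y := Nat.card_pos
  have h3 : t ^ (3:ℕ) * (2 * l * N) ^ (3:ℕ) ≤ y ^ (3:ℕ) * (s * (l + 1)) ^ (3:ℕ) := by
    calc t ^ (3:ℕ) * (2 * l * N) ^ (3:ℕ) = (2 * l * t) ^ (3:ℕ) * N ^ (3:ℕ) := by ring
      _ ≤ (b * (s * (l + 1))) ^ (3:ℕ) * N ^ (3:ℕ) := Nat.mul_le_mul_right _ (Nat.pow_le_pow_left h1 3)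
      _ = (b * N) ^ (3:ℕ) * (s * (l + 1)) ^ (3:ℕ) := by ring
      _ ≤ y ^ (3:ℕ) * (s * (l + 1)) ^ (3:ℕ) := Nat.mul_le_mul_right _ (Nat.pow_le_pow_left hN 3)
  have h4 : y ^ (3:ℕ) * (s * (l + 1)) ^ (3:ℕ) < y ^ (2:ℕ) * (2 * l * N) ^ (3:ℕ) := by
    calc y ^ (3:ℕ) * (s * (l + 1)) ^ (3:ℕ) = y ^ (2:ℕ) * ((s * (l + 1)) ^ (3:ℕ) * y) := by ring
      _ < y ^ (2:ℕ) * (2 * l * N) ^ (3:ℕ) := Nat.mul_lt_mul_of_pos_left hlt (by positivity)
  exact Nat.lt_of_mul_lt_mul_right (h3.trans_lt h4)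

end Cfsg.Agent.H383.Cube.Odd
end

-- part: H383/Cube/TorWitt
section
/-!
# The torus of the groups of Witt frames (helper383, S5721)

* `tor_comm` : the torus is commutative if `dim V0 ≤ 1`;
* `conj_ne` : the element `-1` of the Weyl group does not centralise the torus;
* `cube_wit` : the refined criterion.
-/

set_option autoImplicit false
set_option linter.unusedSectionVars false

namespace Cfsg.Agent.H383.Cube.TorWitt

open Cfsg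
open CoxeterSystem Cfsg.Agent.ChevalleyStructure.CoxeterGeom Cfsg.Agent.Tits.Roots Cfsg.Agent.Tits.Core
  Cfsg.Agent.Nodes.Comb Cfsg.Agent.Nodes.Reps Cfsg.Agent.Nodes.BNOf
  Cfsg.Agent.Nodes.RGDLib Cfsg.Agent.Nodes.Bruhat Cfsg.Agent.KFacts.RgdDiag
open Cfsg.Agent.Nodes Cfsg.Agent.Nodes.WittAll Cfsg.Agent.Nodes.WittU Cfsg.Agent.Nodes.WittInst
  Cfsg.Agent.Nodes.WittRoot Cfsg.Agent.Nodes.CardWitt Cfsg.Agent.Nodes.CardSup
  Cfsg.Agent.TitsThree Cfsg.Agent.TitsThree.Siegel Cfsg.Agent.TitsThree.SiegelGen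
  Cfsg.Agent.TitsThree.WittFrame Cfsg.Agent.TitsThree.WBridge Cfsg.Agent.TitsThree.WittWeyl
  Cfsg.Agent.TitsThree.FrameCN Cfsg.Agent.Nodes.TypeC Cfsg.Agent.Nodes.WittRGD

variable {F : Type*} [Field F] {V : Type*} [AddCommGroup V] [Module F V] {H : HForm F V} {n : ℕ}
  {Fr : Frame H (Fin n)}

theorem exists_scal {G0 : Subgroup (V ≃ₗ[F] V)} (hA : Amb Fr G0) {d : V} (hd : ∀ v ∈ Fr.V0, ∃ a : F, v = a • d)
    (hd0 : d ∈ Fr.V0) {g : V ≃ₗ[F] V} (hg : g ∈ G0) {π ρ : Fin n × Bool → Fin n × Bool} (hm : Mono Fr g π)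
    (hρ : ∀ x, π (ρ x) = x) : ∃ μ : F, ∀ w ∈ Fr.V0, g w = μ • w := by
  obtain ⟨μ, hμ⟩ := hd _ (hA.map_V0 hg hm hρ hd0)
  refine ⟨μ, fun w hw => ?_⟩
  obtain ⟨a, rfl⟩ := hd w hw
  rw [map_smul, hμ, smul_comm]

theorem tor_comm {G0 : Subgroup (V ≃ₗ[F] V)} (hA : Amb Fr G0) {d : V} (hd : ∀ v ∈ Fr.V0, ∃ a : F, v = a • d)
    (hd0 : d ∈ Fr.V0) {g k : V ≃ₗ[F] V} (hg : g ∈ Tor Fr G0) (hk : k ∈ Tor Fr G0) : g * k = k * g := by
  obtain ⟨μ, hμ⟩ := exists_scal hA hd hd0 hg.1 hg.2 (ρ := id) (fun _ => rfl)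
  obtain ⟨ν, hν⟩ := exists_scal hA hd hd0 hk.1 hk.2 (ρ := id) (fun _ => rfl)
  have key : (k * g)⁻¹ * (g * k) = 1 := by
    refine Amb.eq_one_of_fix hA ?_ ?_
    · intro x
      obtain ⟨l, -, hl⟩ := hg.2 x
      obtain ⟨m, -, hm⟩ := hk.2 x
      have h1 : (g * k) (Fr.b x) = (k * g) (Fr.b x) := by
        change g (k (Fr.b x)) = k (g (Fr.b x))
        rw [hl, hm, map_smul, map_smul]
        change m • g (Fr.b x) = l • k (Fr.b x)
        rw [hl, hm]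
        change m • l • Fr.b x = l • m • Fr.b x
        rw [smul_comm]
      change (k * g)⁻¹ ((g * k) (Fr.b x)) = Fr.b x
      rw [h1]
      exact (k * g).symm_apply_apply _
    · intro w hw
      have h1 : (g * k) w = (k * g) w := by
        change g (k w) = k (g w)
        rw [hμ w hw, hν w hw, map_smul, map_smul, hμ w hw, hν w hw, smul_comm]
      change (k * g)⁻¹ ((g * k) w) = w
      rw [h1]
      exact (k * g).symm_apply_apply _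
  exact (inv_mul_eq_one.1 key).symm

variable {K : Type*} [Group K] (M : Model Fr K)

theorem T_comm (hA : Amb Fr M.I) {d : V} (hd : ∀ v ∈ Fr.V0, ∃ a : F, v = a • d) (hd0 : d ∈ Fr.V0) :
    ∀ s ∈ WittModel.T M, ∀ t ∈ WittModel.T M, s * t = t * s := by
  rintro _ ⟨g, hg, rfl⟩ _ ⟨k, hk, rfl⟩
  have h1 : g * k = k * g := Subtype.ext (tor_comm hA hd hd0 hg hk)
  have h2 := congrArg M.φ h1
  rwa [map_mul, map_mul] at h2

/-- the element `k`, which acts as `-1` on the frame, does not centralise the torus -/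
theorem conj_ne (hA : Amb Fr M.I) {k : V ≃ₗ[F] V} (hk : k ∈ M.I) (hkm : Mono Fr k neg) {i : Fin n}
    (hi : ¬ (i : ℕ) + 1 < n) {p p' : Fr.Adm} (hp : p.c ≠ 0) (hp' : p'.c ≠ 0)
    (hne : p.c * H.σ p.c ≠ p'.c * H.σ p'.c) {z : V} (hz0 : z ≠ 0) (hzh : H.h z (Fr.b (i, true)) = 0)
    (hzg : ∀ t ∈ Tor Fr M.I, (∀ y : Fin n × Bool, y.1 ≠ i → t (Fr.b y) = Fr.b y) → k (t (k⁻¹ (t⁻¹ z))) = z) :
    ∃ t ∈ WittModel.T M, M.φ ⟨k, hk⟩ * t * (M.φ ⟨k, hk⟩)⁻¹ ≠ t := by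
  set x0 : Fin n × Bool := (i, true) with hx0
  have hη := Fr.η_ne x0
  have hε := H.ε_ne
  have hσ : H.σ p.c ≠ 0 := by simpa using hp
  have hσ' : H.σ p'.c ≠ 0 := by simpa using hp'
  set t : V ≃ₗ[F] V := nZ Fr x0 p * (nZ Fr x0 p')⁻¹ with ht
  have hpI : nZ Fr x0 p ∈ M.I := mul_mem (mul_mem (hA.Z_mem _ _) (hA.Z_mem _ _)) (hA.Z_mem _ _)
  have hpI' : nZ Fr x0 p' ∈ M.I := mul_mem (mul_mem (hA.Z_mem _ _) (hA.Z_mem _ _)) (hA.Z_mem _ _)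
  have htT : t ∈ Tor Fr M.I :=
    ⟨mul_mem hpI (inv_mem hpI'), ((mono_nZ hi hp).mul ((mono_nZ hi hp').inv (sg_sg i))).congr fun x => sg_sg i x⟩
  have hinv : ∀ (g : V ≃ₗ[F] V) (a b : V) (l : F), l ≠ 0 → g a = l • b → g⁻¹ b = l⁻¹ • a := by
    intro g a b l hl e
    have h1 : b = g (l⁻¹ • a) := by rw [map_smul, e, smul_smul, inv_mul_cancel₀ hl, one_smul]
    rw [h1]
    exact g.symm_apply_apply _
  have ht1 : t (Fr.b x0) = (p.c * p'.c⁻¹) • Fr.b x0 := by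
    change nZ Fr x0 p ((nZ Fr x0 p')⁻¹ (Fr.b x0)) = _
    rw [hinv _ _ _ _ (mul_ne_zero hη hp') (nZ_apply_neg Fr x0 p' hp'), map_smul, nZ_apply_neg Fr x0 p hp, smul_smul]
    congr 1
    field_simp
  have ht2 : t (Fr.b (neg x0)) = (H.σ p'.c * (H.σ p.c)⁻¹) • Fr.b (neg x0) := by
    change nZ Fr x0 p ((nZ Fr x0 p')⁻¹ (Fr.b (neg x0))) = _
    have hl : H.ε * (Fr.η x0)⁻¹ * (H.σ p'.c)⁻¹ ≠ 0 :=
      mul_ne_zero (mul_ne_zero hε (inv_ne_zero hη)) (inv_ne_zero hσ')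
    rw [hinv _ _ _ _ hl (nZ_apply_self Fr x0 p' hp'), map_smul, nZ_apply_self Fr x0 p hp, smul_smul]
    congr 1
    field_simp
  have hty : ∀ y : Fin n × Bool, y.1 ≠ i → t (Fr.b y) = Fr.b y := by
    intro y hy
    change nZ Fr x0 p ((nZ Fr x0 p')⁻¹ (Fr.b y)) = _
    have h1 : nZ Fr x0 p' (Fr.b y) = (1 : F) • Fr.b y := by rw [one_smul]; exact nZ_apply_of_ne Fr hy p'
    rw [hinv _ _ _ _ one_ne_zero h1, inv_one, one_smul]
    exact nZ_apply_of_ne Fr hy p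
  refine ⟨M.φ ⟨t, htT.1⟩, ⟨⟨t, htT.1⟩, htT, rfl⟩, fun e => ?_⟩
  have hgI : k * t * k⁻¹ * t⁻¹ ∈ M.I := mul_mem (mul_mem (mul_mem hk htT.1) (inv_mem hk)) (inv_mem htT.1)
  have h1 : M.φ ⟨k * t * k⁻¹ * t⁻¹, hgI⟩ = 1 := by
    have h2 : (⟨k * t * k⁻¹ * t⁻¹, hgI⟩ : M.I) = ⟨k, hk⟩ * ⟨t, htT.1⟩ * (⟨k, hk⟩ : M.I)⁻¹ * (⟨t, htT.1⟩ : M.I)⁻¹ := rfl
    rw [h2, map_mul, map_mul, map_mul, map_inv, map_inv, e, mul_inv_cancel]
  -- on `b (neg x0)`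
  have hb : (k * t * k⁻¹ * t⁻¹) (Fr.b (neg x0)) = ((p.c * H.σ p.c) * (p'.c * H.σ p'.c)⁻¹) • Fr.b (neg x0) := by
    change k (t (k⁻¹ (t⁻¹ (Fr.b (neg x0))))) = _
    obtain ⟨l, hl, hkl⟩ := hkm x0
    rw [hinv t _ _ _ (mul_ne_zero hσ' (inv_ne_zero hσ)) ht2, map_smul, hinv k _ _ _ hl hkl]
    simp only [map_smul]
    rw [ht1]
    simp only [map_smul]
    rw [hkl, smul_smul, smul_smul, smul_smul]
    congr 1
    field_simp
  obtain ⟨c, hc⟩ := M.ker (z + Fr.b (neg x0)) _ h1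
  have hz : (k * t * k⁻¹ * t⁻¹) z = z := hzg t htT hty
  have hc' : (k * t * k⁻¹ * t⁻¹) (z + Fr.b (neg x0)) = c • (z + Fr.b (neg x0)) := hc
  rw [map_add, hz, hb, smul_add] at hc'
  -- pairing with `b x0`
  have h3 := congrArg (fun v => H.h v (Fr.b x0)) hc'
  simp only [H.add_left, H.smul_left, hzh, mul_zero, zero_add, Fr.hb_neg_self] at h3
  have h4 : (p.c * H.σ p.c) * (p'.c * H.σ p'.c)⁻¹ = c := mul_right_cancel₀ hη h3
  rw [h4, add_left_inj] at hc'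
  have h5 : c = 1 := by
    have h6 : (1 - c) • z = 0 := by rw [sub_smul, one_smul, ← hc', sub_self]
    rcases smul_eq_zero.1 h6 with h7 | h7
    · exact (sub_eq_zero.1 h7).symm
    · exact absurd h7 hz0
  rw [h5] at h4
  exact hne ((mul_inv_eq_one₀ (mul_ne_zero hp' hσ')).1 h4)

theorem le_of_coprime {N p l : ℕ} (hN : N.Coprime p) (hN0 : 0 < N) (hl : l = 2 ∨ (p = 2 ∧ l = 3)) :
    ∀ d, d ∣ N → d ≠ 1 → l ≤ d := by
  intro d hd h1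
  have hd0 : 0 < d := Nat.pos_of_dvd_of_pos hd hN0
  rcases hl with rfl | ⟨rfl, rfl⟩
  · omega
  · have h2 : d ≠ 2 := by
      rintro rfl
      have := Nat.eq_one_of_dvd_coprimes hN hd (dvd_refl 2)
      omega
    omega

/-- **the refined criterion for the groups of Witt frames** -/
theorem cube_wit [Finite V] [Finite K] {p : ℕ} [Fact p.Prime] [CharP F p] (hA : Amb Fr M.I) {p0 : Fr.Adm}
    (hp0 : p0.c ≠ 0) (hn : 0 < n) {d : V} (hd : ∀ v ∈ Fr.V0, ∃ a : F, v = a • d) (hd0 : d ∈ Fr.V0)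
    {v : (CoxeterMatrix.B n).Group} {k : V ≃ₗ[F] V} (hk : k ∈ M.I) (hkm : Mono Fr k neg)
    (hv : Rp (CoxeterMatrix.B n).toCoxeterSystem
      (rgdC_model M (AmbT.of_amb hA p) hp0 (CoxeterMatrix.B n).toCoxeterSystem).nsys v (M.φ ⟨k, hk⟩))
    (hv2 : v * v = 1) (hvc : ∀ w, w * v = v * w)
    (hvσ : ∀ (σ : Equiv.Perm (Fin n)) (hσ : ∀ i j, CoxeterMatrix.B n (σ i) (σ j) = CoxeterMatrix.B n i j),
      hat (CoxeterMatrix.B n).toCoxeterSystem σ hσ v = v)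
    {i : Fin n} (hi : ¬ (i : ℕ) + 1 < n) {pa pb : Fr.Adm} (hpa : pa.c ≠ 0) (hpb : pb.c ≠ 0)
    (hne : pa.c * H.σ pa.c ≠ pb.c * H.σ pb.c) {z : V} (hz0 : z ≠ 0) (hzh : H.h z (Fr.b (i, true)) = 0)
    (hzg : ∀ t ∈ Tor Fr M.I, (∀ y : Fin n × Bool, y.1 ≠ i → t (Fr.b y) = Fr.b y) → k (t (k⁻¹ (t⁻¹ z))) = z)
    {l : ℕ} (hl : l = 2 ∨ (p = 2 ∧ l = 3)) {a b : ℕ} (ha : a ≤ Nat.card F) (hb : b ≤ Nat.card Fr.Adm)
    (hlt : (sB n * (l + 1)) ^ (3:ℕ) * Nat.card K < (2 * l * NB a b n) ^ (3:ℕ)) : CubeBound K := by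
  have hAT := AmbT.of_amb hA p
  have hfin : Finite (CoxeterMatrix.B n).Group := Nodes.TypeC.finite_W (CoxeterMatrix.B n).toCoxeterSystem
  have R := rgdC_model M hAT hp0 (CoxeterMatrix.B n).toCoxeterSystem
  have hGG := H807.CubePar.GG_eq_top (T := WittModel.T M)
    (WittModel.G1_eq_top M hn (CoxeterMatrix.B n).toCoxeterSystem)
  have hne' := conj_ne M hA hk hkm hi hpa hpb hne hz0 hzh hzg
  have hcop : (Nat.card (WittModel.T M)).Coprime p := R.tcop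
  refine Odd.cube_of_ref R hGG (T_comm M hA hd hd0) hv hv2 hvc hvσ hne'
    (le_of_coprime hcop Nat.card_pos hl) (by omega) (fun σ hσ => H461.CoxB.card_tw_B _ σ hσ)
    (index_B R hGG (a := a) (b := b) fun j => ?_) hlt
  split_ifs with hj
  · exact ha.trans (H807.CubePar.card_short M hAT hp0 hj).ge
  · exact hb.trans (H807.CubePar.card_last_ge M hj)

/-- rank one -/
theorem cube_wit_one {Fr : Frame H (Fin 1)} (M : Model Fr K) [Finite V] [Finite K] {p : ℕ} [Fact p.Prime] [CharP F p]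
    (hA : Amb Fr M.I) {p0 : Fr.Adm}
    (hp0 : p0.c ≠ 0) {d : V} (hd : ∀ v ∈ Fr.V0, ∃ a : F, v = a • d) (hd0 : d ∈ Fr.V0) (hd1 : d ≠ 0)
    {pa pb : Fr.Adm} (hpa : pa.c ≠ 0) (hpb : pb.c ≠ 0)
    (hne : pa.c * H.σ pa.c ≠ pb.c * H.σ pb.c)
    {l : ℕ} (hl : l = 2 ∨ (p = 2 ∧ l = 3)) {a b : ℕ} (ha : a ≤ Nat.card F) (hb : b ≤ Nat.card Fr.Adm)
    (hlt : (sB 1 * (l + 1)) ^ (3:ℕ) * Nat.card K < (2 * l * NB a b 1) ^ (3:ℕ)) : CubeBound K := by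
  have hAT := AmbT.of_amb hA p
  have hk : nn Fr p0 0 ∈ M.I := WittAll.nn_mem hAT p0 0
  have hkm : Mono Fr (nn Fr p0 0) neg := (mono_nn hp0 0).congr (by decide)
  have hfin : Finite (CoxeterMatrix.B 1).Group := Nodes.TypeC.finite_W (CoxeterMatrix.B 1).toCoxeterSystem
  refine cube_wit M hA hp0 Nat.one_pos hd hd0 (v := (CoxeterMatrix.B 1).toCoxeterSystem.simple 0) hk hkm
    (rp_simple _ _ 0) ((CoxeterMatrix.B 1).toCoxeterSystem.simple_mul_simple_self 0) ?_ ?_ (i := 0) (by simp) hpa hpb hne hd1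
    (Fr.h0' _ hd0) ?_ hl ha hb hlt
  · intro w
    obtain ⟨ω, rfl⟩ := (CoxeterMatrix.B 1).toCoxeterSystem.wordProd_surjective w
    induction ω with
    | nil => rw [wordProd_nil, one_mul, mul_one]
    | cons j ω ih =>
      have hj : j = 0 := Subsingleton.elim _ _
      rw [wordProd_cons, hj, mul_assoc, ih]
  · intro σ hσ
    rw [hat_simple]
    congr 1
    exact Subsingleton.elim _ _
  · intro t ht _
    obtain ⟨μ, hμ⟩ := exists_scal hA hd hd0 ht.1 ht.2 (ρ := id) (fun _ => rfl)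
    obtain ⟨μ', hμ'⟩ := exists_scal hA hd hd0 (inv_mem ht).1 (inv_mem ht).2 (ρ := id) (fun _ => rfl)
    obtain ⟨ν, hν⟩ := exists_scal hA hd hd0 hk hkm (ρ := neg) (fun x => neg_neg x)
    obtain ⟨ν', hν'⟩ := exists_scal hA hd hd0 (inv_mem hk) (hkm.inv (fun x => neg_neg x)) (ρ := neg) (fun x => neg_neg x)
    have e1 : t (t⁻¹ d) = d := t.apply_symm_apply d
    have e2 : nn Fr p0 0 ((nn Fr p0 0)⁻¹ d) = d := (nn Fr p0 0).apply_symm_apply d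
    rw [hμ' d hd0, map_smul, hμ d hd0] at e1
    rw [hν' d hd0, map_smul, hν d hd0] at e2
    rw [hμ' d hd0, map_smul, hν' d hd0]
    simp only [map_smul]
    rw [hμ d hd0]
    simp only [map_smul]
    rw [hν d hd0]
    calc μ' • ν' • μ • ν • d = μ' • μ • (ν' • ν • d) := by simp only [smul_smul]; congr 1; ring
      _ = d := by rw [e2, e1]

theorem B_two : CoxeterMatrix.B 2 0 1 = 4 := by decide

/-- rank two -/
theorem cube_wit_two {Fr : Frame H (Fin 2)} (M : Model Fr K) [Finite V] [Finite K] {p : ℕ} [Fact p.Prime] [CharP F p]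
    (hA : Amb Fr M.I) {p0 : Fr.Adm}
    (hp0 : p0.c ≠ 0) {d : V} (hd : ∀ v ∈ Fr.V0, ∃ a : F, v = a • d) (hd0 : d ∈ Fr.V0)
    {pa pb : Fr.Adm} (hpa : pa.c ≠ 0) (hpb : pb.c ≠ 0)
    (hne : pa.c * H.σ pa.c ≠ pb.c * H.σ pb.c)
    {l : ℕ} (hl : l = 2 ∨ (p = 2 ∧ l = 3)) {a b : ℕ} (ha : a ≤ Nat.card F) (hb : b ≤ Nat.card Fr.Adm)
    (hlt : (sB 2 * (l + 1)) ^ (3:ℕ) * Nat.card K < (2 * l * NB a b 2) ^ (3:ℕ)) : CubeBound K := by
  have hAT := AmbT.of_amb hA p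
  have hn0 : nn Fr p0 0 ∈ M.I := WittAll.nn_mem hAT p0 0
  have hn1 : nn Fr p0 1 ∈ M.I := WittAll.nn_mem hAT p0 1
  have hk : nn Fr p0 0 * nn Fr p0 1 * (nn Fr p0 0 * nn Fr p0 1) ∈ M.I := mul_mem (mul_mem hn0 hn1) (mul_mem hn0 hn1)
  have hkm : Mono Fr (nn Fr p0 0 * nn Fr p0 1 * (nn Fr p0 0 * nn Fr p0 1)) neg :=
    (((mono_nn hp0 0).mul (mono_nn hp0 1)).mul ((mono_nn hp0 0).mul (mono_nn hp0 1))).congr (by decide)
  have hfin : Finite (CoxeterMatrix.B 2).Group := Nodes.TypeC.finite_W (CoxeterMatrix.B 2).toCoxeterSystem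
  set cs := (CoxeterMatrix.B 2).toCoxeterSystem with hcs
  set s := cs.simple 0 with hs
  set t := cs.simple 1 with ht
  have hss : s * s = 1 := cs.simple_mul_simple_self 0
  have htt : t * t = 1 := cs.simple_mul_simple_self 1
  have h4 : s * t * (s * t) * (s * t * (s * t)) = 1 := by
    have := cs.simple_mul_simple_pow 0 1
    rw [B_two] at this
    calc s * t * (s * t) * (s * t * (s * t)) = (s * t) ^ (4:ℕ) := by simp only [pow_succ, pow_zero, one_mul, mul_assoc]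
      _ = 1 := this
  have hsi : s⁻¹ = s := inv_eq_of_mul_eq_one_right hss
  have hti : t⁻¹ = t := inv_eq_of_mul_eq_one_right htt
  have hvi : (s * t * (s * t))⁻¹ = s * t * (s * t) := inv_eq_of_mul_eq_one_right h4
  have hvi' : t * s * (t * s) = s * t * (s * t) := by
    have h1 : (s * t * (s * t))⁻¹ = t * s * (t * s) := by rw [mul_inv_rev, mul_inv_rev, hsi, hti]
    rw [← h1, hvi]
  have hcs' : s * (s * t * (s * t)) = (s * t * (s * t)) * s := by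
    rw [← hvi']
    calc s * (t * s * (t * s)) = (s * t * (s * t)) * s := by group
      _ = _ := by rw [hvi']
  have hct : t * (s * t * (s * t)) = (s * t * (s * t)) * t := by
    calc t * (s * t * (s * t)) = (t * s * (t * s)) * t := by group
      _ = _ := by rw [hvi']
  refine cube_wit M hA hp0 Nat.two_pos hd hd0 (v := s * t * (s * t)) hk hkm ?_ h4 ?_ ?_ (i := 1) (by simp) hpa hpb hne
    (z := Fr.b (0, true)) ?_ ?_ ?_ hl ha hb hlt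
  · have e : M.φ ⟨_, hk⟩ = M.φ ⟨nn Fr p0 0, hn0⟩ * M.φ ⟨nn Fr p0 1, hn1⟩ *
        (M.φ ⟨nn Fr p0 0, hn0⟩ * M.φ ⟨nn Fr p0 1, hn1⟩) := by
      rw [← map_mul, ← map_mul]
      rfl
    rw [e]
    exact ((rp_simple cs _ 0).mul (rp_simple cs _ 1)).mul ((rp_simple cs _ 0).mul (rp_simple cs _ 1))
  · intro w
    obtain ⟨ω, rfl⟩ := cs.wordProd_surjective w
    induction ω with
    | nil => rw [wordProd_nil, one_mul, mul_one]
    | cons j ω ih =>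
      have hj : cs.simple j * (s * t * (s * t)) = (s * t * (s * t)) * cs.simple j := by
        fin_cases j
        · exact hcs'
        · exact hct
      rw [wordProd_cons, mul_assoc, ih, ← mul_assoc, hj, mul_assoc]
  · intro σ hσ
    rw [map_mul, map_mul, hs, ht, hat_simple, hat_simple]
    have hσ2 : (σ 0 = 0 ∧ σ 1 = 1) ∨ (σ 0 = 1 ∧ σ 1 = 0) := by
      have h1 : σ 0 ≠ σ 1 := fun h => absurd (σ.injective h) (by decide)
      revert h1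
      generalize σ 0 = x
      generalize σ 1 = y
      revert x y
      decide
    rcases hσ2 with ⟨h1, h2⟩ | ⟨h1, h2⟩
    · rw [h1, h2]
    · rw [h1, h2]
      exact hvi'
  · intro h0
    have := Fr.hb_neg_self ((0, true) : Fin 2 × Bool)
    rw [h0] at this
    have h1 : H.h (Fr.b (neg (0, true))) 0 = 0 := by
      have := H.smul_right (0 : F) (Fr.b (neg (0, true))) (0 : V)
      rwa [zero_smul, map_zero, zero_mul] at this
    rw [h1] at this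
    exact Fr.η_ne _ this.symm
  · exact Fr.hb_ne (by decide)
  · intro g _ hg
    have e1 : g⁻¹ (Fr.b (0, true)) = Fr.b (0, true) := by
      nth_rewrite 1 [← hg (0, true) (by decide)]
      exact g.symm_apply_apply _
    rw [e1]
    obtain ⟨l, hl, e2⟩ := hkm (0, false)
    have e3 : neg ((0, false) : Fin 2 × Bool) = (0, true) := rfl
    rw [e3] at e2
    generalize nn Fr p0 0 * nn Fr p0 1 * (nn Fr p0 0 * nn Fr p0 1) = k at e2
    have e4 : k⁻¹ (Fr.b (0, true)) = l⁻¹ • Fr.b (0, false) := by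
      have h1 : Fr.b (0, true) = k (l⁻¹ • Fr.b (0, false)) := by
        rw [map_smul, e2, smul_smul, inv_mul_cancel₀ hl, one_smul]
      rw [h1]
      exact k.symm_apply_apply _
    rw [e4, map_smul, hg (0, false) (by decide), map_smul, e2, smul_smul, inv_mul_cancel₀ hl, one_smul]

end Cfsg.Agent.H383.Cube.TorWitt
end

-- part: H807/CubePoly
section
/-!
# Polynomial inequalities for S5721 (task of helper383)
-/

set_option autoImplicit false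

namespace Cfsg.Agent.H807.CubeNum


theorem p_C2o (k : ℕ) : 108 * (k + 7) ^ (4:ℕ) * (k + 6) ^ (2:ℕ) < (1 + (k + 7)) ^ (4:ℕ) * (1 + (k + 7) ^ (2:ℕ)) ^ (2:ℕ) := by
  have h : 108 * (k + 7) ^ (4:ℕ) * (k + 6) ^ (2:ℕ) + (904912 + 2408368 * k + 1859124 * k ^ (2:ℕ) + 700432 * k ^ (3:ℕ) + 150476 * k ^ (4:ℕ) + 19352 * k ^ (5:ℕ) + 1468 * k ^ (6:ℕ) + 60 * k ^ (7:ℕ) + 1 * k ^ (8:ℕ)) = (1 + (k + 7)) ^ (4:ℕ) * (1 + (k + 7) ^ (2:ℕ)) ^ (2:ℕ) := by ring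
  have h0 : 0 < 904912 + 2408368 * k + 1859124 * k ^ (2:ℕ) + 700432 * k ^ (3:ℕ) + 150476 * k ^ (4:ℕ) + 19352 * k ^ (5:ℕ) + 1468 * k ^ (6:ℕ) + 60 * k ^ (7:ℕ) + 1 * k ^ (8:ℕ) := by (clear * -; positivity)
  exact lt_of_lt_of_eq (Nat.lt_add_of_pos_right h0) h

theorem p_C2e (k : ℕ) : 216 * (k + 16) ^ (4:ℕ) * (k + 15) ^ (2:ℕ) < (1 + (k + 16)) ^ (4:ℕ) * (1 + (k + 16) ^ (2:ℕ)) ^ (2:ℕ) := by
  have h : 216 * (k + 16) ^ (4:ℕ) * (k + 15) ^ (2:ℕ) + (2331428929 + 1450812676 * k + 371246664 * k ^ (2:ℕ) + 51979660 * k ^ (3:ℕ) + 4397558 * k ^ (4:ℕ) + 231356 * k ^ (5:ℕ) + 7408 * k ^ (6:ℕ) + 132 * k ^ (7:ℕ) + 1 * k ^ (8:ℕ)) = (1 + (k + 16)) ^ (4:ℕ) * (1 + (k + 16) ^ (2:ℕ)) ^ (2:ℕ) := by ring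
  have h0 : 0 < 2331428929 + 1450812676 * k + 371246664 * k ^ (2:ℕ) + 51979660 * k ^ (3:ℕ) + 4397558 * k ^ (4:ℕ) + 231356 * k ^ (5:ℕ) + 7408 * k ^ (6:ℕ) + 132 * k ^ (7:ℕ) + 1 * k ^ (8:ℕ) := by (clear * -; positivity)
  exact lt_of_lt_of_eq (Nat.lt_add_of_pos_right h0) h

theorem p_C3 (k : ℕ) : 8000 * (k + 2) ^ (9:ℕ) * (k + 1) ^ (3:ℕ) < ((1 + (k + 2)) ^ (2:ℕ) * (1 + (k + 2) ^ (2:ℕ)) * (1 + (k + 2) + (k + 2) ^ (2:ℕ)) * (1 + (k + 2) ^ (3:ℕ))) ^ (2:ℕ) := by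
  have h : 8000 * (k + 2) ^ (9:ℕ) * (k + 1) ^ (3:ℕ) + (3941225 + 25770210 * k + 84983379 * k ^ (2:ℕ) + 189298388 * k ^ (3:ℕ) + 315477747 * k ^ (4:ℕ) + 407575818 * k ^ (5:ℕ) + 412459191 * k ^ (6:ℕ) + 328141332 * k ^ (7:ℕ) + 205835874 * k ^ (8:ℕ) + 102123808 * k ^ (9:ℕ) + 40188058 * k ^ (10:ℕ) + 12562892 * k ^ (11:ℕ) + 3115519 * k ^ (12:ℕ) + 608714 * k ^ (13:ℕ) + 92123 * k ^ (14:ℕ) + 10444 * k ^ (15:ℕ) + 835 * k ^ (16:ℕ) + 42 * k ^ (17:ℕ) + 1 * k ^ (18:ℕ)) = ((1 + (k + 2)) ^ (2:ℕ) * (1 + (k + 2) ^ (2:ℕ)) * (1 + (k + 2) + (k + 2) ^ (2:ℕ)) * (1 + (k + 2) ^ (3:ℕ))) ^ (2:ℕ) := by (set_option synthInstance.maxSize 99999 in exact Cfsg.Agent.Lib.RingK.eqN (by decide +kernel))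
  have h0 : 0 < 3941225 + 25770210 * k + 84983379 * k ^ (2:ℕ) + 189298388 * k ^ (3:ℕ) + 315477747 * k ^ (4:ℕ) + 407575818 * k ^ (5:ℕ) + 412459191 * k ^ (6:ℕ) + 328141332 * k ^ (7:ℕ) + 205835874 * k ^ (8:ℕ) + 102123808 * k ^ (9:ℕ) + 40188058 * k ^ (10:ℕ) + 12562892 * k ^ (11:ℕ) + 3115519 * k ^ (12:ℕ) + 608714 * k ^ (13:ℕ) + 92123 * k ^ (14:ℕ) + 10444 * k ^ (15:ℕ) + 835 * k ^ (16:ℕ) + 42 * k ^ (17:ℕ) + 1 * k ^ (18:ℕ) := by (clear * -; positivity)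
  exact lt_of_lt_of_eq (Nat.lt_add_of_pos_right h0) h

theorem p_U4 (k : ℕ) : 216 * (k + 5) ^ (6:ℕ) * ((k + 4) * (k + 6)) ^ (2:ℕ) < (1 + (k + 5)) ^ (3:ℕ) * (1 + (k + 5) ^ (2:ℕ)) ^ (2:ℕ) * (1 + (k + 5) ^ (3:ℕ)) ^ (2:ℕ) := by
  have h : 216 * (k + 5) ^ (6:ℕ) * ((k + 4) * (k + 6)) ^ (2:ℕ) + (374150016 + 1749169728 * k + 2872095840 * k ^ (2:ℕ) + 2558862144 * k ^ (3:ℕ) + 1450929888 * k ^ (4:ℕ) + 565596900 * k ^ (5:ℕ) + 157874832 * k ^ (6:ℕ) + 32193348 * k ^ (7:ℕ) + 4821282 * k ^ (8:ℕ) + 525913 * k ^ (9:ℕ) + 40768 * k ^ (10:ℕ) + 2135 * k ^ (11:ℕ) + 68 * k ^ (12:ℕ) + 1 * k ^ (13:ℕ)) = (1 + (k + 5)) ^ (3:ℕ) * (1 + (k + 5) ^ (2:ℕ)) ^ (2:ℕ) * (1 + (k + 5) ^ (3:ℕ)) ^ (2:ℕ) := by (set_option synthInstance.maxSize 99999 in exact Cfsg.Agent.Lib.RingK.eqN (by decide +kernel))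
  have h0 : 0 < 374150016 + 1749169728 * k + 2872095840 * k ^ (2:ℕ) + 2558862144 * k ^ (3:ℕ) + 1450929888 * k ^ (4:ℕ) + 565596900 * k ^ (5:ℕ) + 157874832 * k ^ (6:ℕ) + 32193348 * k ^ (7:ℕ) + 4821282 * k ^ (8:ℕ) + 525913 * k ^ (9:ℕ) + 40768 * k ^ (10:ℕ) + 2135 * k ^ (11:ℕ) + 68 * k ^ (12:ℕ) + 1 * k ^ (13:ℕ) := by (clear * -; positivity)
  exact lt_of_lt_of_eq (Nat.lt_add_of_pos_right h0) h

theorem p_U5 (k : ℕ) : 216 * (k + 2) ^ (10:ℕ) * ((k + 1) * (k + 3)) ^ (2:ℕ) < ((1 + (k + 2) ^ (2:ℕ)) * (1 + (k + 2) ^ (3:ℕ)) * (1 + (k + 2) ^ (5:ℕ))) ^ (2:ℕ) := by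
  have h : 216 * (k + 2) ^ (10:ℕ) * ((k + 1) * (k + 3)) ^ (2:ℕ) + (214569 + 4839264 * k + 34031286 * k ^ (2:ℕ) + 128713914 * k ^ (3:ℕ) + 315665865 * k ^ (4:ℕ) + 550905930 * k ^ (5:ℕ) + 722661621 * k ^ (6:ℕ) + 738090054 * k ^ (7:ℕ) + 601080130 * k ^ (8:ℕ) + 396664002 * k ^ (9:ℕ) + 214347774 * k ^ (10:ℕ) + 95383714 * k ^ (11:ℕ) + 34993838 * k ^ (12:ℕ) + 10548058 * k ^ (13:ℕ) + 2589885 * k ^ (14:ℕ) + 510310 * k ^ (15:ℕ) + 78813 * k ^ (16:ℕ) + 9194 * k ^ (17:ℕ) + 762 * k ^ (18:ℕ) + 40 * k ^ (19:ℕ) + 1 * k ^ (20:ℕ)) = ((1 + (k + 2) ^ (2:ℕ)) * (1 + (k + 2) ^ (3:ℕ)) * (1 + (k + 2) ^ (5:ℕ))) ^ (2:ℕ) := by (set_option synthInstance.maxSize 99999 in exact Cfsg.Agent.Lib.RingK.eqN (by decide +kernel))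
  have h0 : 0 < 214569 + 4839264 * k + 34031286 * k ^ (2:ℕ) + 128713914 * k ^ (3:ℕ) + 315665865 * k ^ (4:ℕ) + 550905930 * k ^ (5:ℕ) + 722661621 * k ^ (6:ℕ) + 738090054 * k ^ (7:ℕ) + 601080130 * k ^ (8:ℕ) + 396664002 * k ^ (9:ℕ) + 214347774 * k ^ (10:ℕ) + 95383714 * k ^ (11:ℕ) + 34993838 * k ^ (12:ℕ) + 10548058 * k ^ (13:ℕ) + 2589885 * k ^ (14:ℕ) + 510310 * k ^ (15:ℕ) + 78813 * k ^ (16:ℕ) + 9194 * k ^ (17:ℕ) + 762 * k ^ (18:ℕ) + 40 * k ^ (19:ℕ) + 1 * k ^ (20:ℕ) := by (clear * -; positivity)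
  exact lt_of_lt_of_eq (Nat.lt_add_of_pos_right h0) h

theorem p_U3 (k : ℕ) : 8 * (k + 8) ^ (3:ℕ) * ((k + 7) * (k + 9)) < (1 + (k + 8) ^ (3:ℕ)) ^ (2:ℕ) := by
  have h : 8 * (k + 8) ^ (3:ℕ) * ((k + 7) * (k + 9)) + (5121 + 34688 * k + 20720 * k ^ (2:ℕ) + 5130 * k ^ (3:ℕ) + 640 * k ^ (4:ℕ) + 40 * k ^ (5:ℕ) + 1 * k ^ (6:ℕ)) = (1 + (k + 8) ^ (3:ℕ)) ^ (2:ℕ) := by ring
  have h0 : 0 < 5121 + 34688 * k + 20720 * k ^ (2:ℕ) + 5130 * k ^ (3:ℕ) + 640 * k ^ (4:ℕ) + 40 * k ^ (5:ℕ) + 1 * k ^ (6:ℕ) := by (clear * -; positivity)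
  exact lt_of_lt_of_eq (Nat.lt_add_of_pos_right h0) h

theorem p_2D (k : ℕ) : 8000 * (k + 2) ^ (12:ℕ) * (1 + (k + 2)) * (k + 1) ^ (3:ℕ) < ((1 + (k + 2)) * (1 + (k + 2) + (k + 2) ^ (2:ℕ)) * (1 + (k + 2) ^ (2:ℕ)) * (1 + (k + 2) ^ (3:ℕ)) * (1 + (k + 2) ^ (4:ℕ))) ^ (2:ℕ) := by
  have h : 8000 * (k + 2) ^ (12:ℕ) * (1 + (k + 2)) * (k + 1) ^ (3:ℕ) + (159780225 + 1696014460 * k + 8802723114 * k ^ (2:ℕ) + 29502774060 * k ^ (3:ℕ) + 71210605227 * k ^ (4:ℕ) + 131084998032 * k ^ (5:ℕ) + 190602537474 * k ^ (6:ℕ) + 224158917536 * k ^ (7:ℕ) + 216879693943 * k ^ (8:ℕ) + 174823531180 * k ^ (9:ℕ) + 118519980364 * k ^ (10:ℕ) + 68038670052 * k ^ (11:ℕ) + 33223157554 * k ^ (12:ℕ) + 13829717108 * k ^ (13:ℕ) + 4907217036 * k ^ (14:ℕ) + 1480476172 * k ^ (15:ℕ) + 377770087 * k ^ (16:ℕ) + 80846392 * k ^ (17:ℕ) + 14333226 * k ^ (18:ℕ) + 2068304 * k ^ (19:ℕ) + 236803 * k ^ (20:ℕ) +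 20700 * k ^ (21:ℕ) + 1298 * k ^ (22:ℕ) + 52 * k ^ (23:ℕ) + 1 * k ^ (24:ℕ)) = ((1 + (k + 2)) * (1 + (k + 2) + (k + 2) ^ (2:ℕ)) * (1 + (k + 2) ^ (2:ℕ)) * (1 + (k + 2) ^ (3:ℕ)) * (1 + (k + 2) ^ (4:ℕ))) ^ (2:ℕ) := by (set_option synthInstance.maxSize 99999 in exact Cfsg.Agent.Lib.RingK.eqN (by decide +kernel))
  have h0 : 0 < 159780225 + 1696014460 * k + 8802723114 * k ^ (2:ℕ) + 29502774060 * k ^ (3:ℕ) + 71210605227 * k ^ (4:ℕ) + 131084998032 * k ^ (5:ℕ) + 190602537474 * k ^ (6:ℕ) + 224158917536 * k ^ (7:ℕ) + 216879693943 * k ^ (8:ℕ) + 174823531180 * k ^ (9:ℕ) + 118519980364 * k ^ (10:ℕ) + 68038670052 * k ^ (11:ℕ) + 33223157554 * k ^ (12:ℕ) + 13829717108 * k ^ (13:ℕ) + 4907217036 * k ^ (14:ℕ) + 1480476172 * k ^ (15:ℕ) + 377770087 * k ^ (16:ℕ) + 80846392 * k ^ (17:ℕ) + 14333226 * k ^ (18:ℕ) + 2068304 * k ^ (19:ℕ) + 236803 * k ^ (20:ℕ) + 20700 * k ^ (21:ℕ) +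 1298 * k ^ (22:ℕ) + 52 * k ^ (23:ℕ) + 1 * k ^ (24:ℕ) := by (clear * -; positivity)
  exact lt_of_lt_of_eq (Nat.lt_add_of_pos_right h0) h

theorem p_D (k : ℕ) : 438976 * (k + 3) ^ (12:ℕ) * (k + 2) ^ (4:ℕ) < ((1 + (k + 3)) ^ (3:ℕ) * (1 + (k + 3) + (k + 3) ^ (2:ℕ)) * (1 + (k + 3) ^ (2:ℕ)) ^ (2:ℕ) * (1 + (k + 3) ^ (3:ℕ))) ^ (2:ℕ) := by
  have h : 438976 * (k + 3) ^ (12:ℕ) * (k + 2) ^ (4:ℕ) + (1694398649344 + 15080543320064 * k + 61513380980224 * k ^ (2:ℕ) + 154365134217728 * k ^ (3:ℕ) + 269233824459072 * k ^ (4:ℕ) + 349008731015424 * k ^ (5:ℕ) + 350752126428288 * k ^ (6:ℕ) + 281254904127744 * k ^ (7:ℕ) + 183675533612880 * k ^ (8:ℕ) + 99174721714816 * k ^ (9:ℕ) + 44770325804000 * k ^ (10:ℕ) + 17034314012320 * k ^ (11:ℕ) + 5492462455224 * k ^ (12:ℕ) + 1505274069584 * k ^ (13:ℕ) + 350834945360 * k ^ (14:ℕ) + 69396760664 * k ^ (15:ℕ) + 11593152641 * k ^ (16:ℕ)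 + 1622356044 * k ^ (17:ℕ) + 187881390 * k ^ (18:ℕ) + 17692620 * k ^ (19:ℕ) + 1320735 * k ^ (20:ℕ) + 75212 * k ^ (21:ℕ) + 3070 * k ^ (22:ℕ) + 80 * k ^ (23:ℕ) + 1 * k ^ (24:ℕ)) = ((1 + (k + 3)) ^ (3:ℕ) * (1 + (k + 3) + (k + 3) ^ (2:ℕ)) * (1 + (k + 3) ^ (2:ℕ)) ^ (2:ℕ) * (1 + (k + 3) ^ (3:ℕ))) ^ (2:ℕ) := by (set_option synthInstance.maxSize 99999 in exact Cfsg.Agent.Lib.RingK.eqN (by decide +kernel))
  have h0 : 0 < 1694398649344 + 15080543320064 * k + 61513380980224 * k ^ (2:ℕ) + 154365134217728 * k ^ (3:ℕ) + 269233824459072 * k ^ (4:ℕ) + 349008731015424 * k ^ (5:ℕ) + 350752126428288 * k ^ (6:ℕ) + 281254904127744 * k ^ (7:ℕ) + 183675533612880 * k ^ (8:ℕ) + 99174721714816 * k ^ (9:ℕ) + 44770325804000 * k ^ (10:ℕ) + 17034314012320 * k ^ (11:ℕ) + 5492462455224 * k ^ (12:ℕ) + 1505274069584 * k ^ (13:ℕ) + 350834945360 * k ^ (14:ℕ) + 69396760664 * k ^ (15:ℕ) + 11593152641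 * k ^ (16:ℕ) + 1622356044 * k ^ (17:ℕ) + 187881390 * k ^ (18:ℕ) + 17692620 * k ^ (19:ℕ) + 1320735 * k ^ (20:ℕ) + 75212 * k ^ (21:ℕ) + 3070 * k ^ (22:ℕ) + 80 * k ^ (23:ℕ) + 1 * k ^ (24:ℕ) := by (clear * -; positivity)
  exact lt_of_lt_of_eq (Nat.lt_add_of_pos_right h0) h

end Cfsg.Agent.H807.CubeNum
end

-- part: H807/CubeStep
section
/-!
# Numerical inequalities for S5721: the induction steps (task of helper383)
-/

set_option autoImplicit false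

namespace Cfsg.Agent.H807.CubeNum

open Cfsg.Agent.H383.Cube


/-! ### the numbers `sB` -/

theorem two_sB_le (n : ℕ) : 2 * sB n ≤ sB (n + 1) := by
  rcases n with _ | n
  · simp [sB]
  · rw [show sB (n + 1 + 1) = 2 * sB (n + 1) + 2 * (n + 1) * sB n from rfl]
    exact Nat.le_add_right _ _

theorem sB_succ_le (n : ℕ) : sB (n + 1) ≤ (n + 2) * sB n := by
  rcases n with _ | n
  · simp [sB]
  · rw [show sB (n + 1 + 1) = 2 * sB (n + 1) + 2 * (n + 1) * sB n from rfl]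
    have := two_sB_le n
    nlinarith

theorem cube_a (m : ℕ) (hm : 3 ≤ m) : (m + 2) ^ (3:ℕ) ≤ 2 ^ (2 * m + 1) := by
  induction m, hm using Nat.le_induction with
  | base => norm_num
  | succ m hm ih =>
    have h : (m + 1 + 2) ^ (3:ℕ) ≤ 4 * (m + 2) ^ (3:ℕ) := by nlinarith only [_root_.sq_nonneg (↑m : ℤ), _root_.Nat.cast_nonneg (α := ℤ) (m)]
    calc (m + 1 + 2) ^ (3:ℕ) ≤ 4 * (m + 2) ^ (3:ℕ) := h
      _ ≤ 4 * 2 ^ (2 * m + 1) := Nat.mul_le_mul_left 4 ih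
      _ = 2 ^ (2 * (m + 1) + 1) := by ring

theorem cube_b (m : ℕ) (hm : 2 ≤ m) : 4 * (m + 2) ^ (3:ℕ) ≤ 2 ^ (4 * m) := by
  induction m, hm using Nat.le_induction with
  | base => norm_num
  | succ m hm ih =>
    have h : (m + 1 + 2) ^ (3:ℕ) ≤ 16 * (m + 2) ^ (3:ℕ) := by nlinarith only [_root_.sq_nonneg (↑m : ℤ), _root_.Nat.cast_nonneg (α := ℤ) (m)]
    calc 4 * (m + 1 + 2) ^ (3:ℕ) ≤ 16 * (4 * (m + 2) ^ (3:ℕ)) := by linarith only [h]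
      _ ≤ 16 * 2 ^ (4 * m) := Nat.mul_le_mul_left 16 ih
      _ = 2 ^ (4 * (m + 1)) := by ring

theorem cube_c (m : ℕ) (hm : 4 ≤ m) : (m + 2) ^ (3:ℕ) ≤ 2 ^ (2 * m) := by
  induction m, hm using Nat.le_induction with
  | base => norm_num
  | succ m hm ih =>
    have h : (m + 1 + 2) ^ (3:ℕ) ≤ 4 * (m + 2) ^ (3:ℕ) := by nlinarith only [_root_.sq_nonneg (↑m : ℤ), _root_.Nat.cast_nonneg (α := ℤ) (m)]
    calc (m + 1 + 2) ^ (3:ℕ) ≤ 4 * (m + 2) ^ (3:ℕ) := h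
      _ ≤ 4 * 2 ^ (2 * m) := Nat.mul_le_mul_left 4 ih
      _ = 2 ^ (2 * (m + 1)) := by ring

theorem pow_aux {x : ℝ} (hx : 2 ≤ x) (k : ℕ) (hk : 1 ≤ k) : 2 ^ k * x ≤ 2 * x ^ k := by
  induction k, hk using Nat.le_induction with
  | base => simp
  | succ k hk ih =>
    have h0 : 0 ≤ x ^ k := by positivity
    calc 2 ^ (k + 1) * x = 2 * (2 ^ k * x) := by ring
      _ ≤ 2 * (2 * x ^ k) := by linarith
      _ ≤ x * (2 * x ^ k) := by nlinarith only [hx, h0]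
      _ = 2 * x ^ (k + 1) := by ring

theorem pow_aux2 {x : ℝ} (hx : 2 ≤ x) (k : ℕ) (hk : 2 ≤ k) : 2 ^ k * x ^ (2:ℕ) ≤ 4 * x ^ k := by
  induction k, hk using Nat.le_induction with
  | base => norm_num
  | succ k hk ih =>
    have h0 : 0 ≤ x ^ k := by positivity
    calc 2 ^ (k + 1) * x ^ (2:ℕ) = 2 * (2 ^ k * x ^ (2:ℕ)) := by ring
      _ ≤ 2 * (4 * x ^ k) := by linarith
      _ ≤ x * (4 * x ^ k) := by nlinarith only [hx, h0]
      _ = 4 * x ^ (k + 1) := by ring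

theorem cube_ra {x : ℝ} (hx : 2 ≤ x) (m : ℕ) (hm : 3 ≤ m) : ((m : ℝ) + 2) ^ (3:ℕ) * x ≤ 4 * (x ^ m) ^ (2:ℕ) := by
  have h1 : ((m : ℝ) + 2) ^ (3:ℕ) ≤ 2 ^ (2 * m + 1) := by exact_mod_cast cube_a m hm
  have h2 := pow_aux hx (2 * m) (by omega)
  calc ((m : ℝ) + 2) ^ (3:ℕ) * x ≤ 2 ^ (2 * m + 1) * x := by nlinarith only [hx, h1]
    _ = 2 * (2 ^ (2 * m) * x) := by ring
    _ ≤ 2 * (2 * x ^ (2 * m)) := by linarith
    _ = 4 * (x ^ m) ^ (2:ℕ) := by ring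

theorem cube_rb {x : ℝ} (hx : 2 ≤ x) (m : ℕ) (hm : 2 ≤ m) : ((m : ℝ) + 2) ^ (3:ℕ) * x ^ (2:ℕ) ≤ (x ^ m) ^ (4:ℕ) := by
  have h1 : 4 * ((m : ℝ) + 2) ^ (3:ℕ) ≤ 2 ^ (4 * m) := by exact_mod_cast cube_b m hm
  have h2 := pow_aux2 hx (4 * m) (by omega)
  have h3 : (4 * ((m : ℝ) + 2) ^ (3:ℕ)) * x ^ (2:ℕ) ≤ 2 ^ (4 * m) * x ^ (2:ℕ) :=
    mul_le_mul_of_nonneg_right h1 (by positivity)
  have h4 : x ^ (4 * m) = (x ^ m) ^ (4:ℕ) := by ring
  linarith only [h2, h3, h4]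

theorem cube_rc {x : ℝ} (hx : 2 ≤ x) (m : ℕ) (hm : 4 ≤ m) :
    ((m : ℝ) + 2) ^ (3:ℕ) * x ^ (2:ℕ) ≤ 4 * (x ^ m) ^ (2:ℕ) := by
  have h1 : ((m : ℝ) + 2) ^ (3:ℕ) ≤ 2 ^ (2 * m) := by exact_mod_cast cube_c m hm
  have h2 := pow_aux2 hx (2 * m) (by omega)
  have h3 : ((m : ℝ) + 2) ^ (3:ℕ) * x ^ (2:ℕ) ≤ 2 ^ (2 * m) * x ^ (2:ℕ) :=
    mul_le_mul_of_nonneg_right h1 (by positivity)
  have h4 : x ^ (2 * m) = (x ^ m) ^ (2:ℕ) := by ring
  linarith only [h2, h3, h4]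

theorem quartic {x : ℝ} (hx : 2 ≤ x) : 8 * (x - 1) ^ (3:ℕ) ≤ x ^ (4:ℕ) := by
  nlinarith only [hx, sq_nonneg (x ^ (2:ℕ) - 4 * x + 3), sq_nonneg x]

theorem half_sq {z : ℝ} (hz : 4 ≤ z) : z ^ (2:ℕ) ≤ 2 * (z - 1) ^ (2:ℕ) := by nlinarith only [hz]

/-- the induction step in abstract form -/
theorem step {s s' F f N g c m : ℕ} (hs : s' ≤ (m + 2) * s) (hlt : s ^ (3:ℕ) * F < c * N ^ (3:ℕ))
    (hfg : (m + 2) ^ (3:ℕ) * f ≤ g ^ (3:ℕ)) (hg : 0 < g) : s' ^ (3:ℕ) * (F * f) < c * (N * g) ^ (3:ℕ) := by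
  have h1 : s' ^ (3:ℕ) ≤ ((m + 2) * s) ^ (3:ℕ) := Nat.pow_le_pow_left hs 3
  calc s' ^ (3:ℕ) * (F * f) ≤ ((m + 2) * s) ^ (3:ℕ) * (F * f) := Nat.mul_le_mul_right _ h1
    _ = (s ^ (3:ℕ) * F) * ((m + 2) ^ (3:ℕ) * f) := by ring
    _ ≤ (s ^ (3:ℕ) * F) * g ^ (3:ℕ) := Nat.mul_le_mul_left _ hfg
    _ < (c * N ^ (3:ℕ)) * g ^ (3:ℕ) := Nat.mul_lt_mul_of_pos_right hlt (by positivity)
    _ = c * (N * g) ^ (3:ℕ) := by ring

theorem gsum {x : ℝ} (hx : 2 ≤ x) (n : ℕ) : (x - 1) * ∑ j ∈ Finset.range n, x ^ j = x ^ n - 1 := by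
  rw [mul_comm]; exact geom_sum_mul x n

theorem gsum_pos (q n : ℕ) : 0 < ∑ j ∈ Finset.range (n + 1), q ^ j := by
  rw [Finset.sum_range_succ']
  simp

theorem NB_succ (a b n : ℕ) :
    NB a b (n + 1) = NB a b n * ((∑ j ∈ Finset.range (n + 1), a ^ j) * (1 + a ^ n * b)) :=
  Finset.prod_range_succ _ _

/-! ### steps -/

theorem step_C (m q : ℕ) (hm : 3 ≤ m) (hq : 2 ≤ q) :
    (m + 2) ^ (3:ℕ) * (q ^ (2 * m + 1) * (q ^ (2 * (m + 1)) - 1)) ≤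
      ((∑ j ∈ Finset.range (m + 1), q ^ j) * (1 + q ^ m * q)) ^ (3:ℕ) := by
  have hx : (2 : ℝ) ≤ q := by exact_mod_cast hq
  have h1 : 1 ≤ q ^ (2 * (m + 1)) := Nat.one_le_pow _ _ (by omega)
  have hS := gsum hx (m + 1)
  have key : ((m : ℝ) + 2) ^ (3:ℕ) * ((q : ℝ) ^ (2 * m + 1) * ((q : ℝ) ^ (2 * (m + 1)) - 1)) ≤
      ((∑ j ∈ Finset.range (m + 1), (q : ℝ) ^ j) * (1 + (q : ℝ) ^ m * q)) ^ (3:ℕ) := by
    generalize hS' : (∑ j ∈ Finset.range (m + 1), (q : ℝ) ^ j) = S at hS ⊢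
    have ha := cube_ra hx m hm
    have hy : (4 : ℝ) ≤ (q : ℝ) ^ m := by
      calc (4 : ℝ) = 2 ^ (2:ℕ) := by norm_num
        _ ≤ (q : ℝ) ^ (2:ℕ) := by gcongr
        _ ≤ (q : ℝ) ^ m := pow_le_pow_right₀ (by linarith only [hx]) (by omega)
    rw [pow_succ] at hS
    rw [show (q : ℝ) ^ (2 * m + 1) = ((q : ℝ) ^ m) ^ (2:ℕ) * q by ring,
      show (q : ℝ) ^ (2 * (m + 1)) = ((q : ℝ) ^ m * q) ^ (2:ℕ) by ring]
    generalize (q : ℝ) ^ m = y at *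
    generalize (q : ℝ) = x at *
    have hx0 : 0 < x - 1 := by linarith
    have h3 := quartic hx
    have hz : 4 ≤ (x * y) ^ (2:ℕ) := by nlinarith only [mul_le_mul hx hy (by norm_num) (by linarith)]
    have h4 := half_sq hz
    have e : 0 < (x - 1) ^ (3:ℕ) := by positivity
    refine le_of_mul_le_mul_left ?_ e
    have e1 : (x - 1) ^ (3:ℕ) * (S * (1 + y * x)) ^ (3:ℕ) = ((x * y) ^ (2:ℕ) - 1) ^ (3:ℕ) := by
      calc (x - 1) ^ (3:ℕ) * (S * (1 + y * x)) ^ (3:ℕ) = ((x - 1) * S * (1 + y * x)) ^ (3:ℕ) := by (set_option synthInstance.maxSize 99999 in exact Cfsg.Agent.Lib.RingK.eq (by decide +kernel))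
        _ = ((x * y) ^ (2:ℕ) - 1) ^ (3:ℕ) := by rw [hS]; ring
    rw [e1]
    have e2 : (((m : ℝ) + 2) ^ (3:ℕ) * x) * (y ^ (2:ℕ) * (x - 1) ^ (3:ℕ)) ≤ (4 * y ^ (2:ℕ)) * (y ^ (2:ℕ) * (x - 1) ^ (3:ℕ)) :=
      mul_le_mul_of_nonneg_right ha (by positivity)
    have e3 : (4 * y ^ (2:ℕ)) * (y ^ (2:ℕ) * (x - 1) ^ (3:ℕ)) ≤ ((x * y) ^ (2:ℕ)) ^ (2:ℕ) / 2 := by
      have : 0 ≤ y ^ (4:ℕ) := by positivity
      linarith only [mul_le_mul_of_nonneg_left h3 this]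
    have e4 : (((m : ℝ) + 2) ^ (3:ℕ) * x) * (y ^ (2:ℕ) * (x - 1) ^ (3:ℕ)) ≤ ((x * y) ^ (2:ℕ) - 1) ^ (2:ℕ) := by linarith only [h4, e2, e3]
    have e5 : 0 ≤ (x * y) ^ (2:ℕ) - 1 := by linarith only [hz]
    calc (x - 1) ^ (3:ℕ) * (((m : ℝ) + 2) ^ (3:ℕ) * (y ^ (2:ℕ) * x * ((y * x) ^ (2:ℕ) - 1)))
        = ((((m : ℝ) + 2) ^ (3:ℕ) * x) * (y ^ (2:ℕ) * (x - 1) ^ (3:ℕ))) * ((x * y) ^ (2:ℕ) - 1) := by (set_option synthInstance.maxSize 99999 in exact Cfsg.Agent.Lib.RingK.eq (by decide +kernel))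
      _ ≤ ((x * y) ^ (2:ℕ) - 1) ^ (2:ℕ) * ((x * y) ^ (2:ℕ) - 1) := mul_le_mul_of_nonneg_right e4 e5
      _ = ((x * y) ^ (2:ℕ) - 1) ^ (3:ℕ) := by ring
  rw [← Nat.cast_le (α := ℝ)]
  push_cast [Nat.cast_sub h1]
  exact key

theorem step_Ueven (m q : ℕ) (hm : 2 ≤ m) (hq : 2 ≤ q) :
    (m + 2) ^ (3:ℕ) * (q ^ (4 * m + 1) * ((q ^ (2 * (m + 1)) - 1) * (q ^ (2 * m + 1) + 1))) ≤
      ((∑ j ∈ Finset.range (m + 1), (q ^ (2:ℕ)) ^ j) * (1 + (q ^ (2:ℕ)) ^ m * q)) ^ (3:ℕ) := by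
  have hx : (2 : ℝ) ≤ q := by exact_mod_cast hq
  have hx2 : (2 : ℝ) ≤ (q : ℝ) ^ (2:ℕ) := by nlinarith only [hx]
  have h1 : 1 ≤ q ^ (2 * (m + 1)) := Nat.one_le_pow _ _ (by omega)
  have hS := gsum hx2 (m + 1)
  have key : ((m : ℝ) + 2) ^ (3:ℕ) * ((q : ℝ) ^ (4 * m + 1) *
      (((q : ℝ) ^ (2 * (m + 1)) - 1) * ((q : ℝ) ^ (2 * m + 1) + 1))) ≤
      ((∑ j ∈ Finset.range (m + 1), ((q : ℝ) ^ (2:ℕ)) ^ j) * (1 + ((q : ℝ) ^ (2:ℕ)) ^ m * q)) ^ (3:ℕ) := by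
    generalize hS' : (∑ j ∈ Finset.range (m + 1), ((q : ℝ) ^ (2:ℕ)) ^ j) = S at hS ⊢
    have ha := cube_rb hx m hm
    have hy : (4 : ℝ) ≤ (q : ℝ) ^ m := by
      calc (4 : ℝ) = 2 ^ (2:ℕ) := by norm_num
        _ ≤ (q : ℝ) ^ (2:ℕ) := by gcongr
        _ ≤ (q : ℝ) ^ m := pow_le_pow_right₀ (by linarith only [hx]) (by omega)
    rw [show ((q : ℝ) ^ (2:ℕ)) ^ (m + 1) = ((q : ℝ) * (q : ℝ) ^ m) ^ (2:ℕ) by ring] at hS
    rw [show (q : ℝ) ^ (4 * m + 1) = ((q : ℝ) ^ m) ^ (4:ℕ) * q by ring,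
      show (q : ℝ) ^ (2 * (m + 1)) = ((q : ℝ) * (q : ℝ) ^ m) ^ (2:ℕ) by ring,
      show (q : ℝ) ^ (2 * m + 1) = ((q : ℝ) ^ m) ^ (2:ℕ) * q by ring,
      show ((q : ℝ) ^ (2:ℕ)) ^ m = ((q : ℝ) ^ m) ^ (2:ℕ) by ring]
    generalize (q : ℝ) ^ m = y at *
    generalize (q : ℝ) = x at *
    have hx0 : 0 < x ^ (2:ℕ) - 1 := by linarith
    have hz : 4 ≤ (x * y) ^ (2:ℕ) := by nlinarith only [mul_le_mul hx hy (by norm_num) (by linarith)]
    have h4 := half_sq hz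
    have e : 0 < (x ^ (2:ℕ) - 1) ^ (3:ℕ) := by positivity
    refine le_of_mul_le_mul_left ?_ e
    have e1 : (x ^ (2:ℕ) - 1) ^ (3:ℕ) * (S * (1 + y ^ (2:ℕ) * x)) ^ (3:ℕ) =
        (((x * y) ^ (2:ℕ) - 1) * (y ^ (2:ℕ) * x + 1)) ^ (3:ℕ) := by
      calc (x ^ (2:ℕ) - 1) ^ (3:ℕ) * (S * (1 + y ^ (2:ℕ) * x)) ^ (3:ℕ) = ((x ^ (2:ℕ) - 1) * S * (1 + y ^ (2:ℕ) * x)) ^ (3:ℕ) := by (set_option synthInstance.maxSize 99999 in exact Cfsg.Agent.Lib.RingK.eq (by decide +kernel))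
        _ = (((x * y) ^ (2:ℕ) - 1) * (y ^ (2:ℕ) * x + 1)) ^ (3:ℕ) := by rw [hS]; (set_option synthInstance.maxSize 99999 in exact Cfsg.Agent.Lib.RingK.eq (by decide +kernel))
    rw [e1]
    have e5 : 0 ≤ (x * y) ^ (2:ℕ) - 1 := by linarith only [hz]
    have hv : 0 ≤ y ^ (2:ℕ) * x := by positivity
    -- the main inequality, multiplied by `x`
    have c1 : (((m : ℝ) + 2) ^ (3:ℕ) * x ^ (2:ℕ)) * (y ^ (4:ℕ) * (x ^ (2:ℕ) - 1) ^ (3:ℕ)) ≤ y ^ (4:ℕ) * (y ^ (4:ℕ) * (x ^ (2:ℕ) - 1) ^ (3:ℕ)) :=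
      mul_le_mul_of_nonneg_right ha (by positivity)
    have c2 : (x ^ (2:ℕ) - 1) ^ (3:ℕ) ≤ (x ^ (2:ℕ)) ^ (3:ℕ) := pow_le_pow_left₀ hx0.le (by linarith only []) 3
    have c3 : y ^ (4:ℕ) * (y ^ (4:ℕ) * (x ^ (2:ℕ) - 1) ^ (3:ℕ)) ≤ y ^ (8:ℕ) * x ^ (6:ℕ) := by
      calc y ^ (4:ℕ) * (y ^ (4:ℕ) * (x ^ (2:ℕ) - 1) ^ (3:ℕ)) = y ^ (8:ℕ) * (x ^ (2:ℕ) - 1) ^ (3:ℕ) := by ring
        _ ≤ y ^ (8:ℕ) * (x ^ (2:ℕ)) ^ (3:ℕ) := mul_le_mul_of_nonneg_left c2 (by positivity)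
        _ = y ^ (8:ℕ) * x ^ (6:ℕ) := by ring
    have c4 : (x * y) ^ (4:ℕ) * (y ^ (2:ℕ) * x) ^ (2:ℕ) ≤ (2 * ((x * y) ^ (2:ℕ) - 1) ^ (2:ℕ)) * (y ^ (2:ℕ) * x + 1) ^ (2:ℕ) := by
      apply mul_le_mul _ _ (by positivity) (by (clear * -; positivity))
      · calc (x * y) ^ (4:ℕ) = ((x * y) ^ (2:ℕ)) ^ (2:ℕ) := by ring
          _ ≤ _ := h4
      · exact pow_le_pow_left₀ hv (by linarith only []) 2
    have c5 : x * (((m : ℝ) + 2) ^ (3:ℕ) * x * (y ^ (4:ℕ) * (x ^ (2:ℕ) - 1) ^ (3:ℕ))) ≤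
        x * (((x * y) ^ (2:ℕ) - 1) * (y ^ (2:ℕ) * x + 1)) ^ (2:ℕ) := by
      have c6 : y ^ (8:ℕ) * x ^ (6:ℕ) ≤ 2 * (((x * y) ^ (2:ℕ) - 1) * (y ^ (2:ℕ) * x + 1)) ^ (2:ℕ) := by
        calc y ^ (8:ℕ) * x ^ (6:ℕ) = (x * y) ^ (4:ℕ) * (y ^ (2:ℕ) * x) ^ (2:ℕ) := by ring
          _ ≤ _ := c4
          _ = _ := by ring
      have c7 : 2 * (((x * y) ^ (2:ℕ) - 1) * (y ^ (2:ℕ) * x + 1)) ^ (2:ℕ) ≤ x * (((x * y) ^ (2:ℕ) - 1) * (y ^ (2:ℕ) * x + 1)) ^ (2:ℕ) :=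
        mul_le_mul_of_nonneg_right hx (by (clear * -; positivity))
      calc x * (((m : ℝ) + 2) ^ (3:ℕ) * x * (y ^ (4:ℕ) * (x ^ (2:ℕ) - 1) ^ (3:ℕ)))
          = (((m : ℝ) + 2) ^ (3:ℕ) * x ^ (2:ℕ)) * (y ^ (4:ℕ) * (x ^ (2:ℕ) - 1) ^ (3:ℕ)) := by ring
        _ ≤ _ := c1
        _ ≤ _ := c3
        _ ≤ _ := c6
        _ ≤ _ := c7
    have c8 := le_of_mul_le_mul_left c5 (by linarith only [hx] : (0 : ℝ) < x)
    calc (x ^ (2:ℕ) - 1) ^ (3:ℕ) * (((m : ℝ) + 2) ^ (3:ℕ) * (y ^ (4:ℕ) * x * (((x * y) ^ (2:ℕ) - 1) * (y ^ (2:ℕ) * x + 1))))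
        = (((m : ℝ) + 2) ^ (3:ℕ) * x * (y ^ (4:ℕ) * (x ^ (2:ℕ) - 1) ^ (3:ℕ))) * (((x * y) ^ (2:ℕ) - 1) * (y ^ (2:ℕ) * x + 1)) := by (set_option synthInstance.maxSize 99999 in exact Cfsg.Agent.Lib.RingK.eq (by decide +kernel))
      _ ≤ (((x * y) ^ (2:ℕ) - 1) * (y ^ (2:ℕ) * x + 1)) ^ (2:ℕ) * (((x * y) ^ (2:ℕ) - 1) * (y ^ (2:ℕ) * x + 1)) :=
          mul_le_mul_of_nonneg_right c8 (by (clear * - hy hx e5; positivity))
      _ = (((x * y) ^ (2:ℕ) - 1) * (y ^ (2:ℕ) * x + 1)) ^ (3:ℕ) := by (set_option synthInstance.maxSize 99999 in exact Cfsg.Agent.Lib.RingK.eq (by decide +kernel))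
  rw [← Nat.cast_le (α := ℝ)]
  push_cast [Nat.cast_sub h1]
  exact key


theorem step_Uodd (m q : ℕ) (hm : 2 ≤ m) (hq : 2 ≤ q) :
    (m + 2) ^ (3:ℕ) * (q ^ (4 * m + 3) * ((q ^ (2 * (m + 1)) - 1) * (q ^ (2 * m + 3) + 1))) ≤
      ((∑ j ∈ Finset.range (m + 1), (q ^ (2:ℕ)) ^ j) * (1 + (q ^ (2:ℕ)) ^ m * q ^ (3:ℕ))) ^ (3:ℕ) := by
  have hx : (2 : ℝ) ≤ q := by exact_mod_cast hq
  have hx2 : (2 : ℝ) ≤ (q : ℝ) ^ (2:ℕ) := by nlinarith only [hx]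
  have h1 : 1 ≤ q ^ (2 * (m + 1)) := Nat.one_le_pow _ _ (by omega)
  have hS := gsum hx2 (m + 1)
  have key : ((m : ℝ) + 2) ^ (3:ℕ) * ((q : ℝ) ^ (4 * m + 3) *
      (((q : ℝ) ^ (2 * (m + 1)) - 1) * ((q : ℝ) ^ (2 * m + 3) + 1))) ≤
      ((∑ j ∈ Finset.range (m + 1), ((q : ℝ) ^ (2:ℕ)) ^ j) * (1 + ((q : ℝ) ^ (2:ℕ)) ^ m * (q : ℝ) ^ (3:ℕ))) ^ (3:ℕ) := by
    generalize hS' : (∑ j ∈ Finset.range (m + 1), ((q : ℝ) ^ (2:ℕ)) ^ j) = S at hS ⊢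
    have ha := cube_rb hx m hm
    have hy : (4 : ℝ) ≤ (q : ℝ) ^ m := by
      calc (4 : ℝ) = 2 ^ (2:ℕ) := by norm_num
        _ ≤ (q : ℝ) ^ (2:ℕ) := by gcongr
        _ ≤ (q : ℝ) ^ m := pow_le_pow_right₀ (by linarith only [hx]) (by omega)
    rw [show ((q : ℝ) ^ (2:ℕ)) ^ (m + 1) = ((q : ℝ) * (q : ℝ) ^ m) ^ (2:ℕ) by ring] at hS
    rw [show (q : ℝ) ^ (4 * m + 3) = ((q : ℝ) ^ m) ^ (4:ℕ) * (q : ℝ) ^ (3:ℕ) by ring,
      show (q : ℝ) ^ (2 * (m + 1)) = ((q : ℝ) * (q : ℝ) ^ m) ^ (2:ℕ) by ring,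
      show (q : ℝ) ^ (2 * m + 3) = ((q : ℝ) ^ m) ^ (2:ℕ) * (q : ℝ) ^ (3:ℕ) by ring,
      show ((q : ℝ) ^ (2:ℕ)) ^ m = ((q : ℝ) ^ m) ^ (2:ℕ) by ring]
    generalize (q : ℝ) ^ m = y at *
    generalize (q : ℝ) = x at *
    have hx0 : 0 < x ^ (2:ℕ) - 1 := by linarith
    have hz : 4 ≤ (x * y) ^ (2:ℕ) := by nlinarith only [mul_le_mul hx hy (by norm_num) (by linarith)]
    have h4 := half_sq hz
    have e : 0 < (x ^ (2:ℕ) - 1) ^ (3:ℕ) := by positivity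
    refine le_of_mul_le_mul_left ?_ e
    have e1 : (x ^ (2:ℕ) - 1) ^ (3:ℕ) * (S * (1 + y ^ (2:ℕ) * x ^ (3:ℕ))) ^ (3:ℕ) =
        (((x * y) ^ (2:ℕ) - 1) * (y ^ (2:ℕ) * x ^ (3:ℕ) + 1)) ^ (3:ℕ) := by
      calc (x ^ (2:ℕ) - 1) ^ (3:ℕ) * (S * (1 + y ^ (2:ℕ) * x ^ (3:ℕ))) ^ (3:ℕ) =
            ((x ^ (2:ℕ) - 1) * S * (1 + y ^ (2:ℕ) * x ^ (3:ℕ))) ^ (3:ℕ) := by (set_option synthInstance.maxSize 99999 in exact Cfsg.Agent.Lib.RingK.eq (by decide +kernel))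
        _ = (((x * y) ^ (2:ℕ) - 1) * (y ^ (2:ℕ) * x ^ (3:ℕ) + 1)) ^ (3:ℕ) := by rw [hS]; (set_option synthInstance.maxSize 99999 in exact Cfsg.Agent.Lib.RingK.eq (by decide +kernel))
    rw [e1]
    have e5 : 0 ≤ (x * y) ^ (2:ℕ) - 1 := by linarith only [hz]
    have hv : 0 ≤ y ^ (2:ℕ) * x ^ (3:ℕ) := by positivity
    have c1 : (((m : ℝ) + 2) ^ (3:ℕ) * x ^ (2:ℕ)) * (y ^ (4:ℕ) * x * (x ^ (2:ℕ) - 1) ^ (3:ℕ)) ≤
        y ^ (4:ℕ) * (y ^ (4:ℕ) * x * (x ^ (2:ℕ) - 1) ^ (3:ℕ)) :=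
      mul_le_mul_of_nonneg_right ha (by positivity)
    have c2 : (x ^ (2:ℕ) - 1) ^ (3:ℕ) ≤ (x ^ (2:ℕ)) ^ (3:ℕ) := pow_le_pow_left₀ hx0.le (by linarith only []) 3
    have c3 : y ^ (4:ℕ) * (y ^ (4:ℕ) * x * (x ^ (2:ℕ) - 1) ^ (3:ℕ)) ≤ y ^ (8:ℕ) * x ^ (7:ℕ) := by
      calc y ^ (4:ℕ) * (y ^ (4:ℕ) * x * (x ^ (2:ℕ) - 1) ^ (3:ℕ)) = y ^ (8:ℕ) * x * (x ^ (2:ℕ) - 1) ^ (3:ℕ) := by ring
        _ ≤ y ^ (8:ℕ) * x * (x ^ (2:ℕ)) ^ (3:ℕ) := mul_le_mul_of_nonneg_left c2 (by positivity)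
        _ = y ^ (8:ℕ) * x ^ (7:ℕ) := by ring
    have c4 : (x * y) ^ (4:ℕ) * (y ^ (2:ℕ) * x ^ (3:ℕ)) ^ (2:ℕ) ≤ (2 * ((x * y) ^ (2:ℕ) - 1) ^ (2:ℕ)) * (y ^ (2:ℕ) * x ^ (3:ℕ) + 1) ^ (2:ℕ) := by
      apply mul_le_mul _ _ (by positivity) (by (clear * -; positivity))
      · calc (x * y) ^ (4:ℕ) = ((x * y) ^ (2:ℕ)) ^ (2:ℕ) := by ring
          _ ≤ _ := h4
      · exact pow_le_pow_left₀ hv (by linarith only []) 2
    have c5 : 2 * (y ^ (8:ℕ) * x ^ (7:ℕ)) ≤ (x * y) ^ (4:ℕ) * (y ^ (2:ℕ) * x ^ (3:ℕ)) ^ (2:ℕ) := by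
      have : 2 ≤ x ^ (3:ℕ) := by linarith only [mul_le_mul hx hx2 (by norm_num) (by linarith)]
      calc 2 * (y ^ (8:ℕ) * x ^ (7:ℕ)) ≤ x ^ (3:ℕ) * (y ^ (8:ℕ) * x ^ (7:ℕ)) := mul_le_mul_of_nonneg_right this (by positivity)
        _ = _ := by ring
    have c8 : (((m : ℝ) + 2) ^ (3:ℕ) * x ^ (2:ℕ)) * (y ^ (4:ℕ) * x * (x ^ (2:ℕ) - 1) ^ (3:ℕ)) ≤
        (((x * y) ^ (2:ℕ) - 1) * (y ^ (2:ℕ) * x ^ (3:ℕ) + 1)) ^ (2:ℕ) := by
      have c9 : 2 * (((x * y) ^ (2:ℕ) - 1) * (y ^ (2:ℕ) * x ^ (3:ℕ) + 1)) ^ (2:ℕ) =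
        (2 * ((x * y) ^ (2:ℕ) - 1) ^ (2:ℕ)) * (y ^ (2:ℕ) * x ^ (3:ℕ) + 1) ^ (2:ℕ) := by ring
      linarith only [c1, c3, c4, c5]
    calc (x ^ (2:ℕ) - 1) ^ (3:ℕ) * (((m : ℝ) + 2) ^ (3:ℕ) * (y ^ (4:ℕ) * x ^ (3:ℕ) * (((x * y) ^ (2:ℕ) - 1) * (y ^ (2:ℕ) * x ^ (3:ℕ) + 1))))
        = ((((m : ℝ) + 2) ^ (3:ℕ) * x ^ (2:ℕ)) * (y ^ (4:ℕ) * x * (x ^ (2:ℕ) - 1) ^ (3:ℕ))) *
          (((x * y) ^ (2:ℕ) - 1) * (y ^ (2:ℕ) * x ^ (3:ℕ) + 1)) := by (set_option synthInstance.maxSize 99999 in exact Cfsg.Agent.Lib.RingK.eq (by decide +kernel))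
      _ ≤ (((x * y) ^ (2:ℕ) - 1) * (y ^ (2:ℕ) * x ^ (3:ℕ) + 1)) ^ (2:ℕ) * (((x * y) ^ (2:ℕ) - 1) * (y ^ (2:ℕ) * x ^ (3:ℕ) + 1)) :=
          mul_le_mul_of_nonneg_right c8 (by (clear * - hy hx e5; positivity))
      _ = (((x * y) ^ (2:ℕ) - 1) * (y ^ (2:ℕ) * x ^ (3:ℕ) + 1)) ^ (3:ℕ) := by (set_option synthInstance.maxSize 99999 in exact Cfsg.Agent.Lib.RingK.eq (by decide +kernel))
  rw [← Nat.cast_le (α := ℝ)]
  push_cast [Nat.cast_sub h1]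
  exact key

theorem step_2D (m q : ℕ) (hm : 3 ≤ m) (hq : 2 ≤ q) :
    (m + 2) ^ (3:ℕ) * (q ^ (2 * m + 2) * ((q ^ (m + 2) + 1) * (q ^ (m + 1) - 1))) ≤
      ((∑ j ∈ Finset.range (m + 1), q ^ j) * (1 + q ^ m * q ^ (2:ℕ))) ^ (3:ℕ) := by
  have hx : (2 : ℝ) ≤ q := by exact_mod_cast hq
  have h1 : 1 ≤ q ^ (m + 1) := Nat.one_le_pow _ _ (by omega)
  have hS := gsum hx (m + 1)
  have key : ((m : ℝ) + 2) ^ (3:ℕ) * ((q : ℝ) ^ (2 * m + 2) * (((q : ℝ) ^ (m + 2) + 1) * ((q : ℝ) ^ (m + 1) - 1))) ≤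
      ((∑ j ∈ Finset.range (m + 1), (q : ℝ) ^ j) * (1 + (q : ℝ) ^ m * (q : ℝ) ^ (2:ℕ))) ^ (3:ℕ) := by
    generalize hS' : (∑ j ∈ Finset.range (m + 1), (q : ℝ) ^ j) = S at hS ⊢
    have ha := cube_ra hx m hm
    have hy : (4 : ℝ) ≤ (q : ℝ) ^ m := by
      calc (4 : ℝ) = 2 ^ (2:ℕ) := by norm_num
        _ ≤ (q : ℝ) ^ (2:ℕ) := by gcongr
        _ ≤ (q : ℝ) ^ m := pow_le_pow_right₀ (by linarith only [hx]) (by omega)
    rw [show (q : ℝ) ^ (m + 1) = (q : ℝ) * (q : ℝ) ^ m by ring] at hS ⊢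
    rw [show (q : ℝ) ^ (2 * m + 2) = ((q : ℝ) ^ m) ^ (2:ℕ) * (q : ℝ) ^ (2:ℕ) by ring,
      show (q : ℝ) ^ (m + 2) = (q : ℝ) ^ m * (q : ℝ) ^ (2:ℕ) by ring]
    generalize (q : ℝ) ^ m = y at *
    generalize (q : ℝ) = x at *
    have hx0 : 0 < x - 1 := by linarith
    have h3 := quartic hx
    have hz : 4 ≤ x * y := by nlinarith only [hy, hx]
    have h4 := half_sq hz
    have e : 0 < (x - 1) ^ (3:ℕ) := by positivity
    refine le_of_mul_le_mul_left ?_ e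
    have e1 : (x - 1) ^ (3:ℕ) * (S * (1 + y * x ^ (2:ℕ))) ^ (3:ℕ) = ((x * y - 1) * (y * x ^ (2:ℕ) + 1)) ^ (3:ℕ) := by
      calc (x - 1) ^ (3:ℕ) * (S * (1 + y * x ^ (2:ℕ))) ^ (3:ℕ) = ((x - 1) * S * (1 + y * x ^ (2:ℕ))) ^ (3:ℕ) := by (set_option synthInstance.maxSize 99999 in exact Cfsg.Agent.Lib.RingK.eq (by decide +kernel))
        _ = _ := by rw [hS]; (set_option synthInstance.maxSize 99999 in exact Cfsg.Agent.Lib.RingK.eq (by decide +kernel))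
    rw [e1]
    have hv : 0 ≤ y * x ^ (2:ℕ) := by positivity
    have e5 : 0 ≤ x * y - 1 := by linarith only [hz]
    have c1 : (((m : ℝ) + 2) ^ (3:ℕ) * x) * (x * y ^ (2:ℕ) * (x - 1) ^ (3:ℕ)) ≤ (4 * y ^ (2:ℕ)) * (x * y ^ (2:ℕ) * (x - 1) ^ (3:ℕ)) :=
      mul_le_mul_of_nonneg_right ha (by positivity)
    have c2 : 2 * ((4 * y ^ (2:ℕ)) * (x * y ^ (2:ℕ) * (x - 1) ^ (3:ℕ))) ≤ x ^ (5:ℕ) * y ^ (4:ℕ) := by
      calc 2 * ((4 * y ^ (2:ℕ)) * (x * y ^ (2:ℕ) * (x - 1) ^ (3:ℕ))) = (x * y ^ (4:ℕ)) * (8 * (x - 1) ^ (3:ℕ)) := by ring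
        _ ≤ (x * y ^ (4:ℕ)) * x ^ (4:ℕ) := mul_le_mul_of_nonneg_left h3 (by positivity)
        _ = x ^ (5:ℕ) * y ^ (4:ℕ) := by ring
    have c3 : (x * y) ^ (2:ℕ) * (y * x ^ (2:ℕ)) ^ (2:ℕ) ≤ (2 * (x * y - 1) ^ (2:ℕ)) * (y * x ^ (2:ℕ) + 1) ^ (2:ℕ) :=
      mul_le_mul h4 (pow_le_pow_left₀ hv (by linarith only []) 2) (by positivity) (by (clear * -; positivity))
    have c4 : x ^ (5:ℕ) * y ^ (4:ℕ) ≤ (x * y) ^ (2:ℕ) * (y * x ^ (2:ℕ)) ^ (2:ℕ) := by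
      calc x ^ (5:ℕ) * y ^ (4:ℕ) = 1 * (x ^ (5:ℕ) * y ^ (4:ℕ)) := by ring
        _ ≤ x * (x ^ (5:ℕ) * y ^ (4:ℕ)) := mul_le_mul_of_nonneg_right (by linarith only [hx]) (by positivity)
        _ = _ := by ring
    have c5 : (2 * (x * y - 1) ^ (2:ℕ)) * (y * x ^ (2:ℕ) + 1) ^ (2:ℕ) = 2 * ((x * y - 1) * (y * x ^ (2:ℕ) + 1)) ^ (2:ℕ) := by ring
    have c8 : (((m : ℝ) + 2) ^ (3:ℕ) * x) * (x * y ^ (2:ℕ) * (x - 1) ^ (3:ℕ)) ≤ ((x * y - 1) * (y * x ^ (2:ℕ) + 1)) ^ (2:ℕ) := by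
      linarith only [c1, c2, c3, c4]
    calc (x - 1) ^ (3:ℕ) * (((m : ℝ) + 2) ^ (3:ℕ) * (y ^ (2:ℕ) * x ^ (2:ℕ) * ((y * x ^ (2:ℕ) + 1) * (x * y - 1))))
        = ((((m : ℝ) + 2) ^ (3:ℕ) * x) * (x * y ^ (2:ℕ) * (x - 1) ^ (3:ℕ))) * ((x * y - 1) * (y * x ^ (2:ℕ) + 1)) := by (set_option synthInstance.maxSize 99999 in exact Cfsg.Agent.Lib.RingK.eq (by decide +kernel))
      _ ≤ ((x * y - 1) * (y * x ^ (2:ℕ) + 1)) ^ (2:ℕ) * ((x * y - 1) * (y * x ^ (2:ℕ) + 1)) :=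
          mul_le_mul_of_nonneg_right c8 (by (clear * - hy hx e5; positivity))
      _ = ((x * y - 1) * (y * x ^ (2:ℕ) + 1)) ^ (3:ℕ) := by (set_option synthInstance.maxSize 99999 in exact Cfsg.Agent.Lib.RingK.eq (by decide +kernel))
  rw [← Nat.cast_le (α := ℝ)]
  push_cast [Nat.cast_sub h1]
  exact key

theorem step_D (m q : ℕ) (hm : 4 ≤ m) (hq : 2 ≤ q) :
    (m + 2) ^ (3:ℕ) * (q ^ (2 * m) * ((q ^ (m + 1) - 1) * (q ^ m + 1))) ≤
      ((∑ j ∈ Finset.range (m + 1), q ^ j) * (1 + q ^ m)) ^ (3:ℕ) := by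
  have hx : (2 : ℝ) ≤ q := by exact_mod_cast hq
  have h1 : 1 ≤ q ^ (m + 1) := Nat.one_le_pow _ _ (by omega)
  have hS := gsum hx (m + 1)
  have key : ((m : ℝ) + 2) ^ (3:ℕ) * ((q : ℝ) ^ (2 * m) * (((q : ℝ) ^ (m + 1) - 1) * ((q : ℝ) ^ m + 1))) ≤
      ((∑ j ∈ Finset.range (m + 1), (q : ℝ) ^ j) * (1 + (q : ℝ) ^ m)) ^ (3:ℕ) := by
    generalize hS' : (∑ j ∈ Finset.range (m + 1), (q : ℝ) ^ j) = S at hS ⊢
    have ha := cube_rc hx m hm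
    have hy : (4 : ℝ) ≤ (q : ℝ) ^ m := by
      calc (4 : ℝ) = 2 ^ (2:ℕ) := by norm_num
        _ ≤ (q : ℝ) ^ (2:ℕ) := by gcongr
        _ ≤ (q : ℝ) ^ m := pow_le_pow_right₀ (by linarith only [hx]) (by omega)
    rw [show (q : ℝ) ^ (m + 1) = (q : ℝ) * (q : ℝ) ^ m by ring] at hS ⊢
    rw [show (q : ℝ) ^ (2 * m) = ((q : ℝ) ^ m) ^ (2:ℕ) by ring]
    generalize (q : ℝ) ^ m = y at *
    generalize (q : ℝ) = x at *
    have hx0 : 0 < x - 1 := by linarith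
    have h3 := quartic hx
    have hz : 4 ≤ x * y := by nlinarith only [hy, hx]
    have h4 := half_sq hz
    have e : 0 < (x - 1) ^ (3:ℕ) := by positivity
    refine le_of_mul_le_mul_left ?_ e
    have e1 : (x - 1) ^ (3:ℕ) * (S * (1 + y)) ^ (3:ℕ) = ((x * y - 1) * (y + 1)) ^ (3:ℕ) := by
      calc (x - 1) ^ (3:ℕ) * (S * (1 + y)) ^ (3:ℕ) = ((x - 1) * S * (1 + y)) ^ (3:ℕ) := by (set_option synthInstance.maxSize 99999 in exact Cfsg.Agent.Lib.RingK.eq (by decide +kernel))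
        _ = _ := by rw [hS]; (set_option synthInstance.maxSize 99999 in exact Cfsg.Agent.Lib.RingK.eq (by decide +kernel))
    rw [e1]
    have hv : 0 ≤ y := by linarith only [hy]
    have e5 : 0 ≤ x * y - 1 := by linarith only [hz]
    have c1 : (((m : ℝ) + 2) ^ (3:ℕ) * x ^ (2:ℕ)) * (y ^ (2:ℕ) * (x - 1) ^ (3:ℕ)) ≤ (4 * y ^ (2:ℕ)) * (y ^ (2:ℕ) * (x - 1) ^ (3:ℕ)) :=
      mul_le_mul_of_nonneg_right ha (by positivity)
    have c2 : 2 * ((4 * y ^ (2:ℕ)) * (y ^ (2:ℕ) * (x - 1) ^ (3:ℕ))) ≤ x ^ (4:ℕ) * y ^ (4:ℕ) := by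
      calc 2 * ((4 * y ^ (2:ℕ)) * (y ^ (2:ℕ) * (x - 1) ^ (3:ℕ))) = y ^ (4:ℕ) * (8 * (x - 1) ^ (3:ℕ)) := by ring
        _ ≤ y ^ (4:ℕ) * x ^ (4:ℕ) := mul_le_mul_of_nonneg_left h3 (by positivity)
        _ = x ^ (4:ℕ) * y ^ (4:ℕ) := by ring
    have c3 : (x * y) ^ (2:ℕ) * y ^ (2:ℕ) ≤ (2 * (x * y - 1) ^ (2:ℕ)) * (y + 1) ^ (2:ℕ) :=
      mul_le_mul h4 (pow_le_pow_left₀ hv (by linarith only []) 2) (by positivity) (by (clear * -; positivity))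
    have c3' : x ^ (2:ℕ) * ((x * y) ^ (2:ℕ) * y ^ (2:ℕ)) ≤ x ^ (2:ℕ) * ((2 * (x * y - 1) ^ (2:ℕ)) * (y + 1) ^ (2:ℕ)) :=
      mul_le_mul_of_nonneg_left c3 (by positivity)
    have c7 : x ^ (2:ℕ) * ((((m : ℝ) + 2) ^ (3:ℕ)) * (y ^ (2:ℕ) * (x - 1) ^ (3:ℕ))) ≤ x ^ (2:ℕ) * ((x * y - 1) * (y + 1)) ^ (2:ℕ) := by
      have d1 : x ^ (2:ℕ) * ((((m : ℝ) + 2) ^ (3:ℕ)) * (y ^ (2:ℕ) * (x - 1) ^ (3:ℕ))) =
        (((m : ℝ) + 2) ^ (3:ℕ) * x ^ (2:ℕ)) * (y ^ (2:ℕ) * (x - 1) ^ (3:ℕ)) := by ring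
      have d2 : x ^ (2:ℕ) * ((x * y) ^ (2:ℕ) * y ^ (2:ℕ)) = x ^ (4:ℕ) * y ^ (4:ℕ) := by ring
      have d3 : x ^ (2:ℕ) * ((2 * (x * y - 1) ^ (2:ℕ)) * (y + 1) ^ (2:ℕ)) = 2 * (x ^ (2:ℕ) * ((x * y - 1) * (y + 1)) ^ (2:ℕ)) := by ring
      linarith only [c1, c2, c3']
    have c8 := le_of_mul_le_mul_left c7 (by positivity)
    calc (x - 1) ^ (3:ℕ) * (((m : ℝ) + 2) ^ (3:ℕ) * (y ^ (2:ℕ) * ((x * y - 1) * (y + 1))))
        = ((((m : ℝ) + 2) ^ (3:ℕ)) * (y ^ (2:ℕ) * (x - 1) ^ (3:ℕ))) * ((x * y - 1) * (y + 1)) := by (set_option synthInstance.maxSize 99999 in exact Cfsg.Agent.Lib.RingK.eq (by decide +kernel))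
      _ ≤ ((x * y - 1) * (y + 1)) ^ (2:ℕ) * ((x * y - 1) * (y + 1)) :=
          mul_le_mul_of_nonneg_right c8 (by (clear * - hy e5; positivity))
      _ = ((x * y - 1) * (y + 1)) ^ (3:ℕ) := by (set_option synthInstance.maxSize 99999 in exact Cfsg.Agent.Lib.RingK.eq (by decide +kernel))
  rw [← Nat.cast_le (α := ℝ)]
  push_cast [Nat.cast_sub h1]
  exact key

end Cfsg.Agent.H807.CubeNum
end

-- part: H807/CubeNum
section
/-!
# Numerical inequalities for S5721 (task of helper383)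
-/

set_option autoImplicit false

namespace Cfsg.Agent.H807.CubeNum

open Cfsg.Agent.H383.Cube

theorem sB_two : sB 2 = 6 := rfl
theorem sB_three : sB 3 = 20 := rfl
theorem sB_four : sB 4 = 76 := rfl

theorem NB_two (a b : ℕ) : NB a b 2 = (1 + b) * ((1 + a) * (1 + a * b)) := by
  simp [NB, Finset.prod_range_succ, Finset.sum_range_succ]

theorem NB_three (a b : ℕ) :
    NB a b 3 = (1 + b) * ((1 + a) * (1 + a * b)) * ((1 + a + a ^ (2:ℕ)) * (1 + a ^ (2:ℕ) * b)) := by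
  simp only [NB, Finset.prod_range_succ, Finset.sum_range_succ, _root_.Cfsg.Agent.H383.Cube.NB, _root_.Finset.sum_range_succ, _root_.Finset.prod_range_succ, _root_.Finset.range_one, _root_.Finset.prod_singleton, _root_.Finset.range_zero, _root_.Finset.sum_empty, _root_.pow_zero, _root_.zero_add, _root_.one_mul, _root_.Finset.sum_singleton, _root_.pow_one]

theorem ND_four (a : ℕ) :
    ND a 4 = (1 + a) * (1 + a) * ((1 + a + a ^ (2:ℕ)) * (1 + a ^ (2:ℕ))) * ((1 + a + a ^ (2:ℕ) + a ^ (3:ℕ)) * (1 + a ^ (3:ℕ))) := by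
  simp only [ND, Finset.prod_range_succ, Finset.sum_range_succ, _root_.Cfsg.Agent.H383.Cube.ND, _root_.Nat.add_one_sub_one, _root_.Finset.sum_range_succ, _root_.Finset.prod_range_succ, _root_.Finset.range_one, _root_.Finset.prod_singleton, _root_.Finset.range_zero, _root_.Finset.sum_empty, _root_.pow_zero, _root_.zero_add, _root_.pow_one, _root_.Finset.sum_singleton, _root_.Nat.reduceAdd]

theorem ND_succ (a n : ℕ) (hn : 1 ≤ n) :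
    ND a (n + 1) = ND a n * ((∑ j ∈ Finset.range (n + 1), a ^ j) * (1 + a ^ n)) := by
  obtain ⟨k, rfl⟩ : ∃ k, n = k + 1 := ⟨n - 1, by omega⟩
  exact Finset.prod_range_succ _ _

theorem sub2 (q : ℕ) (hq : 1 ≤ q) : q ^ (2:ℕ) - 1 = (q - 1) * (q + 1) := by
  obtain ⟨k, rfl⟩ : ∃ k, q = k + 1 := ⟨q - 1, by omega⟩
  rw [Nat.add_sub_cancel]
  exact Nat.sub_eq_of_eq_add (by ring)

theorem sub4 (q : ℕ) (hq : 1 ≤ q) : q ^ (4:ℕ) - 1 = (q - 1) * ((q + 1) * (q ^ (2:ℕ) + 1)) := by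
  obtain ⟨k, rfl⟩ : ∃ k, q = k + 1 := ⟨q - 1, by omega⟩
  rw [Nat.add_sub_cancel]
  exact Nat.sub_eq_of_eq_add (by ring)

theorem sub6 (q : ℕ) (hq : 1 ≤ q) : q ^ (6:ℕ) - 1 = (q - 1) * ((q ^ (2:ℕ) + q + 1) * (q ^ (3:ℕ) + 1)) := by
  obtain ⟨k, rfl⟩ : ∃ k, q = k + 1 := ⟨q - 1, by omega⟩
  rw [Nat.add_sub_cancel]
  exact Nat.sub_eq_of_eq_add (by ring)

/-- `A < N²` implies `A N < N³`, for `N > 0` -/
theorem fin3 {A c N F : ℕ} (hN : 0 < N) (h : A < c * N ^ (2:ℕ)) (hF : F = A * N) : F < c * N ^ (3:ℕ) := by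
  rw [hF]
  calc A * N < c * N ^ (2:ℕ) * N := Nat.mul_lt_mul_of_pos_right h hN
    _ = c * N ^ (3:ℕ) := by ring

theorem num_C2_odd (q : ℕ) (hq : 7 ≤ q) (_ho : Odd q) :
    sB 2 ^ (3:ℕ) * (q ^ (4:ℕ) * ((q ^ (2:ℕ) - 1) * (q ^ (4:ℕ) - 1))) < 2 * NB q q 2 ^ (3:ℕ) := by
  obtain ⟨k, rfl⟩ : ∃ k, q = k + 7 := ⟨q - 7, by omega⟩
  have h := p_C2o k
  rw [sB_two, sub2 _ (by omega), sub4 _ (by omega), NB_two]
  refine fin3 (A := 216 * (k + 7) ^ (4:ℕ) * (k + 6) ^ (2:ℕ)) (by (clear * -; positivity)) ?_ ?_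
  · calc 216 * (k + 7) ^ (4:ℕ) * (k + 6) ^ (2:ℕ) = 2 * (108 * (k + 7) ^ (4:ℕ) * (k + 6) ^ (2:ℕ)) := by ring
      _ < 2 * ((1 + (k + 7)) ^ (4:ℕ) * (1 + (k + 7) ^ (2:ℕ)) ^ (2:ℕ)) := Nat.mul_lt_mul_of_pos_left h (by norm_num)
      _ = _ := by ring
  · rw [show k + 7 - 1 = k + 6 by omega]; (set_option synthInstance.maxSize 99999 in exact Cfsg.Agent.Lib.RingK.eqN (by decide +kernel))

theorem num_C2_even (q : ℕ) (hq : 16 ≤ q) :
    sB 2 ^ (3:ℕ) * (q ^ (4:ℕ) * ((q ^ (2:ℕ) - 1) * (q ^ (4:ℕ) - 1))) < NB q q 2 ^ (3:ℕ) := by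
  obtain ⟨k, rfl⟩ : ∃ k, q = k + 16 := ⟨q - 16, by omega⟩
  have h := p_C2e k
  rw [← one_mul (NB (k + 16) (k + 16) 2 ^ (3:ℕ)), sB_two, sub2 _ (by omega), sub4 _ (by omega), NB_two]
  refine fin3 (A := 216 * (k + 16) ^ (4:ℕ) * (k + 15) ^ (2:ℕ)) (by (clear * -; positivity)) ?_ ?_
  · calc 216 * (k + 16) ^ (4:ℕ) * (k + 15) ^ (2:ℕ) < ((1 + (k + 16)) ^ (4:ℕ) * (1 + (k + 16) ^ (2:ℕ)) ^ (2:ℕ)) := h
      _ = _ := by ring
  · rw [show k + 16 - 1 = k + 15 by omega]; (set_option synthInstance.maxSize 99999 in exact Cfsg.Agent.Lib.RingK.eqN (by decide +kernel))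

theorem num_C (n q : ℕ) (hn : 3 ≤ n) (hq : 2 ≤ q) :
    sB n ^ (3:ℕ) * (q ^ (n ^ (2:ℕ)) * ∏ i ∈ Finset.range n, (q ^ (2 * (i + 1)) - 1)) < NB q q n ^ (3:ℕ) := by
  rw [← one_mul (NB q q n ^ (3:ℕ))]
  induction n, hn using Nat.le_induction with
  | base =>
    obtain ⟨k, rfl⟩ : ∃ k, q = k + 2 := ⟨q - 2, by omega⟩
    have h := p_C3 k
    rw [sB_three, NB_three]
    refine fin3 (A := 8000 * (k + 2) ^ (9:ℕ) * (k + 1) ^ (3:ℕ)) (by (clear * -; positivity)) ?_ ?_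
    · calc 8000 * (k + 2) ^ (9:ℕ) * (k + 1) ^ (3:ℕ) < _ := h
        _ = _ := by (set_option synthInstance.maxSize 99999 in exact Cfsg.Agent.Lib.RingK.eqN (by decide +kernel))
    · rw [Finset.prod_range_succ, Finset.prod_range_succ, Finset.prod_range_one,
        show 2 * (0 + 1) = 2 from rfl, show 2 * (1 + 1) = 4 from rfl, show 2 * (2 + 1) = 6 from rfl,
        sub2 _ (by omega), sub4 _ (by omega), sub6 _ (by omega), show k + 2 - 1 = k + 1 by omega]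
      (set_option synthInstance.maxSize 99999 in exact Cfsg.Agent.Lib.RingK.eqN (by decide +kernel))
  | succ n hn ih =>
    have e : q ^ ((n + 1) ^ (2:ℕ)) * ∏ i ∈ Finset.range (n + 1), (q ^ (2 * (i + 1)) - 1) =
        (q ^ (n ^ (2:ℕ)) * ∏ i ∈ Finset.range n, (q ^ (2 * (i + 1)) - 1)) *
          (q ^ (2 * n + 1) * (q ^ (2 * (n + 1)) - 1)) := by
      rw [Finset.prod_range_succ, show (n + 1) ^ (2:ℕ) = n ^ (2:ℕ) + (2 * n + 1) by ring, pow_add]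
      ring
    rw [e, NB_succ]
    exact step (sB_succ_le n) ih (step_C n q hn hq) (Nat.mul_pos (gsum_pos q n) (by positivity))

theorem num_Ueven (m q : ℕ) (hm : 2 ≤ m) (hq : 2 ≤ q) (h : m = 2 → q ≠ 2 ∧ q ≠ 3 ∧ q ≠ 4) :
    sB m ^ (3:ℕ) * (q ^ (m * (2 * m - 1)) *
      ∏ i ∈ Finset.range m, ((q ^ (2 * (i + 1)) - 1) * (q ^ (2 * i + 1) + 1))) <
      (q + 1) * NB (q ^ (2:ℕ)) q m ^ (3:ℕ) := by
  have hst : ∀ n, 2 ≤ n → sB n ^ (3:ℕ) * (q ^ (n * (2 * n - 1)) *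
        ∏ i ∈ Finset.range n, ((q ^ (2 * (i + 1)) - 1) * (q ^ (2 * i + 1) + 1))) <
        (q + 1) * NB (q ^ (2:ℕ)) q n ^ (3:ℕ) →
      sB (n + 1) ^ (3:ℕ) * (q ^ ((n + 1) * (2 * (n + 1) - 1)) *
        ∏ i ∈ Finset.range (n + 1), ((q ^ (2 * (i + 1)) - 1) * (q ^ (2 * i + 1) + 1))) <
        (q + 1) * NB (q ^ (2:ℕ)) q (n + 1) ^ (3:ℕ) := by
    intro n hn ih
    have e : q ^ ((n + 1) * (2 * (n + 1) - 1)) *
        ∏ i ∈ Finset.range (n + 1), ((q ^ (2 * (i + 1)) - 1) * (q ^ (2 * i + 1) + 1)) =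
        (q ^ (n * (2 * n - 1)) *
          ∏ i ∈ Finset.range n, ((q ^ (2 * (i + 1)) - 1) * (q ^ (2 * i + 1) + 1))) *
          (q ^ (4 * n + 1) * ((q ^ (2 * (n + 1)) - 1) * (q ^ (2 * n + 1) + 1))) := by
      have e1 : (n + 1) * (2 * (n + 1) - 1) = n * (2 * n - 1) + (4 * n + 1) := by
        obtain ⟨k, rfl⟩ : ∃ k, n = k + 1 := ⟨n - 1, by omega⟩
        rw [show 2 * (k + 1 + 1) - 1 = 2 * k + 3 by omega, show 2 * (k + 1) - 1 = 2 * k + 1 by omega]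
        ring
      rw [Finset.prod_range_succ, e1, pow_add]
      ring
    rw [e, NB_succ]
    exact step (sB_succ_le n) ih (step_Ueven n q hn hq) (Nat.mul_pos (gsum_pos _ n) (by positivity))
  have h3 : ∀ m, 3 ≤ m → q = 2 ∨ q = 3 ∨ q = 4 → sB m ^ (3:ℕ) * (q ^ (m * (2 * m - 1)) *
      ∏ i ∈ Finset.range m, ((q ^ (2 * (i + 1)) - 1) * (q ^ (2 * i + 1) + 1))) <
      (q + 1) * NB (q ^ (2:ℕ)) q m ^ (3:ℕ) := by
    intro m hm hq'
    induction m, hm using Nat.le_induction with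
    | base =>
      rw [sB_three, NB_three, Finset.prod_range_succ, Finset.prod_range_succ, Finset.prod_range_one]
      rcases hq' with rfl | rfl | rfl <;> norm_num
    | succ n hn ih => exact hst n (by omega) ih
  have h5 : ∀ m, 2 ≤ m → 5 ≤ q → sB m ^ (3:ℕ) * (q ^ (m * (2 * m - 1)) *
      ∏ i ∈ Finset.range m, ((q ^ (2 * (i + 1)) - 1) * (q ^ (2 * i + 1) + 1))) <
      (q + 1) * NB (q ^ (2:ℕ)) q m ^ (3:ℕ) := by
    intro m hm hq'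
    induction m, hm using Nat.le_induction with
    | base =>
      obtain ⟨k, rfl⟩ : ∃ k, q = k + 5 := ⟨q - 5, by omega⟩
      have h := p_U4 k
      rw [sB_two, NB_two]
      refine fin3 (A := 216 * (k + 5) ^ (6:ℕ) * ((k + 4) * (k + 6)) ^ (2:ℕ)) (by (clear * -; positivity)) ?_ ?_
      · calc 216 * (k + 5) ^ (6:ℕ) * ((k + 4) * (k + 6)) ^ (2:ℕ) < _ := h
          _ = _ := by (set_option synthInstance.maxSize 99999 in exact Cfsg.Agent.Lib.RingK.eqN (by decide +kernel))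
      · rw [Finset.prod_range_succ, Finset.prod_range_one,
          show 2 * (0 + 1) = 2 from rfl, show 2 * (1 + 1) = 4 from rfl,
          sub2 _ (by omega), sub4 _ (by omega), show k + 5 - 1 = k + 4 by omega]
        ring
    | succ n hn ih => exact hst n (by omega) ih
  by_cases hq5 : 5 ≤ q
  · exact h5 m hm hq5
  · exact h3 m (by omega) (by omega)

theorem num_U43 : sB 2 ^ (3:ℕ) * 3265920 < NB (3 ^ (2:ℕ)) 3 2 ^ (3:ℕ) := by
  rw [sB_two, NB_two]; norm_num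

theorem num_Uodd (m q : ℕ) (hm : 2 ≤ m) (hq : 2 ≤ q) :
    sB m ^ (3:ℕ) * (q ^ (m * (2 * m + 1)) *
      ∏ i ∈ Finset.range m, ((q ^ (2 * (i + 1)) - 1) * (q ^ (2 * i + 3) + 1))) <
      NB (q ^ (2:ℕ)) (q ^ (3:ℕ)) m ^ (3:ℕ) := by
  rw [← one_mul (NB (q ^ (2:ℕ)) (q ^ (3:ℕ)) m ^ (3:ℕ))]
  induction m, hm using Nat.le_induction with
  | base =>
    obtain ⟨k, rfl⟩ : ∃ k, q = k + 2 := ⟨q - 2, by omega⟩
    have h := p_U5 k
    rw [sB_two, NB_two]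
    refine fin3 (A := 216 * (k + 2) ^ (10:ℕ) * ((k + 1) * (k + 3)) ^ (2:ℕ)) (by (clear * -; positivity)) ?_ ?_
    · calc 216 * (k + 2) ^ (10:ℕ) * ((k + 1) * (k + 3)) ^ (2:ℕ) < _ := h
        _ = _ := by (set_option synthInstance.maxSize 99999 in exact Cfsg.Agent.Lib.RingK.eqN (by decide +kernel))
    · rw [Finset.prod_range_succ, Finset.prod_range_one,
        show 2 * (0 + 1) = 2 from rfl, show 2 * (1 + 1) = 4 from rfl,
        sub2 _ (by omega), sub4 _ (by omega), show k + 2 - 1 = k + 1 by omega]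
      (set_option synthInstance.maxSize 99999 in exact Cfsg.Agent.Lib.RingK.eqN (by decide +kernel))
  | succ n hn ih =>
    have e : q ^ ((n + 1) * (2 * (n + 1) + 1)) *
        ∏ i ∈ Finset.range (n + 1), ((q ^ (2 * (i + 1)) - 1) * (q ^ (2 * i + 3) + 1)) =
        (q ^ (n * (2 * n + 1)) *
          ∏ i ∈ Finset.range n, ((q ^ (2 * (i + 1)) - 1) * (q ^ (2 * i + 3) + 1))) *
          (q ^ (4 * n + 3) * ((q ^ (2 * (n + 1)) - 1) * (q ^ (2 * n + 3) + 1))) := by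
      rw [Finset.prod_range_succ, show (n + 1) * (2 * (n + 1) + 1) = n * (2 * n + 1) + (4 * n + 3) by ring,
        pow_add]
      ring
    rw [e, NB_succ]
    exact step (sB_succ_le n) ih (step_Uodd n q hn hq) (Nat.mul_pos (gsum_pos _ n) (by positivity))

theorem num_U3 (q : ℕ) (hq : 8 ≤ q) :
    2 ^ (3:ℕ) * (q ^ (3:ℕ) * ((q ^ (2:ℕ) - 1) * (q ^ (3:ℕ) + 1))) < (1 + q ^ (3:ℕ)) ^ (3:ℕ) := by
  obtain ⟨k, rfl⟩ : ∃ k, q = k + 8 := ⟨q - 8, by omega⟩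
  have h := p_U3 k
  rw [sub2 _ (by omega), ← one_mul ((1 + (k + 8) ^ (3:ℕ)) ^ (3:ℕ))]
  refine fin3 (A := 8 * (k + 8) ^ (3:ℕ) * ((k + 7) * (k + 9))) (by positivity) ?_ ?_
  · calc 8 * (k + 8) ^ (3:ℕ) * ((k + 7) * (k + 9)) < _ := h
      _ = _ := by ring
  · rw [show k + 8 - 1 = k + 7 by omega]; ring

theorem num_2D (m q : ℕ) (hm : 3 ≤ m) (hq : 2 ≤ q) :
    sB m ^ (3:ℕ) * (q ^ (m * (m + 1)) * (q ^ (m + 1) + 1) * ∏ i ∈ Finset.range m, (q ^ (2 * (i + 1)) - 1)) <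
      NB q (q ^ (2:ℕ)) m ^ (3:ℕ) := by
  rw [← one_mul (NB q (q ^ (2:ℕ)) m ^ (3:ℕ))]
  induction m, hm using Nat.le_induction with
  | base =>
    obtain ⟨k, rfl⟩ : ∃ k, q = k + 2 := ⟨q - 2, by omega⟩
    have h := p_2D k
    rw [sB_three, NB_three]
    refine fin3 (A := 8000 * (k + 2) ^ (12:ℕ) * (1 + (k + 2)) * (k + 1) ^ (3:ℕ)) (by (clear * -; positivity)) ?_ ?_
    · calc 8000 * (k + 2) ^ (12:ℕ) * (1 + (k + 2)) * (k + 1) ^ (3:ℕ) < _ := h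
        _ = _ := by (set_option synthInstance.maxSize 99999 in exact Cfsg.Agent.Lib.RingK.eqN (by decide +kernel))
    · rw [Finset.prod_range_succ, Finset.prod_range_succ, Finset.prod_range_one,
        show 2 * (0 + 1) = 2 from rfl, show 2 * (1 + 1) = 4 from rfl, show 2 * (2 + 1) = 6 from rfl,
        sub2 _ (by omega), sub4 _ (by omega), sub6 _ (by omega), show k + 2 - 1 = k + 1 by omega]
      (set_option synthInstance.maxSize 99999 in exact Cfsg.Agent.Lib.RingK.eqN (by decide +kernel))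
  | succ n hn ih =>
    have e : q ^ ((n + 1) * (n + 1 + 1)) * (q ^ (n + 1 + 1) + 1) *
        ∏ i ∈ Finset.range (n + 1), (q ^ (2 * (i + 1)) - 1) =
        (q ^ (n * (n + 1)) * (q ^ (n + 1) + 1) * ∏ i ∈ Finset.range n, (q ^ (2 * (i + 1)) - 1)) *
          (q ^ (2 * n + 2) * ((q ^ (n + 2) + 1) * (q ^ (n + 1) - 1))) := by
      have e1 : q ^ (2 * (n + 1)) - 1 = (q ^ (n + 1) - 1) * (q ^ (n + 1) + 1) := by
        rw [← sub2 _ (Nat.one_le_pow _ _ (by omega)), ← pow_mul, Nat.mul_comm]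
      rw [Finset.prod_range_succ, e1, show (n + 1) * (n + 1 + 1) = n * (n + 1) + (2 * n + 2) by ring, pow_add]
      ring
    rw [e, NB_succ]
    exact step (sB_succ_le n) ih (step_2D n q hn hq) (Nat.mul_pos (gsum_pos _ n) (by positivity))

theorem num_D (m q : ℕ) (hm : 4 ≤ m) (hq : 2 ≤ q) :
    sB m ^ (3:ℕ) * (q ^ (m * (m - 1)) * (q ^ m - 1) * ∏ i ∈ Finset.range (m - 1), (q ^ (2 * (i + 1)) - 1)) <
      ND q m ^ (3:ℕ) := by
  rw [← one_mul (ND q m ^ (3:ℕ))]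
  induction m, hm using Nat.le_induction with
  | base =>
    rcases Nat.lt_or_ge q 3 with h3 | h3
    · obtain rfl : q = 2 := by omega
      rw [sB_four, ND_four, show 4 - 1 = 3 from rfl, Finset.prod_range_succ, Finset.prod_range_succ,
        Finset.prod_range_one]
      norm_num
    obtain ⟨k, rfl⟩ : ∃ k, q = k + 3 := ⟨q - 3, by omega⟩
    have h := p_D k
    rw [sB_four, ND_four]
    refine fin3 (A := 438976 * (k + 3) ^ (12:ℕ) * (k + 2) ^ (4:ℕ)) (by (clear * -; positivity)) ?_ ?_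
    · calc 438976 * (k + 3) ^ (12:ℕ) * (k + 2) ^ (4:ℕ) < _ := h
        _ = _ := by (set_option synthInstance.maxSize 99999 in exact Cfsg.Agent.Lib.RingK.eqN (by decide +kernel))
    · rw [show 4 - 1 = 3 from rfl, Finset.prod_range_succ, Finset.prod_range_succ, Finset.prod_range_one,
        show 2 * (0 + 1) = 2 from rfl, show 2 * (1 + 1) = 4 from rfl, show 2 * (2 + 1) = 6 from rfl,
        sub2 _ (by omega), sub4 _ (by omega), sub6 _ (by omega), show k + 3 - 1 = k + 2 by omega]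
      (set_option synthInstance.maxSize 99999 in exact Cfsg.Agent.Lib.RingK.eqN (by decide +kernel))
  | succ n hn ih =>
    have e : q ^ ((n + 1) * (n + 1 - 1)) * (q ^ (n + 1) - 1) *
        ∏ i ∈ Finset.range (n + 1 - 1), (q ^ (2 * (i + 1)) - 1) =
        (q ^ (n * (n - 1)) * (q ^ n - 1) * ∏ i ∈ Finset.range (n - 1), (q ^ (2 * (i + 1)) - 1)) *
          (q ^ (2 * n) * ((q ^ (n + 1) - 1) * (q ^ n + 1))) := by
      obtain ⟨k, rfl⟩ : ∃ k, n = k + 1 := ⟨n - 1, by omega⟩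
      have e1 : q ^ (2 * (k + 1)) - 1 = (q ^ (k + 1) - 1) * (q ^ (k + 1) + 1) := by
        rw [← sub2 _ (Nat.one_le_pow _ _ (by omega)), ← pow_mul, Nat.mul_comm]
      rw [Nat.add_sub_cancel, Nat.add_sub_cancel, Finset.prod_range_succ, e1,
        show (k + 1 + 1) * (k + 1) = (k + 1) * k + 2 * (k + 1) by ring, pow_add]
      ring
    rw [e, ND_succ _ _ (by omega)]
    exact step (sB_succ_le n) ih (step_D n q hn hq) (Nat.mul_pos (gsum_pos _ n) (by positivity))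

end Cfsg.Agent.H807.CubeNum
end

-- part: H383/Cube/Classical
section
/-!
# The bound `|T| < |C_T(α)| ^ 3` for the classical groups, general case (helper383, S5721)
-/

set_option autoImplicit false

namespace Cfsg.Agent.H383.Cube.Classical

open Cfsg

section

variable {F : Type*} [Field F] [Fintype F]

theorem card_psp {q : ℕ} (hF : Fintype.card F = q) {m : ℕ} (hm : 1 ≤ m) :
    Nat.gcd 2 (q - 1) * Nat.card (PSp m F) = q ^ (m ^ (2:ℕ)) * ∏ i ∈ Finset.range m, (q ^ (2 * (i + 1)) - 1) := by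
  have h1 := S0245.result (F := F) hF m
  have h2 := S0246.result (F := F) hF m hm
  have h3 := Subgroup.card_eq_card_quotient_mul_card_subgroup
    (Subgroup.center (Matrix.symplecticGroup (Fin m) F))
  rw [h1, h2] at h3
  rw [h3, mul_comm]

theorem cube_psp_of {q : ℕ} (hF : Fintype.card F = q) {m : ℕ} (hm : 2 ≤ m)
    (hlt : sB m ^ (3:ℕ) * Nat.card (PSp m F) < NB q q m ^ (3:ℕ)) : CubeBound (PSp m F) := by
  obtain ⟨p, hp⟩ := CharP.exists F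
  have : Fact p.Prime := ⟨CharP.char_is_prime F p⟩
  have h1 := H807.CubePar.par_PSp (F := F) hm (p := p)
  rw [Nat.card_eq_fintype_card, hF] at h1
  refine cube_of_parB (p := p) (a := q) (b := q) ?_ hlt
  simpa using h1

theorem cube_psp {m : ℕ} (hm : 3 ≤ m) : CubeBound (PSp m F) := by
  set q := Fintype.card F with hq
  have hq2 : 2 ≤ q := Fintype.one_lt_card
  refine cube_psp_of hq.symm (by omega) (lt_of_le_of_lt ?_ (H807.CubeNum.num_C m q hm hq2))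
  refine Nat.mul_le_mul_left _ ?_
  rw [← card_psp (F := F) hq.symm (by omega)]
  exact Nat.le_mul_of_pos_left _ (Nat.gcd_pos_of_pos_left _ (by norm_num))

theorem card_psp_two {q : ℕ} (hF : Fintype.card F = q) :
    Nat.gcd 2 (q - 1) * Nat.card (PSp 2 F) = q ^ (4:ℕ) * ((q ^ (2:ℕ) - 1) * (q ^ (4:ℕ) - 1)) := by
  rw [card_psp hF (by norm_num), Finset.prod_range_succ, Finset.prod_range_succ, Finset.prod_range_zero, one_mul]
  norm_num only []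

theorem cube_psp_two_odd {q : ℕ} (hF : Fintype.card F = q) (hq : 7 ≤ q) (ho : Odd q) : CubeBound (PSp 2 F) := by
  refine cube_psp_of hF le_rfl ?_
  have h1 := H807.CubeNum.num_C2_odd q hq ho
  rw [← card_psp_two hF] at h1
  have h2 : Nat.gcd 2 (q - 1) = 2 := by
    obtain ⟨k, rfl⟩ := ho
    rw [Nat.add_sub_cancel]
    exact Nat.gcd_eq_left (dvd_mul_right 2 k)
  rw [h2] at h1
  have h3 : 2 * (sB 2 ^ (3:ℕ) * Nat.card (PSp 2 F)) < 2 * NB q q 2 ^ (3:ℕ) := by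
    calc 2 * (sB 2 ^ (3:ℕ) * Nat.card (PSp 2 F)) = sB 2 ^ (3:ℕ) * (2 * Nat.card (PSp 2 F)) := by ring
      _ < _ := h1
  exact Nat.lt_of_mul_lt_mul_left h3

theorem cube_psp_two_even {q : ℕ} (hF : Fintype.card F = q) (hq : 16 ≤ q) : CubeBound (PSp 2 F) := by
  refine cube_psp_of hF le_rfl (lt_of_le_of_lt ?_ (H807.CubeNum.num_C2_even q hq))
  refine Nat.mul_le_mul_left _ ?_
  rw [← card_psp_two hF]
  exact Nat.le_mul_of_pos_left _ (Nat.gcd_pos_of_pos_left _ (by norm_num))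

/-! ### Unitary groups -/

theorem prod_even (f : ℕ → ℕ) (g : ℕ → ℕ) (m : ℕ) :
    ∏ i ∈ Finset.range (2 * m), (if Even i then f i else g i) = ∏ i ∈ Finset.range m, (g (2 * i + 1) * f (2 * i)) := by
  induction m with
  | zero => simp only [_root_.MulZeroClass.mul_zero, _root_.Finset.range_zero, _root_.Finset.prod_empty]
  | succ m ih =>
    rw [show 2 * (m + 1) = 2 * m + 1 + 1 by ring, Finset.prod_range_succ, Finset.prod_range_succ, ih,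
      Finset.prod_range_succ, if_pos (by simp only [_root_.even_two, _root_.Even.mul_right]), if_neg (by simp only [parity_simps, _root_.Nat.not_even_bit1, _root_.not_false_eq_true])]
    ring

theorem prod_odd (f : ℕ → ℕ) (g : ℕ → ℕ) (m : ℕ) :
    ∏ i ∈ Finset.range (2 * m + 1), (if Even i then f i else g i) =
      f 0 * ∏ i ∈ Finset.range m, (g (2 * i + 1) * f (2 * i + 2)) := by
  induction m with
  | zero => simp only [_root_.MulZeroClass.mul_zero, _root_.zero_add, _root_.Finset.range_one, _root_.Finset.prod_singleton, _root_.Even.zero, ↓ _root_.reduceIte, _root_.Finset.range_zero, _root_.Finset.prod_empty, _root_.mul_one]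
  | succ m ih =>
    rw [show 2 * (m + 1) + 1 = 2 * m + 1 + 1 + 1 by ring, Finset.prod_range_succ, Finset.prod_range_succ, ih,
      Finset.prod_range_succ, if_neg (by simp only [_root_.Nat.not_even_bit1, _root_.not_false_eq_true]), if_pos (by simp [parity_simps])]
    ring_nf

theorem two_le_of_sq {q : ℕ} (hF : Fintype.card F = q ^ (2:ℕ)) : 2 ≤ q := by
  have h1 : 2 ≤ Fintype.card F := Fintype.one_lt_card
  rw [hF] at h1
  by_contra h2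
  have : q = 0 ∨ q = 1 := by omega
  rcases this with rfl | rfl <;> simp at h1

theorem cube_psu_even_of {q m : ℕ} (hF : Fintype.card F = q ^ (2:ℕ)) (hm : 2 ≤ m)
    (hlt : sB m ^ (3:ℕ) * Nat.card (PSU (2 * m) F q) < NB (q ^ (2:ℕ)) q m ^ (3:ℕ)) : CubeBound (PSU (2 * m) F q) := by
  obtain ⟨p, hp⟩ := CharP.exists F
  have : Fact p.Prime := ⟨CharP.char_is_prime F p⟩
  exact cube_of_parB (p := p) (H807.CubePar.par_PSU_even hF hm) hlt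

theorem cube_psu_odd_of {q m : ℕ} (hF : Fintype.card F = q ^ (2:ℕ)) (hm : 1 ≤ m)
    (hlt : sB m ^ (3:ℕ) * Nat.card (PSU (2 * m + 1) F q) < NB (q ^ (2:ℕ)) (q ^ (3:ℕ)) m ^ (3:ℕ)) : CubeBound (PSU (2 * m + 1) F q) := by
  obtain ⟨p, hp⟩ := CharP.exists F
  have : Fact p.Prime := ⟨CharP.char_is_prime F p⟩
  exact cube_of_parB (p := p) (H807.CubePar.par_PSU_odd hF hm) hlt

theorem card_psu_even {q m : ℕ} (hF : Fintype.card F = q ^ (2:ℕ)) (hm : 1 ≤ m) :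
    Nat.gcd (2 * m) (q + 1) * ((q + 1) * Nat.card (PSU (2 * m) F q)) =
      q ^ (m * (2 * m - 1)) * ∏ i ∈ Finset.range m, ((q ^ (2 * (i + 1)) - 1) * (q ^ (2 * i + 1) + 1)) := by
  rw [S0280.result hF (2 * m) (by omega)]
  congr 1
  · congr 1
    rw [mul_assoc, Nat.mul_div_cancel_left _ (by norm_num)]
  · exact prod_even (fun i => q ^ (i + 1) + 1) (fun i => q ^ (i + 1) - 1) m

theorem card_psu_odd {q m : ℕ} (hF : Fintype.card F = q ^ (2:ℕ)) (hm : 1 ≤ m) :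
    Nat.gcd (2 * m + 1) (q + 1) * Nat.card (PSU (2 * m + 1) F q) =
      q ^ (m * (2 * m + 1)) * ∏ i ∈ Finset.range m, ((q ^ (2 * (i + 1)) - 1) * (q ^ (2 * i + 3) + 1)) := by
  have h1 := S0280.result hF (2 * m + 1) (by omega)
  rw [prod_odd (fun i => q ^ (i + 1) + 1) (fun i => q ^ (i + 1) - 1) m] at h1
  have h2 : (2 * m + 1) * (2 * m + 1 - 1) / 2 = m * (2 * m + 1) := by
    rw [Nat.add_sub_cancel]
    apply Nat.div_eq_of_eq_mul_right (by norm_num)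
    ring
  rw [h2, zero_add, pow_one] at h1
  apply Nat.eq_of_mul_eq_mul_left (show 0 < q + 1 by omega)
  calc (q + 1) * (Nat.gcd (2 * m + 1) (q + 1) * Nat.card (PSU (2 * m + 1) F q)) =
        Nat.gcd (2 * m + 1) (q + 1) * ((q + 1) * Nat.card (PSU (2 * m + 1) F q)) := by ring
    _ = _ := h1
    _ = _ := by ring_nf

theorem cube_psu_even {q m : ℕ} (hF : Fintype.card F = q ^ (2:ℕ)) (hm : 2 ≤ m)
    (h : m = 2 → q ≠ 2 ∧ q ≠ 3 ∧ q ≠ 4) : CubeBound (PSU (2 * m) F q) := by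
  refine cube_psu_even_of hF hm ?_
  have hq : 2 ≤ q := two_le_of_sq hF
  have h1 := H807.CubeNum.num_Ueven m q hm hq h
  rw [← card_psu_even hF (by omega)] at h1
  have hg : 0 < Nat.gcd (2 * m) (q + 1) := Nat.gcd_pos_of_pos_left _ (by omega)
  have h2 : (q + 1) * (sB m ^ (3:ℕ) * Nat.card (PSU (2 * m) F q)) < (q + 1) * NB (q ^ (2:ℕ)) q m ^ (3:ℕ) := by
    refine lt_of_le_of_lt ?_ h1
    calc (q + 1) * (sB m ^ (3:ℕ) * Nat.card (PSU (2 * m) F q)) = sB m ^ (3:ℕ) * ((q + 1) * Nat.card (PSU (2 * m) F q)) := by ring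
      _ ≤ sB m ^ (3:ℕ) * (Nat.gcd (2 * m) (q + 1) * ((q + 1) * Nat.card (PSU (2 * m) F q))) :=
        Nat.mul_le_mul_left _ (Nat.le_mul_of_pos_left _ hg)
  exact Nat.lt_of_mul_lt_mul_left h2

theorem cube_psu_odd {q m : ℕ} (hF : Fintype.card F = q ^ (2:ℕ)) (hm : 2 ≤ m) : CubeBound (PSU (2 * m + 1) F q) := by
  refine cube_psu_odd_of hF (by omega) (lt_of_le_of_lt ?_ (H807.CubeNum.num_Uodd m q hm (two_le_of_sq hF)))
  refine Nat.mul_le_mul_left _ ?_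
  rw [← card_psu_odd hF (by omega)]
  exact Nat.le_mul_of_pos_left _ (Nat.gcd_pos_of_pos_left _ (by omega))

theorem card_psu_three {q : ℕ} (hF : Fintype.card F = q ^ (2:ℕ)) :
    Nat.gcd 3 (q + 1) * Nat.card (PSU 3 F q) = q ^ (3:ℕ) * ((q ^ (2:ℕ) - 1) * (q ^ (3:ℕ) + 1)) := by
  have h1 := card_psu_odd (m := 1) hF le_rfl
  simpa only [_root_.mul_one, _root_.Nat.reduceAdd, _root_.one_mul, _root_.Finset.range_one, _root_.Finset.prod_singleton, _root_.zero_add, _root_.MulZeroClass.mul_zero] using h1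

theorem NB_one (a b : ℕ) : NB a b 1 = 1 + b := by simp [NB]

theorem sB_one : sB 1 = 2 := rfl

theorem cube_psu_three {q : ℕ} (hF : Fintype.card F = q ^ (2:ℕ)) (hq : 8 ≤ q ∨ q = 5) : CubeBound (PSU 3 F q) := by
  refine cube_psu_odd_of (m := 1) hF le_rfl ?_
  rw [NB_one, sB_one]
  rcases hq with hq | rfl
  · refine lt_of_le_of_lt ?_ (H807.CubeNum.num_U3 q hq)
    refine Nat.mul_le_mul_left _ ?_
    rw [← card_psu_three hF]
    exact Nat.le_mul_of_pos_left _ (Nat.gcd_pos_of_pos_left _ (by omega))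
  · have h1 := card_psu_three hF
    norm_num only [_root_.gt_iff_lt] at h1 ⊢
    omega

theorem cube_psu_four_three (hF : Fintype.card F = 3 ^ (2:ℕ)) : CubeBound (PSU 4 F 3) := by
  refine cube_psu_even_of (m := 2) (q := 3) hF le_rfl ?_
  have h1 := card_psu_even (m := 2) (q := 3) hF (by norm_num)
  rw [Finset.prod_range_succ, Finset.prod_range_succ, Finset.prod_range_zero] at h1
  norm_num at h1
  have h2 : Nat.card (PSU 4 F 3) = 3265920 := by omega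
  have h3 := H807.CubeNum.num_U43
  rw [← h2] at h3
  exact h3

/-! ### Orthogonal groups -/

theorem cube_po_odd {q m : ℕ} (hF : Fintype.card F = q) (ho : Odd q) (hm : 3 ≤ m) :
    CubeBound (POmega F (quadFormOdd m F)) := by
  obtain ⟨p, hp⟩ := CharP.exists F
  have : Fact p.Prime := ⟨CharP.char_is_prime F p⟩
  have hfin : Finite (POmega F (quadFormOdd m F)) := by infer_instance
  have h1 := H807.CubePar.par_PO_odd' (F := F) (by rwa [Nat.card_eq_fintype_card, hF]) hm (p := p)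
  rw [Nat.card_eq_fintype_card, hF] at h1
  refine cube_of_parB (p := p) (a := q) (b := q) (by simpa using h1) ?_
  have hq : 2 ≤ q := by rw [← hF]; exact Fintype.one_lt_card
  refine lt_of_le_of_lt (Nat.mul_le_mul_left _ ?_) (H807.CubeNum.num_C m q hm hq)
  rw [← S0292.result hF ho m hm]
  omega

theorem cube_po_plus {q m : ℕ} (hF : Fintype.card F = q) (hm : 4 ≤ m) :
    CubeBound (POmega F (quadFormPlus m F)) := by
  obtain ⟨p, hp⟩ := CharP.exists F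
  have : Fact p.Prime := ⟨CharP.char_is_prime F p⟩
  have hfin : Finite (POmega F (quadFormPlus m F)) := by infer_instance
  obtain ⟨n, rfl⟩ : ∃ n, m = n + 3 := ⟨m - 3, by omega⟩
  have h1 := H807.CubePar.par_PO_plus (F := F) n (p := p)
  rw [Nat.card_eq_fintype_card, hF] at h1
  refine cube_of_parD (p := p) (a := q) h1 ?_
  have hq : 2 ≤ q := by rw [← hF]; exact Fintype.one_lt_card
  refine lt_of_le_of_lt (Nat.mul_le_mul_left _ ?_) (H807.CubeNum.num_D (n + 3) q hm hq)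
  rw [← S0293.result hF (n + 3) hm]
  exact Nat.le_mul_of_pos_left _ (Nat.gcd_pos_of_pos_left _ (by omega))

theorem cube_po_minus {q m : ℕ} (hF : Fintype.card F = q) (hm : 4 ≤ m) {a b : F}
    (hab : ∀ z₁ z₂ : F, z₁ ^ (2:ℕ) + a * z₁ * z₂ + b * z₂ ^ (2:ℕ) = 0 → z₁ = 0 ∧ z₂ = 0) :
    CubeBound (POmega F (quadFormMinus (m - 1) F a b)) := by
  obtain ⟨p, hp⟩ := CharP.exists F
  have : Fact p.Prime := ⟨CharP.char_is_prime F p⟩
  have hfin : Finite (POmega F (quadFormMinus (m - 1) F a b)) := by infer_instance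
  obtain ⟨n, rfl⟩ : ∃ n, m = n + 1 := ⟨m - 1, by omega⟩
  rw [Nat.add_sub_cancel] at hfin ⊢
  have h1 := H807.CubePar.par_PO_minus (F := F) hab (m := n) (by omega) (p := p)
  rw [Nat.card_eq_fintype_card, hF] at h1
  refine cube_of_parB (p := p) (a := q) (b := q ^ (2:ℕ)) h1 ?_
  have hq : 2 ≤ q := by rw [← hF]; exact Fintype.one_lt_card
  refine lt_of_le_of_lt (Nat.mul_le_mul_left _ ?_) (H807.CubeNum.num_2D n q (by omega) hq)
  have h2 := S0294.result hF (n + 1) hm a b hab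
  rw [Nat.add_sub_cancel] at h2
  rw [mul_comm n (n + 1), ← h2]
  exact Nat.le_mul_of_pos_left _ (Nat.gcd_pos_of_pos_left _ (by omega))

end

end Cfsg.Agent.H383.Cube.Classical
end

private theorem dce_32639b3c3b60 : _root_.True := by
  try have : _root_.True := by simp only [_root_.Cfsg.Agent.KFacts.RgdDiag.hat.congr_simp]
  try have : _root_.True := by simp only [_root_.Cfsg.Agent.Nodes.Reps.Rp.congr_simp]
  try have : _root_.True := by simp only [_root_.Cfsg.Agent.Nodes.Bruhat.Cell.congr_simp]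
  try have : _root_.True := by simp only [_root_.Cfsg.Agent.H383.Cube.ND.eq_1]
  try have : _root_.True := by simp only [_root_.Cfsg.Agent.KFacts.RgdDiag.Diag.congr_simp]
  try have : _root_.True := by simp only [_root_.Cfsg.Agent.Nodes.Bruhat.GG.congr_simp]
  try have : _root_.True := by simp only [_root_.Cfsg.Agent.Nodes.BNOf.RGD.B.congr_simp]
  exact _root_.True.intro
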