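import Mathlib
import Cfsg.Agent.H383.Cube.TorWitt_mg
import Cfsg.Agent.S0822
import Cfsg.Agent.H383.Cube.Crude_m3
import Cfsg.Agent.Nodes.RGDChev
import Cfsg.Agent.Nodes.RGDLib
import Cfsg.Agent.ChevalleyStructure.OrderFinal
import Cfsg.Agent.ChevalleyStructure.CardCombAll
import Cfsg.Agent.S1043
import Cfsg.Agent.S1092
import Cfsg.Agent.S1093
import Cfsg.Agent.S1094
import Cfsg.Agent.Nodes.RGDTwD4
import Cfsg.Agent.Nodes.RGDTwE6
import Cfsg.Agent.S1066
import Cfsg.Agent.S1067
import Cfsg.Agent.S1106
import Cfsg.Agent.H383.Cube.DC_m3
import Cfsg.Agent.S0308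
import Cfsg.Agent.S1068
import Cfsg.Agent.S1069
import Cfsg.Agent.S1090
import Cfsg.Agent.S1101
import Cfsg.Agent.S1110
import Cfsg.Agent.S1111
import Cfsg.Agent.S1163
import Cfsg.Agent.ChevalleyStructure.Ree.BN
import Cfsg.Agent.ChevalleyStructure.TwF4.BN
import Cfsg.Agent.S0243
import Cfsg.Agent.S2478
import Cfsg.Agent.S2479
import Cfsg.Agent.S2480
import Cfsg.Agent.S2331
import Cfsg.Agent.S0255
import Cfsg.Prelude.Def_Spor_He
import Cfsg.Agent.H269.CubeJ3_mg_m3
import Cfsg.Agent.FixBN.HeStab
import Cfsg.Agent.Lib.RingK
import Cfsg.Agent.Schreier.TwFFour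
import Cfsg.Agent.Mrg.ParSys.Fam.TwoFFour
import Cfsg.Agent.S1074
import Cfsg.Agent.ChevalleyStructure.TwF4.WeylDih
import Cfsg.Agent.LieExceptional.BNPairCore
import Cfsg.Agent.H692.CubeSuz_m3
import Cfsg.Agent.ONType.RepOrb
import Cfsg.Agent.SporRec.ONFinal
import Cfsg.Agent.SporRec.ONIndexUpper
import Cfsg.Agent.H340.BabyTe
import Cfsg.Agent.CpAut.TwoInnerB
import Cfsg.Agent.MonsterN.LitFin
import Cfsg.Agent.H848.CubeM
import Cfsg.Agent.MonsterX.ThOneClass
import Cfsg.Agent.KFacts.Th.Main
import Cfsg.Agent.R10.Close
import Cfsg.Agent.TypeM.OutLyFin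
import Cfsg.Agent.OddHalf.D4.Spor.HN_m3
import Cfsg.Agent.KFacts.J4.SheetJ4
import Cfsg.Agent.OddHalf.Table.OutRu
import Cfsg.Agent.CTwoTab.Ru
import Cfsg.Agent.RuD.IdxPermG_m3
import Cfsg.Agent.H603.SporElim
import Cfsg.Agent.S1627
import Cfsg.Agent.SporadicA.M24Trans
import Cfsg.Agent.CTwoTab.Co1
import Cfsg.Agent.ConwayFacts.AutCo1
import Cfsg.Agent.CTwoTab.Co3
import Cfsg.Agent.KFacts.Co3.Sheet
import Cfsg.Agent.OddHalf.D4.Final.Inst_m3
import Cfsg.Agent.KFacts.CoTwo.QuotInst
import Cfsg.Agent.KFacts.CoTwo.Main
import Cfsg.Agent.KFacts.FiTTh.BasInv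
import Cfsg.Agent.KFacts.FiTTh.Has
import Cfsg.Agent.S0358
import Cfsg.Agent.S0000
import Cfsg.Agent.H269.CubeMat
import Cfsg.Agent.H269.CubeJ2
import Cfsg.Agent.H692.CubeMcL
import Cfsg.Agent.H819.CubeFi24
import Cfsg.Agent.FastGrp
import Cfsg.Agent.Prune
set_option linter.all false

section
prune_inst 0x7ffcbff9afb82ddfffff7e7ffef9dffc39d4dfffefdff94bffece1ff2fdf230209c5fb8d0de010fe0ed6601c10387853fbfffabfe36bdc7ffffd5ff41ffbee5fe5feb50871d48c340f3c6fff93f07f8e7f3fffffffffffffffffffffffffffbeffffffffffff

-- part: H383/Cube/Small_mg
section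
prune_inst 0x20000000000000000000000008000000000000000000000010000008000000000000000000800000000000000000000000001000000000000000000000000000000000000000000000000000000000000000000000000
set_option linter.all false
open scoped Cfsg.Agent.FastGrp

-- part: H383/Cube/Small
section
/-!
# The bound `|T| < |C_T(α)| ^ 3` for the small classical groups (helper383, S5721)

`PSU_3(q)`, `q = 3, 4, 7`; `PSp_4(q)`, `q = 3, 4, 5, 8`; `PSU_4(4)`, `PSU_4(2)`.
-/

set_option autoImplicit false
set_option linter.unusedSectionVars false

namespace Cfsg.Agent.H383.Cube.Small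

open Cfsg
open CoxeterSystem Cfsg.Agent.ChevalleyStructure.CoxeterGeom Cfsg.Agent.Tits.Roots Cfsg.Agent.Tits.Core
  Cfsg.Agent.Nodes.Comb Cfsg.Agent.Nodes.Reps Cfsg.Agent.Nodes.BNOf
  Cfsg.Agent.Nodes.RGDLib Cfsg.Agent.Nodes.Bruhat Cfsg.Agent.KFacts.RgdDiag
open Cfsg.Agent.Nodes Cfsg.Agent.Nodes.WittAll Cfsg.Agent.Nodes.WittU Cfsg.Agent.Nodes.WittInst
  Cfsg.Agent.Nodes.WittRoot Cfsg.Agent.Nodes.CardWitt Cfsg.Agent.Nodes.CardSup
  Cfsg.Agent.TitsThree Cfsg.Agent.TitsThree.Siegel Cfsg.Agent.TitsThree.SiegelGen
  Cfsg.Agent.TitsThree.WittFrame Cfsg.Agent.TitsThree.WBridge Cfsg.Agent.TitsThree.WittWeyl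
  Cfsg.Agent.TitsThree.FrameCN Cfsg.Agent.Nodes.TypeC Cfsg.Agent.Nodes.WittRGD
open Cfsg.Agent.LieClassical.HermBasic Cfsg.Agent.TitsThree.KSideU

section Unitary

variable {F : Type*} [Field F] [Fintype F] {q : ℕ}

/-- the norm is not constant -/
theorem exists_norm_ne (hF : Fintype.card F = q ^ 2) (hq : 3 ≤ q) (N0 : F) : ∃ c : F, c ≠ 0 ∧ c * c ^ q ≠ N0 := by
  by_contra hcon
  push Not at hcon
  have h1 : (1 : F) * 1 ^ q = N0 := hcon 1 one_ne_zero
  have h2 : N0 = 1 := by rw [← h1, one_pow, one_mul]
  subst h2
  have h3 := card_norm_eq_one hF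
  have h4 : Nat.card Fˣ ≤ Nat.card {x : F // x * x ^ q = 1} :=
    Nat.card_le_card_of_injective (fun u : Fˣ => (⟨u, hcon u u.ne_zero⟩ : {x : F // x * x ^ q = 1}))
      fun u v e => Units.ext (congrArg Subtype.val e)
  rw [h3, card_units_eq hF] at h4
  nlinarith only [hq, h4, Nat.sub_add_cancel (show 1 ≤ q by omega)]

/-- **`PSU_3(q)`, refined** -/
theorem cube_psu_three_of (hF : Fintype.card F = q ^ 2) (hq : 3 ≤ q) {p l : ℕ} [Fact p.Prime] [CharP F p]
    (hl : l = 2 ∨ (p = 2 ∧ l = 3))
    (hlt : (2 * (l + 1)) ^ 3 * Nat.card (PSU 3 F q) < (2 * l * (1 + q ^ 3)) ^ 3) : CubeBound (PSU 3 F q) := by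
  obtain ⟨W, d, hd, hW⟩ := exists_wframe_odd hF (N := 3) (m := 1) rfl
  obtain ⟨p0, hp0, -⟩ := exists_adm hF W
  have := Omega.ML.Ex.Typ.finite_adm (toFrame W)
  have hfin : Finite (PSU 3 F q) := by infer_instance
  have hd0 : d ≠ 0 := by
    rintro rfl
    rw [herm_zero_left] at hd
    exact zero_ne_one hd
  have hdV : d ∈ (toFrame W).V0 := by
    change d ∈ W.V0
    rw [hW]
    exact Submodule.mem_span_singleton_self d
  have hspan : ∀ v ∈ (toFrame W).V0, ∃ a : F, v = a • d := by
    intro v hv
    change v ∈ W.V0 at hv
    rw [hW, Submodule.mem_span_singleton] at hv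
    obtain ⟨a, ha⟩ := hv
    exact ⟨a, ha.symm⟩
  have hnorm : ∀ a : F, hermForm 3 F q (a • d) (a • d) = a * a ^ q := by
    intro a
    have h1 : (HU hF 3).h (a • d) (a • d) = a * (HU hF 3).σ a * (HU hF 3).h d d := by
      rw [(HU hF 3).smul_left, (HU hF 3).smul_right]; ring
    have h2 : (HU hF 3).h d d = 1 := hd
    rw [h2, mul_one] at h1
    exact h1
  -- another admissible pair
  obtain ⟨c, hc0, hc⟩ := exists_norm_ne hF hq (p0.c * p0.c ^ q)
  obtain ⟨a, ha⟩ := _root_.Cfsg.Agent.LieClassical.HermBasic.exists_norm_eq hF (c := -(c + c ^ q)) (by rw [neg_pow_q hF, trace_pow_q hF])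
  have hok : (PU hF 3).ok (a • d) c := by
    rw [ok_iff, hnorm, ha, _root_.neg_neg]
  let pa : (toFrame W).Adm := ⟨a • d, c, Submodule.smul_mem _ _ hdV, hok⟩
  have hcard : q ^ 3 ≤ Nat.card (toFrame W).Adm := by
    have h1 : Nat.card (Σ a : F, {s : F // s + s ^ q = -hermForm 3 F q (a • d) (a • d)}) = q ^ 3 := by
      rw [Nat.card_sigma, Finset.sum_congr rfl (g := fun _ => q), Finset.sum_const, Finset.card_univ, hF,
        smul_eq_mul, ← pow_succ]
      intro a _
      exact ClassicalGeometry.HermLines.card_trace_eq hF (by rw [neg_pow_q hF, herm_self_pow hF])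
    refine h1.ge.trans ?_
    refine Nat.card_le_card_of_injective
      (fun x : Σ a : F, {s : F // s + s ^ q = -hermForm 3 F q (a • d) (a • d)} =>
        (⟨x.1 • d, x.2.1, Submodule.smul_mem _ _ hdV, x.2.2⟩ : (toFrame W).Adm)) ?_
    rintro ⟨a, s, hs⟩ ⟨b, t, ht⟩ e
    have e1 : a • d = b • d := congrArg Frame.Adm.w e
    have e2 : s = t := congrArg Frame.Adm.c e
    obtain rfl : a = b := smul_left_injective F hd0 e1
    subst e2
    rfl
  refine TorWitt.cube_wit_one (KInstU.model hF le_rfl W) (amb_U hF W) hp0 hspan hdV hd0 (pa := pa) (pb := p0) hc0 hp0 hc hl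
    (a := 1) (b := q ^ 3) ?_ hcard ?_
  · exact Nat.card_pos
  · rw [Classical.NB_one, Classical.sB_one]
    exact hlt

theorem charP_of (hF : Fintype.card F = q ^ 2) {r k : ℕ} (hr : r.Prime) (hq : q = r ^ k) : CharP F r := by
  obtain ⟨p, hp⟩ := CharP.exists F
  have hpp : p.Prime := CharP.char_is_prime F p
  obtain ⟨n, -, hn⟩ := FiniteField.card F p
  rw [hF, hq, ← pow_mul] at hn
  have h1 : p ∣ r ^ (k * 2) := by rw [hn]; exact dvd_pow_self _ n.ne_zero
  have h2 := (Nat.prime_dvd_prime_iff_eq hpp hr).1 (hpp.dvd_of_dvd_pow h1)
  rwa [← h2]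

theorem cube_psu_three_three (hF : Fintype.card F = 3 ^ 2) : CubeBound (PSU 3 F 3) := by
  have : CharP F 3 := charP_of hF (k := 1) Nat.prime_three (by norm_num)
  have : Fact (Nat.Prime 3) := ⟨Nat.prime_three⟩
  refine cube_psu_three_of hF (by norm_num) (p := 3) (l := 2) (Or.inl rfl) ?_
  have h1 := Classical.card_psu_three hF
  norm_num only [_root_.one_mul, _root_.gt_iff_lt] at h1 ⊢
  omega

theorem cube_psu_three_four (hF : Fintype.card F = 4 ^ 2) : CubeBound (PSU 3 F 4) := by
  have : CharP F 2 := charP_of hF (k := 2) Nat.prime_two (by norm_num)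
  have : Fact (Nat.Prime 2) := ⟨Nat.prime_two⟩
  refine cube_psu_three_of hF (by norm_num) (p := 2) (l := 3) (Or.inr ⟨rfl, rfl⟩) ?_
  have h1 := Classical.card_psu_three hF
  norm_num only [_root_.one_mul, _root_.gt_iff_lt] at h1 ⊢
  omega

theorem cube_psu_three_seven (hF : Fintype.card F = 7 ^ 2) : CubeBound (PSU 3 F 7) := by
  have h7 : Nat.Prime 7 := by norm_num
  have : CharP F 7 := charP_of hF (k := 1) h7 (by norm_num)
  have : Fact (Nat.Prime 7) := ⟨h7⟩
  refine cube_psu_three_of hF (by norm_num) (p := 7) (l := 2) (Or.inl rfl) ?_
  have h1 := Classical.card_psu_three hF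
  norm_num only [_root_.one_mul, _root_.gt_iff_lt] at h1 ⊢
  omega

/-- **`PSU_4(4)`** -/
theorem cube_psu_four_four (hF : Fintype.card F = 4 ^ 2) : CubeBound (PSU 4 F 4) := by
  have : CharP F 2 := charP_of hF (k := 2) Nat.prime_two (by norm_num)
  have : Fact (Nat.Prime 2) := ⟨Nat.prime_two⟩
  obtain ⟨W, hW⟩ := exists_wframe_even hF (N := 4) (m := 2) rfl
  obtain ⟨p0, hp0, -⟩ := exists_adm hF W
  have := Omega.ML.Ex.Typ.finite_adm (toFrame W)
  have hfin : Finite (PSU 4 F 4) := by infer_instance
  have hspan : ∀ v ∈ (toFrame W).V0, ∃ a : F, v = a • (0 : Fin 4 → F) := by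
    intro v hv
    change v ∈ W.V0 at hv
    rw [hW, Submodule.mem_bot] at hv
    exact ⟨0, by rw [hv, smul_zero]⟩
  have hcard : 4 ≤ Nat.card (toFrame W).Adm := by
    have h0 : (0 : F) ^ 4 = 0 := zero_pow_q hF
    refine (ClassicalGeometry.HermLines.card_trace_eq hF h0).ge.trans ?_
    refine Nat.card_le_card_of_injective (fun c : {s : F // s + s ^ 4 = 0} =>
      (⟨0, c.1, W.V0.zero_mem, ?_⟩ : (toFrame W).Adm)) fun a b e => Subtype.ext (congrArg Frame.Adm.c e)
    rw [ok_iff, herm_zero_left, neg_zero]
    exact c.2
  obtain ⟨a, ha0, ha⟩ := exists_norm_ne hF (by norm_num) 1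
  let pa : (toFrame W).Adm := ⟨a • p0.w, _, (toFrame W).ok_smul a p0.ok⟩
  have hn4 : ∀ x : F, x ^ 4 = 0 → x = 0 := fun x hx => pow_eq_zero_iff (by norm_num) |>.1 hx
  have hpa : pa.c = a * a ^ 4 * p0.c := rfl
  refine TorWitt.cube_wit_two (KInstU.model hF (by norm_num) W) (amb_U hF W) hp0 hspan (Submodule.zero_mem _)
    (pa := pa) (pb := p0) ?_ hp0 ?_ (p := 2) (l := 3) (Or.inr ⟨rfl, rfl⟩) (a := 4 ^ 2) (b := 4) ?_ hcard ?_
  · rw [hpa]
    exact mul_ne_zero (mul_ne_zero ha0 (pow_ne_zero _ ha0)) hp0
  · rw [HU_σ, HU_σ, hpa]
    intro e
    have h1 : (a * a ^ 4) ^ 4 = a * a ^ 4 := norm_pow_q hF a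
    have h2 : (a * a ^ 4) * (a * a ^ 4) * (p0.c * p0.c ^ 4) = 1 * (p0.c * p0.c ^ 4) := by
      calc (a * a ^ 4) * (a * a ^ 4) * (p0.c * p0.c ^ 4) = (a * a ^ 4) * (a * a ^ 4) ^ 4 * (p0.c * p0.c ^ 4) := by rw [h1]
        _ = (a * a ^ 4 * p0.c) * (a * a ^ 4 * p0.c) ^ 4 := by ring
        _ = 1 * (p0.c * p0.c ^ 4) := by rw [e, one_mul]
    have h3 := mul_right_cancel₀ (mul_ne_zero hp0 (pow_ne_zero _ hp0)) h2
    apply ha
    have h4 : (a * a ^ 4 - 1) ^ 2 = 0 := by
      rw [sub_sq, sq, h3]
      have h5 : (2 : F) = 0 := CharTwo.two_eq_zero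
      rw [h5]
      ring_nf
      rw [h5]
    exact sub_eq_zero.1 (pow_eq_zero_iff (by norm_num) |>.1 h4)
  · rw [← hF, Nat.card_eq_fintype_card]
  · have h1 := Classical.card_psu_even (m := 2) (q := 4) hF (by norm_num)
    rw [Finset.prod_range_succ, Finset.prod_range_succ, Finset.prod_range_zero] at h1
    norm_num only [_root_.one_mul] at h1
    have h2 : Nat.card (PSU 4 F 4) = 1018368000 := by omega
    rw [h2, H807.CubeNum.NB_two, H807.CubeNum.sB_two]
    norm_num

end Unitary

section Symplectic

variable {F : Type*} [Field F] [Fintype F] {q : ℕ}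

/-- **`PSp_4(q)`, refined** -/
theorem cube_psp_two_of (hF : Fintype.card F = q) {p l : ℕ} [Fact p.Prime] [CharP F p]
    (hl : l = 2 ∨ (p = 2 ∧ l = 3)) {c : F} (hc0 : c ≠ 0) (hc : c * c ≠ 1)
    (hlt : (6 * (l + 1)) ^ 3 * Nat.card (PSp 2 F) < (2 * l * NB q q 2) ^ 3) : CubeBound (PSp 2 F) := by
  have := Omega.ML.Ex.Typ.finite_adm (SpIdent.frame 2 F)
  have hfin : Finite (PSp 2 F) := by infer_instance
  have hspan : ∀ v ∈ (SpIdent.frame 2 F).V0, ∃ a : F, v = a • (0 : _) := by
    intro v hv
    have h1 : v = 0 := (Submodule.mem_bot F).1 hv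
    exact ⟨0, by rw [h1, smul_zero]⟩
  have hcard : q ≤ Nat.card (SpIdent.frame 2 F).Adm := by
    rw [← hF, ← Nat.card_eq_fintype_card]
    exact Nat.card_le_card_of_injective (fun c : F => (SpIdent.adm c : (SpIdent.frame 2 F).Adm)) fun a b e =>
      congrArg Frame.Adm.c e
  refine TorWitt.cube_wit_two (KInstSp.model 2 F) amb_Sp (p0 := SpIdent.adm 1) one_ne_zero hspan (Submodule.zero_mem _)
    (pa := SpIdent.adm c) (pb := SpIdent.adm 1) hc0 one_ne_zero ?_ hl (a := q) (b := q) ?_ hcard ?_
  · change c * (SpIdent.form 2 F).σ c ≠ 1 * (SpIdent.form 2 F).σ 1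
    rw [map_one, one_mul]
    exact hc
  · rw [← hF, Nat.card_eq_fintype_card]
  · exact hlt

theorem charP_of' (hF : Fintype.card F = q) {r k : ℕ} (hr : r.Prime) (hq : q = r ^ k) : CharP F r := by
  obtain ⟨p, hp⟩ := CharP.exists F
  have hpp : p.Prime := CharP.char_is_prime F p
  obtain ⟨n, -, hn⟩ := FiniteField.card F p
  rw [hF, hq] at hn
  have h1 : p ∣ r ^ k := by rw [hn]; exact dvd_pow_self _ n.ne_zero
  have h2 := (Nat.prime_dvd_prime_iff_eq hpp hr).1 (hpp.dvd_of_dvd_pow h1)
  rwa [← h2]

theorem exists_sq_ne (hF : 4 ≤ Fintype.card F) : ∃ c : F, c ≠ 0 ∧ c * c ≠ 1 := by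
  classical
  by_contra hcon
  push Not at hcon
  have h1 : (Finset.univ : Finset F) ⊆ {0, 1, -1} := by
    intro x _
    by_cases hx : x = 0
    · simp only [hx, _root_.Finset.mem_insert, _root_.zero_ne_one, _root_.Finset.mem_singleton, _root_.zero_eq_neg, _root_.one_ne_zero, _root_.or_self, _root_.or_false]
    · have h2 := hcon x hx
      rcases mul_self_eq_one_iff.1 h2 with h3 | h3 <;> simp only [h3, _root_.Finset.mem_insert, _root_.one_ne_zero, _root_.Finset.mem_singleton, _root_.true_or, _root_.or_true, _root_.neg_eq_zero]
  have h2 := Finset.card_le_card h1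
  rw [Finset.card_univ] at h2
  have h3 : ({0, 1, -1} : Finset F).card ≤ 3 := Finset.card_le_three
  omega

theorem cube_psp_two_four (hF : Fintype.card F = 4) : CubeBound (PSp 2 F) := by
  have : CharP F 2 := charP_of' hF (k := 2) Nat.prime_two (by norm_num)
  have : Fact (Nat.Prime 2) := ⟨Nat.prime_two⟩
  obtain ⟨c, hc0, hc⟩ := exists_sq_ne (F := F) (by omega)
  refine cube_psp_two_of hF (p := 2) (l := 3) (Or.inr ⟨rfl, rfl⟩) hc0 hc ?_
  have h1 := Classical.card_psp_two hF
  norm_num at h1
  rw [H807.CubeNum.NB_two]
  norm_num
  omega

theorem cube_psp_two_eight (hF : Fintype.card F = 8) : CubeBound (PSp 2 F) := by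
  have : CharP F 2 := charP_of' hF (k := 3) Nat.prime_two (by norm_num)
  have : Fact (Nat.Prime 2) := ⟨Nat.prime_two⟩
  obtain ⟨c, hc0, hc⟩ := exists_sq_ne (F := F) (by omega)
  refine cube_psp_two_of hF (p := 2) (l := 3) (Or.inr ⟨rfl, rfl⟩) hc0 hc ?_
  have h1 := Classical.card_psp_two hF
  norm_num at h1
  rw [H807.CubeNum.NB_two]
  norm_num
  omega

theorem cube_psp_two_five (hF : Fintype.card F = 5) : CubeBound (PSp 2 F) := by
  have h5 : Nat.Prime 5 := by norm_num
  have : CharP F 5 := charP_of' hF (k := 1) h5 (by norm_num)
  have : Fact (Nat.Prime 5) := ⟨h5⟩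
  obtain ⟨c, hc0, hc⟩ := exists_sq_ne (F := F) (by omega)
  refine cube_psp_two_of hF (p := 5) (l := 2) (Or.inl rfl) hc0 hc ?_
  have h1 := Classical.card_psp_two hF
  norm_num at h1
  rw [H807.CubeNum.NB_two]
  norm_num
  omega

theorem cube_psp_two_three (hF : Fintype.card F = 3) : CubeBound (PSp 2 F) := by
  have : CharP F 3 := charP_of' hF (k := 1) Nat.prime_three (by norm_num)
  have : Fact (Nat.Prime 3) := ⟨Nat.prime_three⟩
  have hfin : Finite (PSp 2 F) := by infer_instance
  obtain ⟨A, h, T, nn, X, hW, R, hGG, hX⟩ := H807.CubePar.par_PSp (F := F) (m := 2) le_rfl (p := 3)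
  have hX' : ∀ i : Fin 2, (if (i : ℕ) + 1 < 2 then 3 else 3) ≤ Nat.card ↥(X (sr i)) := by
    intro i
    have h1 := hX i
    rw [Nat.card_eq_fintype_card, hF] at h1
    split_ifs <;> exact h1
  have hA : A 0 1 ≠ 0 := by
    have h4 : CoxeterMatrix.B 2 0 1 = 4 := TorWitt.B_two
    rcases h.rel 0 1 (by decide) with h1 | h1 | h1 | h1
    · have := h1.1; omega
    · have := h1.1; omega
    · rcases h1.2 with h2 | h2 <;> rw [h2.1] <;> norm_num
    · have := h1.1; omega
  have hne := Odd.U_not_comm R (i := 0) (j := 1) (by decide) (by
    rw [rep_simple_eq, sr, pairing_single, mul_one]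
    intro e
    have h1 := congrFun e 0
    simp [sr] at h1
    exact hA h1)
  refine Odd.cube_of_odd R (by norm_num) hGG hne (s := 5) (N := NB 3 3 2)
    (fun σ hσ => H461.CoxB.card_tw_B _ σ hσ) (index_B R hGG hX') ?_
  have h1 := Classical.card_psp_two hF
  norm_num at h1
  rw [H807.CubeNum.NB_two]
  norm_num
  omega

/-- **`PSp_4(q)`** -/
theorem cube_psp_two (hF : 3 ≤ Fintype.card F) : CubeBound (PSp 2 F) := by
  by_cases h3 : Fintype.card F = 3
  · exact cube_psp_two_three h3
  by_cases h4 : Fintype.card F = 4
  · exact cube_psp_two_four h4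
  by_cases h5 : Fintype.card F = 5
  · exact cube_psp_two_five h5
  by_cases h8 : Fintype.card F = 8
  · exact cube_psp_two_eight h8
  by_cases h16 : 16 ≤ Fintype.card F
  · exact Classical.cube_psp_two_even rfl h16
  have hpp := FiniteField.isPrimePow_card F
  generalize hq : Fintype.card F = q at *
  have hodd : Odd q ∧ 7 ≤ q := by
    interval_cases q
    · exact absurd rfl h3
    · exact absurd rfl h4
    · exact absurd rfl h5
    · exact absurd hpp (by decide)
    · decide
    · exact absurd rfl h8
    · decide
    · exact absurd hpp (by decide)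
    · decide
    · exact absurd hpp (by decide)
    · decide
    · exact absurd hpp (by decide)
    · decide
  exact Classical.cube_psp_two_odd hq hodd.2 hodd.1

theorem cube_PSp {m : ℕ} (hm : 2 ≤ m) (h : m = 2 → 3 ≤ Fintype.card F) : CubeBound (PSp m F) := by
  rcases Nat.lt_or_ge m 3 with h3 | h3
  · obtain rfl : m = 2 := by omega
    exact cube_psp_two (h rfl)
  · exact Classical.cube_psp h3

end Symplectic

/-- **`PSU_n(q)`** -/
theorem cube_PSU {F : Type*} [Field F] [Fintype F] {n q : ℕ} (hF : Fintype.card F = q ^ 2) (hn : 3 ≤ n)
    (h : ¬ (n = 3 ∧ q = 2)) : CubeBound (PSU n F q) := by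
  have hq : 2 ≤ q := two_le hF
  have hqp : IsPrimePow q := by
    obtain ⟨p, k, hp, -, hk, hk0⟩ := exists_prime_pow hF
    rw [hk]
    exact hp.isPrimePow.pow hk0.ne'
  by_cases h3 : n = 3
  · subst h3
    by_cases q3 : q = 3
    · subst q3; exact cube_psu_three_three hF
    by_cases q4 : q = 4
    · subst q4; exact cube_psu_three_four hF
    by_cases q7 : q = 7
    · subst q7; exact cube_psu_three_seven hF
    have q6 : q ≠ 6 := by
      rintro rfl
      exact absurd hqp (by decide)
    have q2 : q ≠ 2 := fun e => h ⟨rfl, e⟩
    exact Classical.cube_psu_three hF (by omega)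
  rcases Nat.even_or_odd' n with ⟨m, hm | hm⟩
  · subst hm
    by_cases h2 : m = 2
    · subst h2
      by_cases q2 : q = 2
      · subst q2
        obtain ⟨e⟩ := S0822.result (F := F) (K := ZMod 3) (by rw [hF]; norm_num) (ZMod.card 3)
        exact CubeBound.congr e.symm (cube_psp_two_three (ZMod.card 3))
      by_cases q3 : q = 3
      · subst q3; exact Classical.cube_psu_four_three hF
      by_cases q4 : q = 4
      · subst q4; exact cube_psu_four_four hF
      exact Classical.cube_psu_even hF le_rfl fun _ => ⟨q2, q3, q4⟩
    · exact Classical.cube_psu_even hF (by omega) fun e => absurd e h2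
  · subst hm
    exact Classical.cube_psu_odd hF (by omega)

end Cfsg.Agent.H383.Cube.Small
end

-- part: H383/Cube/Chev
section
/-!
# The bound `|T| < |C_T(α)| ^ 3` for the exceptional Chevalley groups (helper383, S5721)
-/

set_option autoImplicit false
set_option linter.unusedSectionVars false

namespace Cfsg.Agent.H383.Cube.Chev

open Cfsg CoxeterSystem Cfsg.Agent.ChevalleyStructure.CoxeterGeom Cfsg.Agent.Tits.Roots Cfsg.Agent.Tits.Core
  Cfsg.Agent.Tits.Exchange Cfsg.Agent.Nodes.Reps Cfsg.Agent.Nodes.BNOf Cfsg.Agent.Nodes.StabComb
  Cfsg.Agent.Nodes.Bruhat Cfsg.Agent.Nodes.LeviDec Cfsg.Agent.Nodes.NormalForm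
open Cfsg.Lie Cfsg.Agent.ChevalleyStructure Cfsg.Agent.ChevalleyStructure.Elts Cfsg.Agent.Nodes.RGDChev
  Cfsg.Agent.ChevalleyStructure.RootVec Cfsg.Agent.ChevalleyStructure.RootVecTab Cfsg.Agent.ChevalleyStructure.NPerm
  Cfsg.Agent.ChevalleyStructure.CardComb Cfsg.Agent.ChevalleyStructure.CardBruhat
  Cfsg.Agent.KFacts.RgdDiag

universe u

section

variable {D : ChevalleyDatum} {l : ℕ} {M : CoxeterMatrix (Fin l)} (hp : IsType D l M) {K : Type u} [Field K]
  {W : Type*} [Group W] (cs : CoxeterSystem M W)

include hp

theorem pos_iff_vec {s : ℕ} (hs : s < D.nroots) : D.IsPosRoot s ↔ 0 ≤ vec D l s := by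
  rw [RootVec.isPosRoot_iff hp.checked]
  constructor
  · rintro ⟨-, h⟩ i
    exact h i (lt_rank hp i)
  · intro h
    refine ⟨hs, fun i hi => ?_⟩
    have hi' : i < l := by rw [← hp.rank_eq]; exact hi
    exact h ⟨i, hi'⟩

theorem B_le : RGD.B cs hp.isCartan ((D.diagonalSubgroup K).subgroupOf (D.group K))
    (fun x => (XV D l K x).subgroupOf (D.group K)) ≤ (D.borelSubgroup K).subgroupOf (D.group K) := by
  refine sup_le ?_ (iSup_le ?_)
  · intro g hg
    exact (le_sup_right : D.diagonalSubgroup K ≤ D.borelSubgroup K) hg
  · rintro ⟨x, hx, hx0⟩ g hg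
    obtain ⟨r, hr, rfl⟩ := (isRoot_iff hp cs x).1 hx
    have hg' : (g : GL D.Idx K) ∈ XV D l K (vec D l r) := hg
    rw [XV_vec hp K hr] at hg'
    obtain ⟨t, ht⟩ := (mem_rootSubgroup_iff hp.inList r _).1 hg'
    show (g : GL D.Idx K) ∈ D.borelSubgroup K
    rw [ht]
    exact (le_sup_left : D.posUnipotent K ≤ D.borelSubgroup K)
      (xG_mem_posUnipotent hp.inList ((pos_iff_vec hp hr).2 hx0) t)

theorem card_B_le [Finite K] : Nat.card ↥(RGD.B cs hp.isCartan ((D.diagonalSubgroup K).subgroupOf (D.group K))
    (fun x => (XV D l K x).subgroupOf (D.group K))) ≤ Nat.card (D.borelSubgroup K) := by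
  refine (Subgroup.card_le_of_le (B_le hp cs)).trans ?_
  exact Nat.card_le_card_of_injective (fun g : (D.borelSubgroup K).subgroupOf (D.group K) =>
    (⟨(g : ↥(D.group K)), g.2⟩ : D.borelSubgroup K)) fun a b e =>
      Subtype.ext (Subtype.ext (congrArg (fun z : ↥(D.borelSubgroup K) => (z : GL D.Idx K)) e))

/-- **the criterion for the Chevalley groups** -/
theorem cube_chev [Finite K] (p : ℕ) [Fact p.Prime] [CharP K p] (hc : Comb D) {s N : ℕ}
    (hs : ∀ (σ : Equiv.Perm (Fin l)) (hσ : ∀ i j, M (σ i) (σ j) = M i j),
      Nat.card {w : M.Group // hat M.toCoxeterSystem σ hσ w = w⁻¹} ≤ s)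
    (hN : ∑ᶠ w ∈ (weyl D : Set (Equiv.Perm (Fin D.nroots))), Nat.card K ^ CardComb.inv D w = N)
    (hlt : s ^ 3 * Nat.card (D.group K) < N ^ 3) : CubeBound ↥(D.group K) := by
  have hW : Finite M.Group := finite_W hp M.toCoxeterSystem
  have R := rgd (K := K) hp M.toCoxeterSystem p
  have hG : GG M.toCoxeterSystem hp.isCartan ((D.diagonalSubgroup K).subgroupOf (D.group K))
      (fun x => (XV D l K x).subgroupOf (D.group K)) = ⊤ := by
    rw [eq_top_iff, ← G1_eq_top hp M.toCoxeterSystem (K := K)]
    exact le_sup_right
  refine cube_of_rgd R hG hs ?_ hlt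
  rw [card_group_eq_sum hp.inList hc, hN]
  exact Nat.mul_le_mul_right _ (card_B_le hp _)

end

/-- the numerical criterion -/
theorem lt_of {Y d q0 N s : ℕ} (hcard : d * Y = q0 * N) (hd : 1 ≤ d) (hN : 0 < N) (h : s ^ 3 * q0 < N ^ 2) :
    s ^ 3 * Y < N ^ 3 := by
  have h1 : Y ≤ q0 * N := by
    rw [← hcard]
    exact Nat.le_mul_of_pos_left Y hd
  calc s ^ 3 * Y ≤ s ^ 3 * (q0 * N) := Nat.mul_le_mul_left _ h1
    _ = s ^ 3 * q0 * N := by ring
    _ < N ^ 2 * N := Nat.mul_lt_mul_of_pos_right h hN
    _ = N ^ 3 := by ring

/-- the product of the `[d]_q` -/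
def pq (q : ℕ) (degs : List ℕ) : ℕ := (degs.map fun d => ∑ k ∈ Finset.range d, q ^ k).prod

theorem pow_le_pq {q : ℕ} : ∀ degs : List ℕ, (∀ d ∈ degs, 1 ≤ d) →
    q ^ (degs.map fun d => d - 1).sum ≤ pq q degs := by
  intro degs
  induction degs with
  | nil => intro _; simp [pq]
  | cons a l ih =>
    intro h
    have ha := h a (by simp)
    have h1 := ih fun d hd => h d (by simp [hd])
    unfold pq at h1 ⊢
    rw [List.map_cons, List.sum_cons, pow_add, List.map_cons, List.prod_cons]
    refine Nat.mul_le_mul ?_ h1
    exact Finset.single_le_sum (f := fun k => q ^ k) (fun _ _ => Nat.zero_le _) (Finset.mem_range.2 (by omega))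

theorem crude {q s r N0 : ℕ} {degs : List ℕ} (hq : 2 ≤ q) (hd : ∀ d ∈ degs, 1 ≤ d)
    (hN0 : (degs.map fun d => d - 1).sum = N0) (hr : 1 ≤ r) (h : s ^ 3 * q ^ r ≤ q ^ N0) :
    s ^ 3 * (q ^ N0 * (q - 1) ^ r) < pq q degs ^ 2 := by
  have h1 := pow_le_pq (q := q) degs hd
  rw [hN0] at h1
  have hq0 : 0 < q := by omega
  rcases Nat.eq_zero_or_pos s with rfl | hs
  · have : 0 < pq q degs := lt_of_lt_of_le (Nat.pow_pos hq0) h1
    rw [zero_pow (by norm_num), zero_mul]
    exact Nat.pow_pos this
  calc s ^ 3 * (q ^ N0 * (q - 1) ^ r) < s ^ 3 * (q ^ N0 * q ^ r) := by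
        apply Nat.mul_lt_mul_of_pos_left _ (by positivity)
        apply Nat.mul_lt_mul_of_pos_left _ (by positivity)
        exact Nat.pow_lt_pow_left (by omega) (by omega)
    _ = q ^ N0 * (s ^ 3 * q ^ r) := by ring
    _ ≤ q ^ N0 * q ^ N0 := Nat.mul_le_mul_left _ h
    _ = (q ^ N0) ^ 2 := by ring
    _ ≤ pq q degs ^ 2 := Nat.pow_le_pow_left h1 2

section

open Cfsg.Agent.ChevalleyStructure.RootComb

theorem cube_of_num {D : ChevalleyDatum} {l : ℕ} {M : CoxeterMatrix (Fin l)} (hp : IsType D l M) {K : Type u} [Field K]
    [Fintype K] (d : ℕ) (degs : List ℕ) {q : ℕ} (hq : Fintype.card K = q)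
    (hd : (D, d) ∈ [(chevG2, 1), (chevF4, 1), (chevE8, 1), (chevE6, Nat.gcd 3 (q - 1)),
      (chevE7, Nat.gcd 2 (q - 1)), (chevB2, Nat.gcd 2 (q - 1)), (chevD4, Nat.gcd 2 (q - 1) ^ 2)])
    (hc : Comb D) (hd1 : 1 ≤ d)
    (hdegs : (D, degs) ∈ [(chevG2, [2, 6]), (chevB2, [2, 4]), (chevD4, [2, 4, 4, 6]),
      (chevF4, [2, 6, 8, 12]), (chevE6, [2, 5, 6, 8, 9, 12]), (chevE7, [2, 6, 8, 10, 12, 14, 18]),
      (chevE8, [2, 8, 12, 14, 18, 20, 24, 30])]) {s : ℕ}
    (hs : ∀ (σ : Equiv.Perm (Fin l)) (hσ : ∀ i j, M (σ i) (σ j) = M i j),
      Nat.card {w : M.Group // hat M.toCoxeterSystem σ hσ w = w⁻¹} ≤ s)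
    (hnum : s ^ 3 * (q ^ (D.nroots / 2) * (q - 1) ^ D.rank) < pq q degs ^ 2) : CubeBound ↥(D.group K) := by
  obtain ⟨p, hpK⟩ := CharP.exists K
  have : Fact p.Prime := ⟨CharP.char_is_prime K p⟩
  have h2 : (∑ᶠ w ∈ (weyl D : Set (Equiv.Perm (Fin D.nroots))), q ^ CardComb.inv D w) = pq q degs :=
    Cfsg.Agent.ChevalleyStructure.WeylPoincare.poincare q (D, degs) hdegs
  have h1 : d * Nat.card (D.group K) = q ^ (D.nroots / 2) * (q - 1) ^ D.rank *
      ∑ᶠ w ∈ (weyl D : Set (Equiv.Perm (Fin D.nroots))), q ^ CardComb.inv D w :=
    card_group_formula hq (D, d) hd hp.inList hc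
  rw [h2] at h1
  refine cube_chev hp p hc hs (N := pq q degs) ?_ (lt_of h1 hd1 ?_ hnum)
  · rw [Nat.card_eq_fintype_card, hq, h2]
  · rcases Nat.eq_zero_or_pos (pq q degs) with h0 | h0
    · rw [h0] at hnum; simp at hnum
    · exact h0

theorem card_le_of_card {l : ℕ} {M : CoxeterMatrix (Fin l)} {s : ℕ} (hs : Nat.card M.Group = s) (hs0 : 0 < s)
    (σ : Equiv.Perm (Fin l)) (hσ : ∀ i j, M (σ i) (σ j) = M i j) :
    Nat.card {w : M.Group // hat M.toCoxeterSystem σ hσ w = w⁻¹} ≤ s := by
  have : Finite M.Group := Nat.finite_of_card_ne_zero (by omega)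
  rw [← hs]
  exact Nat.card_le_card_of_injective _ Subtype.val_injective

theorem crude' {s q q0 r N0 : ℕ} {degs : List ℕ} (hq : 2 ≤ q) (hd : ∀ d ∈ degs, 1 ≤ d)
    (hN0 : (degs.map fun d => d - 1).sum = N0) (hr : 1 ≤ r) (hq0 : q0 ≤ q) (hrN : r ≤ N0)
    (h : s ^ 3 ≤ q0 ^ (N0 - r)) : s ^ 3 * (q ^ N0 * (q - 1) ^ r) < pq q degs ^ 2 := by
  apply crude hq hd hN0 hr
  have h1 : s ^ 3 ≤ q ^ (N0 - r) := h.trans (Nat.pow_le_pow_left hq0 _)
  calc s ^ 3 * q ^ r ≤ q ^ (N0 - r) * q ^ r := Nat.mul_le_mul_right _ h1
    _ = q ^ N0 := by rw [← pow_add]; congr 1; omega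

theorem cube_F4 {K : Type u} [Field K] [Fintype K] : CubeBound ↥(chevF4.group K) := by
  have hq1 : 2 ≤ Fintype.card K := Fintype.one_lt_card
  refine cube_of_num (l := 4) (M := CoxeterMatrix.F₄) (by simp [IsType, typeList]) 1 [2, 6, 8, 12] rfl (by simp only [_root_.List.mem_cons, _root_.Prod.mk.injEq, _root_.and_true, _root_.List.not_mem_nil, _root_.or_false, _root_.true_or, _root_.or_true])
    CardComb.comb_F4 le_rfl (by simp) (s := 1152)
    (card_le_of_card (S1092.result (⟨4, CoxeterMatrix.F₄⟩, 1152) (by simp)) (by norm_num)) ?_
  change 1152 ^ 3 * (Fintype.card K ^ 24 * (Fintype.card K - 1) ^ 4) < _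
  rcases Nat.lt_or_ge (Fintype.card K) 3 with h | h
  · have h2 : Fintype.card K = 2 := by omega
    rw [h2]
    decide +kernel
  · exact crude' hq1 (by simp only [_root_.List.mem_cons, _root_.List.not_mem_nil, _root_.or_false, _root_.forall_eq_or_imp, _root_.Nat.one_le_ofNat, _root_.forall_eq, _root_.and_self]) rfl (by norm_num) h (by norm_num) (by norm_num)

theorem cube_E6 {K : Type u} [Field K] [Fintype K] : CubeBound ↥(chevE6.group K) := by
  have hq1 : 2 ≤ Fintype.card K := Fintype.one_lt_card
  refine cube_of_num (l := 6) (M := CoxeterMatrix.E₆) (by simp [IsType, typeList]) (Nat.gcd 3 (Fintype.card K - 1))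
    [2, 5, 6, 8, 9, 12] rfl (by simp only [_root_.List.mem_cons, _root_.Prod.mk.injEq, _root_.List.not_mem_nil, _root_.or_false, _root_.true_or, _root_.or_true]) (CardCombAll.comb_of_mem (by simp)) (Nat.gcd_pos_of_pos_left _ (by norm_num)) (by simp) (s := 51840)
    (card_le_of_card (S1093.result (⟨6, CoxeterMatrix.E₆⟩, 51840) (by simp)) (by norm_num)) ?_
  change 51840 ^ 3 * (Fintype.card K ^ 36 * (Fintype.card K - 1) ^ 6) < _
  rcases Nat.lt_or_ge (Fintype.card K) 3 with h | h
  · have h2 : Fintype.card K = 2 := by omega
    rw [h2]
    decide +kernel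
  · exact crude' hq1 (by simp only [_root_.List.mem_cons, _root_.List.not_mem_nil, _root_.or_false, _root_.forall_eq_or_imp, _root_.Nat.one_le_ofNat, _root_.forall_eq, _root_.and_self]) rfl (by norm_num) h (by norm_num) (by norm_num)

theorem cube_E7 {K : Type u} [Field K] [Fintype K] : CubeBound ↥(chevE7.group K) := by
  have hq1 : 2 ≤ Fintype.card K := Fintype.one_lt_card
  refine cube_of_num (l := 7) (M := CoxeterMatrix.E₇) (by simp [IsType, typeList]) (Nat.gcd 2 (Fintype.card K - 1))
    [2, 6, 8, 10, 12, 14, 18] rfl (by simp only [_root_.List.mem_cons, _root_.Prod.mk.injEq, _root_.Nat.coprime_two_left, _root_.and_true, _root_.List.not_mem_nil, _root_.or_false, _root_.true_or, _root_.or_true]) (CardCombAll.comb_of_mem (by simp)) (Nat.gcd_pos_of_pos_left _ (by norm_num)) (by simp)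
    (s := 2903040)
    (card_le_of_card (S1093.result (⟨7, CoxeterMatrix.E₇⟩, 2903040) (by simp)) (by norm_num)) ?_
  change 2903040 ^ 3 * (Fintype.card K ^ 63 * (Fintype.card K - 1) ^ 7) < _
  rcases Nat.lt_or_ge (Fintype.card K) 3 with h | h
  · have h2 : Fintype.card K = 2 := by omega
    rw [h2]
    decide +kernel
  · exact crude' hq1 (by simp only [_root_.List.mem_cons, _root_.List.not_mem_nil, _root_.or_false, _root_.forall_eq_or_imp, _root_.Nat.one_le_ofNat, _root_.forall_eq, _root_.and_self]) rfl (by norm_num) h (by norm_num) (by norm_num)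

theorem cube_E8 {K : Type u} [Field K] [Fintype K] : CubeBound ↥(chevE8.group K) := by
  have hq1 : 2 ≤ Fintype.card K := Fintype.one_lt_card
  refine cube_of_num (l := 8) (M := CoxeterMatrix.E₈) (by simp [IsType, typeList]) 1
    [2, 8, 12, 14, 18, 20, 24, 30] rfl (by simp only [_root_.List.mem_cons, _root_.Prod.mk.injEq, _root_.and_true, _root_.List.not_mem_nil, _root_.or_false, _root_.true_or, _root_.or_true]) (CardCombAll.comb_of_mem (by simp)) le_rfl (by simp) (s := 696729600)
    (card_le_of_card (S1093.result (⟨8, CoxeterMatrix.E₈⟩, 696729600) (by simp)) (by norm_num)) ?_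
  change 696729600 ^ 3 * (Fintype.card K ^ 120 * (Fintype.card K - 1) ^ 8) < _
  exact crude' hq1 (by simp only [_root_.List.mem_cons, _root_.List.not_mem_nil, _root_.or_false, _root_.forall_eq_or_imp, _root_.Nat.one_le_ofNat, _root_.forall_eq, _root_.and_self]) rfl (by norm_num) hq1 (by norm_num) (by norm_num)

end

end Cfsg.Agent.H383.Cube.Chev
end

-- part: H383/Cube/GTwo
section
set_option autoImplicit false
set_option linter.unusedSectionVars false

namespace Cfsg.Agent.H383.Cube.Chev

open Cfsg CoxeterSystem Cfsg.Agent.ChevalleyStructure.CoxeterGeom Cfsg.Agent.Tits.Roots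
open Cfsg.Lie Cfsg.Agent.ChevalleyStructure Cfsg.Agent.Nodes.RGDChev Cfsg.Agent.KFacts.RgdDiag

universe u

theorem card_add_le {W : Type*} [Finite W] {P : W → Prop} {k : ℕ} (f : Fin k → W) (hf : Function.Injective f)
    (hP : ∀ i, ¬ P (f i)) : Nat.card {w : W // P w} + k ≤ Nat.card W := by
  have h1 : Nat.card ({w : W // P w} ⊕ Fin k) ≤ Nat.card W := by
    refine Nat.card_le_card_of_injective (Sum.elim (fun w => w.1) f) ?_
    rintro (a | a) (b | b) e
    · exact congrArg _ (Subtype.ext e)
    · have e' : a.1 = f b := e
      exact absurd (e' ▸ a.2) (hP b)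
    · have e' : f a = b.1 := e
      exact absurd (e'.symm ▸ b.2) (hP a)
    · exact congrArg _ (hf e)
  rwa [Nat.card_sum, Nat.card_eq_fintype_card (α := Fin k), Fintype.card_fin] at h1

theorem card_G2 (σ : Equiv.Perm (Fin 2)) (hσ : ∀ i j, CoxeterMatrix.G₂ (σ i) (σ j) = CoxeterMatrix.G₂ i j) :
    Nat.card {w : CoxeterMatrix.G₂.Group // hat CoxeterMatrix.G₂.toCoxeterSystem σ hσ w = w⁻¹} ≤ 8 := by
  set cs := CoxeterMatrix.G₂.toCoxeterSystem with hcs
  have hc : Nat.card CoxeterMatrix.G₂.Group = 12 := S1092.result (⟨2, CoxeterMatrix.G₂⟩, 12) (by simp)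
  have hfin : Finite CoxeterMatrix.G₂.Group := Nat.finite_of_card_ne_zero (by omega)
  have hs : ∀ i, cs.simple i = CoxeterMatrix.G₂.simple i := fun i => rfl
  have ho : orderOf (cs.simple 0 * cs.simple 1) = 6 := by
    have h1 := S1094.result (⟨2, CoxeterMatrix.G₂⟩, 6) (by simp)
    rw [hs, hs]
    have h2 : ((List.finRange 2).map CoxeterMatrix.G₂.simple).prod =
        CoxeterMatrix.G₂.simple 0 * CoxeterMatrix.G₂.simple 1 := by
      have : List.finRange 2 = [0, 1] := by decide
      rw [this]
      simp
    rw [← h2]
    exact h1
  set a := cs.simple 0 with ha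
  set b := cs.simple 1 with hb
  have haa : a * a = 1 := cs.simple_mul_simple_self 0
  have hbb : b * b = 1 := cs.simple_mul_simple_self 1
  have hai : a⁻¹ = a := inv_eq_of_mul_eq_one_right haa
  have hbi : b⁻¹ = b := inv_eq_of_mul_eq_one_right hbb
  have hpow : ∀ k : ℕ, (a * b) ^ k = 1 ↔ 6 ∣ k := fun k => by rw [← ho, orderOf_dvd_iff_pow_eq_one]
  have hperm : ∀ τ : Equiv.Perm (Fin 2), τ = 1 ∨ τ = Equiv.swap 0 1 := by decide
  rcases hperm σ with h | h
  · have hid : ∀ w, hat cs σ hσ w = w := by
      intro w
      have : hat cs σ hσ = MonoidHom.id _ := by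
        apply cs.ext_simple
        intro i
        rw [hat_simple, h]
        rfl
      rw [this]
      rfl
    have h1 := card_add_le (P := fun w : CoxeterMatrix.G₂.Group => hat cs σ hσ w = w⁻¹)
      (![a * b, (a * b) ^ 2, (a * b) ^ 4, (a * b) ^ 5]) ?_ ?_
    · omega
    · intro i j hij
      have key : ∀ m n : ℕ, m < 6 → n < 6 → (a * b) ^ m = (a * b) ^ n → m = n := by
        intro m n hm hn e
        exact pow_injOn_Iio_orderOf (by simpa [ho] using hm) (by simpa [ho] using hn) e
      let g : Fin 4 → ℕ := ![1, 2, 4, 5]
      have hg : ∀ i, (![a * b, (a * b) ^ 2, (a * b) ^ 4, (a * b) ^ 5] : Fin 4 → _) i = (a * b) ^ g i := by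
        intro i
        (revert i; simp only [g, _root_.Fin.forall_fin_succ, _root_.Nat.succ_eq_add_one, Nat.reduceAdd, Fin.isValue, _root_.Matrix.cons_val_zero, _root_.pow_one, _root_.Matrix.cons_val_succ, _root_.Matrix.cons_val_fin_one, _root_.implies_true, _root_.and_self])
      rw [hg, hg] at hij
      have h2 : ∀ i, g i < 6 := by decide
      have h3 : ∀ i j, g i = g j → i = j := by decide
      exact h3 _ _ (key _ _ (h2 i) (h2 j) hij)
    · intro i
      rw [hid]
      let g : Fin 4 → ℕ := ![1, 2, 4, 5]
      have hg : ∀ i, (![a * b, (a * b) ^ 2, (a * b) ^ 4, (a * b) ^ 5] : Fin 4 → _) i = (a * b) ^ g i := by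
        intro i
        (revert i; simp only [g, _root_.Fin.forall_fin_succ, _root_.Nat.succ_eq_add_one, Nat.reduceAdd, Fin.isValue, _root_.Matrix.cons_val_zero, _root_.pow_one, _root_.Matrix.cons_val_succ, _root_.Matrix.cons_val_fin_one, _root_.implies_true, _root_.and_self])
      rw [hg]
      intro e
      have h2 : (a * b) ^ (g i + g i) = 1 := by
        rw [pow_add]
        nth_rewrite 1 [e]
        exact inv_mul_cancel _
      rw [hpow] at h2
      have h3 : ∀ i, ¬ 6 ∣ g i + g i := by decide
      exact h3 i h2
  · have ha' : hat cs σ hσ a = b := by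
      rw [ha, hat_simple, h]
      rfl
    have hb' : hat cs σ hσ b = a := by
      rw [hb, hat_simple, h]
      rfl
    have hr : ∀ k : ℕ, hat cs σ hσ ((a * b) ^ k * a) = ((a * b) ^ k * a)⁻¹ → 6 ∣ 2 * k + 1 := by
      intro k e
      rw [← hpow]
      rw [map_mul, map_pow, map_mul, ha', hb'] at e
      -- (b a)^k b = a⁻¹ (b⁻¹ a⁻¹)^k = a (b a)^k = (a b)^k a
      have h1 : (b * a) ^ k = ((a * b) ^ k)⁻¹ := by
        rw [← inv_pow, mul_inv_rev, hai, hbi]
      rw [h1, mul_inv_rev, hai] at e
      -- (ab)^-k b = a (ab)^-k
      have h2 : a * ((a * b) ^ k)⁻¹ = (a * b) ^ k * a := by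
        have h3 : a * (a * b) * a = (a * b)⁻¹ := by rw [mul_inv_rev, hai, hbi, ← mul_assoc, haa, one_mul]
        have h4 : a * (a * b) ^ k * a = ((a * b) ^ k)⁻¹ := by
          have h5 : a * (a * b) ^ k * a⁻¹ = (a * (a * b) * a⁻¹) ^ k := (conj_pow).symm
          rw [hai] at h5
          rw [h5, h3, inv_pow]
        rw [← h4]
        calc a * (a * (a * b) ^ k * a) = (a * a) * (a * b) ^ k * a := by group
          _ = (a * b) ^ k * a := by rw [haa, one_mul]
      rw [h2] at e
      have h6 : b = (a * b) ^ k * ((a * b) ^ k * a) := by rw [← e]; group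
      calc (a * b) ^ (2 * k + 1) = (a * b) ^ k * (a * b) ^ k * (a * b) := by rw [two_mul, pow_add, pow_add, pow_one]
        _ = ((a * b) ^ k * ((a * b) ^ k * a)) * b := by group
        _ = b * b := by rw [← h6]
        _ = 1 := hbb
    have h1 := card_add_le (P := fun w : CoxeterMatrix.G₂.Group => hat cs σ hσ w = w⁻¹)
      (fun i : Fin 4 => (a * b) ^ (i : ℕ) * a) ?_ ?_
    · omega
    · intro i j hij
      have h2 : (a * b) ^ (i : ℕ) = (a * b) ^ (j : ℕ) := mul_right_cancel hij
      exact Fin.ext (pow_injOn_Iio_orderOf (by simp [ho]; omega) (by simp [ho]; omega) h2)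
    · intro i e
      have := hr i e
      omega

theorem cube_G2 {K : Type u} [Field K] [Fintype K] (hK : 3 ≤ Fintype.card K) : CubeBound ↥(chevG2.group K) := by
  have hq1 : 2 ≤ Fintype.card K := Fintype.one_lt_card
  refine cube_of_num (l := 2) (M := CoxeterMatrix.G₂) (by simp [IsType, typeList]) 1 [2, 6] rfl (by simp only [_root_.List.mem_cons, _root_.Prod.mk.injEq, _root_.and_true, _root_.List.not_mem_nil, _root_.or_false, _root_.true_or])
    CardComb.comb_G2 le_rfl (by simp) (s := 8) card_G2 ?_
  change 8 ^ 3 * (Fintype.card K ^ 6 * (Fintype.card K - 1) ^ 2) < _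
  rcases Nat.lt_or_ge (Fintype.card K) 5 with h | h
  · have h2 : Fintype.card K = 3 ∨ Fintype.card K = 4 := by omega
    rcases h2 with h2 | h2 <;> rw [h2] <;> decide +kernel
  · exact crude' hq1 (by simp only [_root_.List.mem_cons, _root_.List.not_mem_nil, _root_.or_false, _root_.forall_eq_or_imp, _root_.Nat.one_le_ofNat, _root_.forall_eq, _root_.and_self]) rfl (by norm_num) h (by norm_num) (by norm_num)

end Cfsg.Agent.H383.Cube.Chev
end

-- part: H383/Cube/Twist
section
/-!
# The bound `|T| < |C_T(α)| ^ 3` for ³D₄ and ²E₆ (helper383, S5721)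
-/

set_option autoImplicit false
set_option linter.unusedSectionVars false

namespace Cfsg.Agent.H383.Cube.Twist

open Cfsg CoxeterSystem Cfsg.Agent.ChevalleyStructure.CoxeterGeom Cfsg.Agent.Tits.Roots Cfsg.Agent.Tits.Core
  Cfsg.Agent.Tits.Exchange Cfsg.Agent.Nodes.Reps Cfsg.Agent.Nodes.BNOf Cfsg.Agent.Nodes.StabComb
  Cfsg.Agent.Nodes.Bruhat Cfsg.Agent.Nodes.LeviDec Cfsg.Agent.Nodes.NormalForm
open Cfsg.Lie Cfsg.Agent.KFacts.RgdDiag

universe u

theorem coprime_pow_add_one {p q k : ℕ} (hp : p.Prime) (hq : p ∣ q) (hk : k ≠ 0) : p.Coprime (q ^ k + 1) := by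
  rw [Nat.Prime.coprime_iff_not_dvd hp]
  intro h
  have h1 : p ∣ q ^ k := dvd_pow hq hk
  have := (Nat.dvd_add_right h1).1 h
  exact hp.one_lt.ne' (Nat.dvd_one.1 this)

theorem coprime_pow_sub_one {p q k : ℕ} (hp : p.Prime) (hq : p ∣ q) (hq0 : 0 < q) (hk : k ≠ 0) : p.Coprime (q ^ k - 1) := by
  rw [Nat.Prime.coprime_iff_not_dvd hp]
  intro h
  have h1 : p ∣ q ^ k := dvd_pow hq hk
  have h2 : 1 ≤ q ^ k := Nat.one_le_pow _ _ hq0
  have h3 := (Nat.dvd_sub_iff_right h2 h1).1 h
  exact hp.one_lt.ne' (Nat.dvd_one.1 h3)

/-- **²E₆(q)** -/
theorem cube_twE6 {K : Type u} [Field K] [Fintype K] {q : ℕ} (hq : IsPrimePow q) (hK : Fintype.card K = q ^ 2) :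
    CubeBound ↥(twistedE6 K q) := by
  obtain ⟨φ, hφ, hqq⟩ := ChevalleyStructure.TwE6Basic.exists_frob hq hK
  obtain ⟨p, hpK⟩ := CharP.exists K
  have hpf : Fact p.Prime := ⟨CharP.char_is_prime K p⟩
  have hp : p.Prime := hpf.out
  have hpq : p ∣ q := by
    have h1 : p ∣ Fintype.card K := by
      obtain ⟨n, -, h⟩ := FiniteField.card K p
      rw [h]
      exact dvd_pow_self _ n.ne_zero
    rw [hK] at h1
    exact hp.dvd_of_dvd_pow h1
  obtain ⟨r, k, hr, hk, hrk⟩ := hq
  have hrp : p = r := by
    rw [← hrk] at hpq
    exact (Nat.prime_dvd_prime_iff_eq hp (Nat.prime_iff.2 hr)).1 (hp.dvd_of_dvd_pow hpq)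
  subst hrp
  have hq2 : 2 ≤ q := by
    rw [← hrk]
    exact hp.two_le.trans (Nat.le_self_pow hk.ne' _)
  have hfin : Finite CoxeterMatrix.F₄.Group :=
    Nodes.RGDFold.finite_W (hp := Nodes.RGDTwE6.hp) CoxeterMatrix.F₄.toCoxeterSystem Nodes.RGDTwE6.isCartan Nodes.RGDTwE6.foldData
  have R := Nodes.RGDTwE6.rgd CoxeterMatrix.F₄.toCoxeterSystem hφ hqq p
  have hG : GG CoxeterMatrix.F₄.toCoxeterSystem Nodes.RGDTwE6.isCartan (Nodes.RGDTwE6.T K q) (Nodes.RGDTwE6.X φ q) = ⊤ := by
    rw [eq_top_iff, ← Nodes.RGDTwE6.G1_eq_top CoxeterMatrix.F₄.toCoxeterSystem hφ hqq]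
    exact le_sup_right
  have hcard := S1066.result (K := K) ⟨p, k, hr, hk, hrk⟩ hK
  set A := (q ^ 2 - 1) * (q ^ 5 + 1) * (q ^ 6 - 1) * (q ^ 8 - 1) * (q ^ 9 + 1) * (q ^ 12 - 1) with hA
  have hcard' : Nat.gcd 3 (q + 1) * Nat.card ↥(twistedE6 K q) = q ^ 36 * A := by
    rw [hcard, hA]; ring
  have hpA : p.Coprime A := by
    have h0 : 0 < q := by omega
    refine ((((Nat.Coprime.mul_right ?_ ?_).mul_right ?_).mul_right ?_).mul_right ?_).mul_right ?_
    · exact coprime_pow_sub_one hp hpq h0 (by norm_num)
    · exact coprime_pow_add_one hp hpq (by norm_num)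
    · exact coprime_pow_sub_one hp hpq h0 (by norm_num)
    · exact coprime_pow_sub_one hp hpq h0 (by norm_num)
    · exact coprime_pow_add_one hp hpq (by norm_num)
    · exact coprime_pow_sub_one hp hpq h0 (by norm_num)
  have hd : Nat.gcd 3 (q + 1) ∣ A := by
    have h1 : Nat.gcd 3 (q + 1) ∣ q ^ 36 * A := ⟨_, hcard'.symm⟩
    refine Nat.Coprime.dvd_of_dvd_mul_left ?_ h1
    apply Nat.Coprime.pow_right
    refine Nat.Coprime.coprime_dvd_left (Nat.gcd_dvd_right 3 (q + 1)) ?_
    simp
  obtain ⟨m, hm⟩ := hd
  have hd0 : 0 < Nat.gcd 3 (q + 1) := Nat.gcd_pos_of_pos_left _ (by norm_num)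
  have hY : Nat.card ↥(twistedE6 K q) = q ^ 36 * m := by
    apply Nat.eq_of_mul_eq_mul_left hd0
    rw [hcard', hm]; ring
  have hpm : p.Coprime m := by
    rw [hm] at hpA
    exact Nat.Coprime.coprime_mul_left_right hpA
  refine cube_crude R hG (s := 1152) (u := q ^ 36) (m := m) (k := k * 36)
    (Chev.card_le_of_card (S1092.result (⟨4, CoxeterMatrix.F₄⟩, 1152) (by simp)) (by norm_num)) ?_ hpm hY ?_
  · rw [← hrk, pow_mul]
  · rw [hY]
    rcases Nat.lt_or_ge q 3 with h3 | h3
    · have h2 : q = 2 := by omega
      rw [h2] at hm hA ⊢
      have : m = (2 ^ 2 - 1) * (2 ^ 5 + 1) * (2 ^ 6 - 1) * (2 ^ 8 - 1) * (2 ^ 9 + 1) * (2 ^ 12 - 1) / 3 := by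
        rw [← hA, hm]
        norm_num
      rw [this]
      norm_num
    · have hmA : m ≤ A := by
        rw [hm]
        exact Nat.le_mul_of_pos_left m hd0
      have hA2 : A ≤ 4 * q ^ 42 := by
        have e1 : q ^ 5 + 1 ≤ 2 * q ^ 5 := by have := Nat.one_le_pow 5 q (by omega); omega
        have e2 : q ^ 9 + 1 ≤ 2 * q ^ 9 := by have := Nat.one_le_pow 9 q (by omega); omega
        calc A ≤ q ^ 2 * (2 * q ^ 5) * q ^ 6 * q ^ 8 * (2 * q ^ 9) * q ^ 12 := by
              rw [hA]
              gcongr <;> exact Nat.sub_le _ _
          _ = 4 * q ^ 42 := by ring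
      have hq30 : 1152 ^ 3 * 4 < q ^ 30 := lt_of_lt_of_le (by norm_num) (Nat.pow_le_pow_left h3 30)
      calc 1152 ^ 3 * (q ^ 36 * m) ≤ 1152 ^ 3 * (q ^ 36 * (4 * q ^ 42)) :=
            Nat.mul_le_mul_left _ (Nat.mul_le_mul_left _ (hmA.trans hA2))
        _ = (1152 ^ 3 * 4) * q ^ 78 := by ring
        _ < q ^ 30 * q ^ 78 := Nat.mul_lt_mul_of_pos_right hq30 (Nat.pow_pos (by omega))
        _ = (q ^ 36) ^ 3 := by ring

/-- **³D₄(q)** -/
theorem cube_twD4 {K : Type u} [Field K] [Fintype K] {q : ℕ} (hq : IsPrimePow q) (hK : Fintype.card K = q ^ 3) :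
    CubeBound ↥(twistedD4 K q) := by
  obtain ⟨φ, hφ⟩ := ChevalleyStructure.D4Fixed.exists_frob hq hK
  obtain ⟨p, hpK⟩ := CharP.exists K
  have hpf : Fact p.Prime := ⟨CharP.char_is_prime K p⟩
  have hp : p.Prime := hpf.out
  have hpq : p ∣ q := by
    have h1 : p ∣ Fintype.card K := by
      obtain ⟨n, -, h⟩ := FiniteField.card K p
      rw [h]
      exact dvd_pow_self _ n.ne_zero
    rw [hK] at h1
    exact hp.dvd_of_dvd_pow h1
  obtain ⟨r, k, hr, hk, hrk⟩ := hq
  have hrp : p = r := by
    rw [← hrk] at hpq
    exact (Nat.prime_dvd_prime_iff_eq hp (Nat.prime_iff.2 hr)).1 (hp.dvd_of_dvd_pow hpq)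
  subst hrp
  have hq2 : 2 ≤ q := by
    rw [← hrk]
    exact hp.two_le.trans (Nat.le_self_pow hk.ne' _)
  have hfin : Finite CoxeterMatrix.G₂.Group :=
    Nodes.RGDFold.finite_W (hp := Nodes.RGDTwD4.hp) CoxeterMatrix.G₂.toCoxeterSystem Nodes.RGDTwD4.isCartan Nodes.RGDTwD4.foldData
  have R := Nodes.RGDTwD4.rgd CoxeterMatrix.G₂.toCoxeterSystem hK hφ p
  have hG : GG CoxeterMatrix.G₂.toCoxeterSystem Nodes.RGDTwD4.isCartan (Nodes.RGDTwD4.T K q) (Nodes.RGDTwD4.X φ q) = ⊤ := by
    rw [eq_top_iff, ← Nodes.RGDTwD4.G1_eq_top CoxeterMatrix.G₂.toCoxeterSystem hK hφ]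
    exact le_sup_right
  have hcard := S1067.result (K := K) ⟨p, k, hr, hk, hrk⟩ hK
  have hT : Nat.card ↥(Nodes.RGDTwD4.T K q) ≤ (q - 1) ^ 2 * (q ^ 2 + q + 1) := by
    rw [← S1106.result (K := K) ⟨p, k, hr, hk, hrk⟩ hK]
    refine Nat.card_le_card_of_injective (fun x : ↥(Nodes.RGDTwD4.T K q) =>
      (⟨(x : ↥(twistedD4 K q)), x.2⟩ : ↥(chevD4.diagonalSubgroup K ⊓ twistedD4 K q))) ?_
    intro a b e
    have e1 := congrArg Subtype.val e
    exact Subtype.ext (Subtype.ext e1)
  have hY : Nat.card ↥(twistedD4 K q) = q ^ 12 * ((q ^ 2 - 1) * (q ^ 6 - 1) * (q ^ 8 + q ^ 4 + 1)) := by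
    rw [hcard]; ring
  have hpm : p.Coprime ((q ^ 2 - 1) * (q ^ 6 - 1) * (q ^ 8 + q ^ 4 + 1)) := by
    have h0 : 0 < q := by omega
    refine (Nat.Coprime.mul_right ?_ ?_).mul_right ?_
    · exact coprime_pow_sub_one hp hpq h0 (by norm_num)
    · exact coprime_pow_sub_one hp hpq h0 (by norm_num)
    · have : q ^ 8 + q ^ 4 + 1 = (q * (q ^ 7 + q ^ 3)) ^ 1 + 1 := by ring
      rw [this]
      exact coprime_pow_add_one hp (hpq.mul_right _) one_ne_zero
  obtain ⟨c, rfl⟩ : ∃ c, q = c + 1 := ⟨q - 1, by omega⟩
  have hfac : ((c + 1) ^ 2 - 1) * ((c + 1) ^ 6 - 1) =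
      (c + 1 - 1) ^ 2 * ((c + 1) ^ 2 + (c + 1) + 1) * (((c + 1) + 1) * ((c + 1) ^ 3 + 1)) := by
    have e1 : (c + 1) ^ 2 - 1 = c * (c + 2) := by
      apply Nat.sub_eq_of_eq_add; ring
    have e2 : (c + 1) ^ 6 - 1 = c * ((c + 1) ^ 2 + (c + 1) + 1) * ((c + 1) ^ 3 + 1) := by
      apply Nat.sub_eq_of_eq_add; ring
    rw [e1, e2, Nat.add_sub_cancel]
    ring
  refine cube_torus R hG (s := 8) (u := (c + 1) ^ 12) (k := k * 12)
    (N := ((c + 1) + 1) * ((c + 1) ^ 3 + 1) * ((c + 1) ^ 8 + (c + 1) ^ 4 + 1)) Chev.card_G2 ?_ hpm hY hT ?_ ?_
  · rw [← hrk, pow_mul]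
  · rw [hY, hfac]
    apply le_of_eq
    (set_option synthInstance.maxSize 99999 in exact Cfsg.Agent.Lib.RingK.eqN (by decide +kernel))
  · rw [hY, hfac]
    have key : 8 ^ 3 * ((c + 1) ^ 12 * ((c + 1 - 1) ^ 2 * ((c + 1) ^ 2 + (c + 1) + 1))) <
        (((c + 1) + 1) * ((c + 1) ^ 3 + 1) * ((c + 1) ^ 8 + (c + 1) ^ 4 + 1)) ^ 2 := by
      rcases Nat.lt_or_ge (c + 1) 3 with h3 | h3
      · have h2 : c + 1 = 2 := by omega
        rw [h2]
        norm_num
      · set q := c + 1
        have e1 : (q - 1) ^ 2 * (q ^ 2 + q + 1) ≤ q ^ 2 * (3 * q ^ 2) := by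
          apply Nat.mul_le_mul (Nat.pow_le_pow_left (Nat.sub_le _ _) _)
          nlinarith only [h3]
        have e2 : 8 ^ 3 * 3 < q ^ 8 := lt_of_lt_of_le (by norm_num) (Nat.pow_le_pow_left h3 8)
        have e3 : q ^ 12 ≤ (q + 1) * (q ^ 3 + 1) * (q ^ 8 + q ^ 4 + 1) := by
          calc q ^ 12 = q * q ^ 3 * q ^ 8 := by (set_option synthInstance.maxSize 99999 in exact Cfsg.Agent.Lib.RingK.eqN (by decide +kernel))
            _ ≤ (q + 1) * (q ^ 3 + 1) * (q ^ 8 + q ^ 4 + 1) := by
                gcongr
                · omega
                · omega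
                · omega
        calc 8 ^ 3 * (q ^ 12 * ((q - 1) ^ 2 * (q ^ 2 + q + 1))) ≤ 8 ^ 3 * (q ^ 12 * (q ^ 2 * (3 * q ^ 2))) :=
              Nat.mul_le_mul_left _ (Nat.mul_le_mul_left _ e1)
          _ = (8 ^ 3 * 3) * q ^ 16 := by (set_option synthInstance.maxSize 99999 in exact Cfsg.Agent.Lib.RingK.eqN (by decide +kernel))
          _ < q ^ 8 * q ^ 16 := Nat.mul_lt_mul_of_pos_right e2 (Nat.pow_pos (by omega))
          _ = (q ^ 12) ^ 2 := by (set_option synthInstance.maxSize 99999 in exact Cfsg.Agent.Lib.RingK.eqN (by decide +kernel))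
          _ ≤ _ := Nat.pow_le_pow_left e3 2
    calc 8 ^ 3 * ((c + 1) ^ 12 * ((c + 1 - 1) ^ 2 * ((c + 1) ^ 2 + (c + 1) + 1) * (((c + 1) + 1) * ((c + 1) ^ 3 + 1)) *
          ((c + 1) ^ 8 + (c + 1) ^ 4 + 1)))
        = (8 ^ 3 * ((c + 1) ^ 12 * ((c + 1 - 1) ^ 2 * ((c + 1) ^ 2 + (c + 1) + 1)))) *
          (((c + 1) + 1) * ((c + 1) ^ 3 + 1) * ((c + 1) ^ 8 + (c + 1) ^ 4 + 1)) := by (set_option synthInstance.maxSize 99999 in exact Cfsg.Agent.Lib.RingK.eqN (by decide +kernel))
      _ < (((c + 1) + 1) * ((c + 1) ^ 3 + 1) * ((c + 1) ^ 8 + (c + 1) ^ 4 + 1)) ^ 2 *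
          (((c + 1) + 1) * ((c + 1) ^ 3 + 1) * ((c + 1) ^ 8 + (c + 1) ^ 4 + 1)) :=
            Nat.mul_lt_mul_of_pos_right key (by (clear * -; positivity))
      _ = _ := by (set_option synthInstance.maxSize 99999 in exact Cfsg.Agent.Lib.RingK.eqN (by decide +kernel))

end Cfsg.Agent.H383.Cube.Twist
end

-- part: H383/Cube/Syl
section
/-!
# The criterion with double cosets of Sylow subgroups (helper383, S5721)

* `cube_sylow` : `G = ⋃ U r U` over `c` representatives, `U` Sylow, `(|U| c) ^ 3 < |G| ^ 2`;
* `cube_two_trans` : `G` 2-transitive on the cosets of the normaliser `H` of a Sylow subgroup, `(|H| 2) ^ 3 < |G| ^ 2`.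
-/

set_option autoImplicit false

namespace Cfsg.Agent.H383.Cube

open scoped Pointwise

variable {G : Type*} [Group G]

/-- the image of a Sylow subgroup under an automorphism is a conjugate -/
theorem exists_conj_sylow [Finite G] {p : ℕ} [Fact p.Prime] (S : Sylow p G) (α : MulAut G) :
    ∃ g : G, MulAut.conj g • (S : Subgroup G) = (S : Subgroup G).map α.toMonoidHom := by
  obtain ⟨g, hg⟩ := MulAction.exists_smul_eq G S (α • S)
  refine ⟨g, ?_⟩
  have h1 := congrArg (fun P : Sylow p G => (P : Subgroup G)) hg
  exact h1

theorem cube_of_reps [Finite G] {α : MulAut G} (hα : α * α = 1) (B : Subgroup G) (g : G)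
    (hg : ∀ u ∈ B, ∃ c ∈ B, α c = g * u * g⁻¹) {ι : Type*} [Fintype ι] (r : ι → G)
    (hdec : ∀ x : G, ∃ i, ∃ u ∈ B, ∃ u' ∈ B, x = u * r i * u') :
    Nat.card (Tw α) ≤ Nat.card B * Fintype.card ι := by
  choose d u hu u' hu' hd using fun x : G => hdec (x * g)
  refine card_tw_le hα B d Finset.univ (fun _ _ => Finset.mem_univ _) ?_
  intro x _ y _ hxy
  obtain ⟨c, hc, hc'⟩ := hg ((u' x)⁻¹ * u' y) (mul_mem (inv_mem (hu' x)) (hu' y))
  refine ⟨u y * (u x)⁻¹, mul_mem (hu y) (inv_mem (hu x)), c, hc, ?_⟩
  rw [hc']
  have h1 := hd x
  have h2 := hd y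
  rw [← hxy] at h2
  have h3 : r (d x) = (u x)⁻¹ * (x * g) * (u' x)⁻¹ := by rw [h1]; group
  rw [h3] at h2
  calc y = y * g * g⁻¹ := by group
    _ = u y * ((u x)⁻¹ * (x * g) * (u' x)⁻¹) * u' y * g⁻¹ := by rw [h2]
    _ = u y * (u x)⁻¹ * x * (g * ((u' x)⁻¹ * u' y) * g⁻¹) := by group

/-- the criterion with representatives of the double cosets of a Sylow subgroup -/
theorem cube_sylow [Finite G] {p : ℕ} [Fact p.Prime] (S : Sylow p G) {ι : Type*} [Fintype ι] (r : ι → G)
    (hdec : ∀ x : G, ∃ i, ∃ u ∈ S, ∃ u' ∈ S, x = u * r i * u')
    (hlt : (Nat.card S * Fintype.card ι) ^ 3 < Nat.card G ^ 2) : CubeBound G := by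
  refine CubeBound.of_tw fun α hα => lt_of_le_of_lt (Nat.pow_le_pow_left ?_ 3) hlt
  obtain ⟨g, hg⟩ := exists_conj_sylow S α
  refine cube_of_reps (mul_self_of_order hα) (S : Subgroup G) g ?_ r hdec
  intro u hu
  have h1 : g * u * g⁻¹ ∈ MulAut.conj g • (S : Subgroup G) :=
    Subgroup.smul_mem_pointwise_smul u (MulAut.conj g) (S : Subgroup G) hu
  rw [hg] at h1
  obtain ⟨c, hc, hc'⟩ := h1
  exact ⟨c, hc, hc'⟩

/-- the same with a subgroup of the order of a Sylow subgroup -/
theorem cube_sylow' [Finite G] {p : ℕ} [Fact p.Prime] (U : Subgroup G) {u k m : ℕ} (hU : Nat.card U = u) (hu : u = p ^ k)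
    (hm : p.Coprime m) (hG : Nat.card G = u * m) {ι : Type*} [Fintype ι] (r : ι → G)
    (hdec : ∀ x : G, ∃ i, ∃ u ∈ U, ∃ u' ∈ U, x = u * r i * u')
    (hlt : (u * Fintype.card ι) ^ 3 < Nat.card G ^ 2) : CubeBound G := by
  have hp : p.Prime := Fact.out
  have hm0 : m ≠ 0 := by
    rintro rfl
    have : 0 < Nat.card G := Nat.card_pos
    omega
  have hc : Nat.card U = p ^ (Nat.card G).factorization p := by
    rw [hU, hG, hu]
    congr 1
    rw [Nat.factorization_mul (pow_ne_zero _ hp.ne_zero) hm0, Finsupp.add_apply, hp.factorization_pow,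
      Finsupp.single_eq_same, Nat.factorization_eq_zero_of_not_dvd ((Nat.Prime.coprime_iff_not_dvd hp).1 hm), add_zero]
  refine cube_sylow (Sylow.ofCard U hc) r hdec ?_
  have h1 : (Nat.card U * Fintype.card ι) ^ 3 < Nat.card G ^ 2 := by
    rw [hU]
    exact hlt
  exact h1

theorem cube_two_trans [Finite G] {p : ℕ} [Fact p.Prime] (S : Sylow p G)
    (h2 : MulAction.IsMultiplyPretransitive G (G ⧸ Subgroup.normalizer ((S : Subgroup G) : Set G)) 2)
    (hlt : (Nat.card (Subgroup.normalizer ((S : Subgroup G) : Set G)) * 2) ^ 3 < Nat.card G ^ 2) : CubeBound G := by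
  set H := Subgroup.normalizer ((S : Subgroup G) : Set G) with hH
  refine CubeBound.of_tw fun α hα => lt_of_le_of_lt (Nat.pow_le_pow_left ?_ 3) hlt
  obtain ⟨g, hg⟩ := exists_conj_sylow S α
  -- the automorphism moves `H` to a conjugate
  have hgH : ∀ u ∈ H, ∃ c ∈ H, α c = g * u * g⁻¹ := by
    intro u hu
    refine ⟨α.symm (g * u * g⁻¹), ?_, α.apply_symm_apply _⟩
    rw [hH, Subgroup.mem_normalizer_iff] at hu ⊢
    have key : ∀ x : G, x ∈ (S : Subgroup G) ↔ g⁻¹ * α x * g ∈ (S : Subgroup G) := by
      intro x
      have e1 : α x ∈ (S : Subgroup G).map α.toMonoidHom ↔ x ∈ (S : Subgroup G) := by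
        constructor
        · rintro ⟨y, hy, hxy⟩
          rwa [α.injective hxy] at hy
        · intro h
          exact ⟨x, h, rfl⟩
      rw [← e1, ← hg, Subgroup.mem_pointwise_smul_iff_inv_smul_mem]
      have e2 : (MulAut.conj g)⁻¹ • α x = g⁻¹ * α x * g := by
        rw [← map_inv]
        show g⁻¹ * α x * g⁻¹⁻¹ = _
        rw [inv_inv]
      rw [e2]
    intro x
    rw [key x, key (α.symm (g * u * g⁻¹) * x * (α.symm (g * u * g⁻¹))⁻¹)]
    have e3 : g⁻¹ * α (α.symm (g * u * g⁻¹) * x * (α.symm (g * u * g⁻¹))⁻¹) * g =
        u * (g⁻¹ * α x * g) * u⁻¹ := by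
      rw [map_mul, map_mul, map_inv, MulEquiv.apply_symm_apply]
      group
    rw [e3]
    exact hu _
  -- two double cosets
  by_cases hHt : H = ⊤
  · -- one double coset
    have := cube_of_reps (mul_self_of_order hα) H g hgH (ι := Unit) (fun _ => 1)
      (fun x => ⟨(), x, by rw [hHt]; trivial, 1, one_mem _, by group⟩)
    refine this.trans ?_
    rw [Fintype.card_unit]
    omega
  · obtain ⟨n, hn⟩ : ∃ n, n ∉ H := by
      by_contra hcon
      push Not at hcon
      exact hHt (eq_top_iff.2 fun x _ => hcon x)
    have := cube_of_reps (mul_self_of_order hα) H g hgH (ι := Bool) (fun b => if b then 1 else n) ?_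
    · rwa [Fintype.card_bool] at this
    · intro x
      by_cases hx : x ∈ H
      · exact ⟨true, x, hx, 1, one_mem _, by simp⟩
      · refine ⟨false, ?_⟩
        rw [MulAction.is_two_pretransitive_iff] at h2
        have hne : ∀ y : G, y ∉ H → (QuotientGroup.mk (1 : G) : G ⧸ H) ≠ QuotientGroup.mk y := by
          intro y hy e
          rw [QuotientGroup.eq, inv_one, one_mul] at e
          exact hy e
        obtain ⟨k, hk1, hk2⟩ := h2 (hne n hn) (hne x hx)
        have h3 : k ∈ H := by
          have : (QuotientGroup.mk (k * 1) : G ⧸ H) = QuotientGroup.mk 1 := hk1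
          rw [QuotientGroup.eq] at this
          simpa using this
        have h4 : (k * n)⁻¹ * x ∈ H := by
          have : (QuotientGroup.mk (k * n) : G ⧸ H) = QuotientGroup.mk x := hk2
          rwa [QuotientGroup.eq] at this
        exact ⟨k, h3, _, h4, by simp only [Bool.false_eq_true, if_false]; group⟩

end Cfsg.Agent.H383.Cube
end

-- part: H383/Cube/TwSz
section
/-!
# The bound `|T| < |C_T(α)| ^ 3` for the Suzuki and Ree groups (helper383, S5721)
-/

set_option autoImplicit false

namespace Cfsg.Agent.H383.Cube.TwSz

open Cfsg Cfsg.Lie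

theorem num_of {a b : ℕ} (hab : 8 * a < b ^ 2) (ha : 0 < a) : (a * 2) ^ 3 < (a * b) ^ 2 := by
  calc (a * 2) ^ 3 = 8 * a * a ^ 2 := by ring
    _ < b ^ 2 * a ^ 2 := Nat.mul_lt_mul_of_pos_right hab (by positivity)
    _ = (a * b) ^ 2 := by ring

theorem cube_Sz {F : Type*} [Field F] [Fintype F] {m : ℕ} (hm : 1 ≤ m) (hF : Fintype.card F = 2 ^ (2 * m + 1)) :
    CubeBound ↥(Lie.Sz F (2 ^ (m + 1))) := by
  have : Fact (Nat.Prime 2) := ⟨Nat.prime_two⟩
  obtain ⟨hcard, S, hH, -, h2, -⟩ := S1163.result hm hF
  refine cube_two_trans S h2 ?_
  rw [hH, hcard]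
  have hq : 2 ^ 3 ≤ 2 ^ (2 * m + 1) := Nat.pow_le_pow_right (by norm_num) (by omega)
  generalize 2 ^ (2 * m + 1) = q at hq
  have hq1 : 0 < q - 1 := by omega
  refine num_of ?_ (Nat.mul_pos (Nat.pow_pos (by omega)) hq1)
  calc 8 * (q ^ 2 * (q - 1)) ≤ q * (q ^ 2 * q) := by
        apply Nat.mul_le_mul hq
        exact Nat.mul_le_mul_left _ (Nat.sub_le _ _)
    _ = (q ^ 2) ^ 2 := by ring
    _ < (q ^ 2 + 1) ^ 2 := Nat.pow_lt_pow_left (by omega) (by norm_num)

theorem coprime_pow_add_one {p q k : ℕ} (hp : p.Prime) (hq : p ∣ q) (hk : k ≠ 0) : p.Coprime (q ^ k + 1) := by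
  rw [Nat.Prime.coprime_iff_not_dvd hp]
  intro h
  have h1 : p ∣ q ^ k := dvd_pow hq hk
  have := (Nat.dvd_add_right h1).1 h
  exact hp.one_lt.ne' (Nat.dvd_one.1 this)

theorem coprime_pow_sub_one {p q k : ℕ} (hp : p.Prime) (hq : p ∣ q) (hq0 : 0 < q) (hk : k ≠ 0) : p.Coprime (q ^ k - 1) := by
  rw [Nat.Prime.coprime_iff_not_dvd hp]
  intro h
  have h1 : p ∣ q ^ k := dvd_pow hq hk
  have h2 : 1 ≤ q ^ k := Nat.one_le_pow _ _ hq0
  have h3 := (Nat.dvd_sub_iff_right h2 h1).1 h
  exact hp.one_lt.ne' (Nat.dvd_one.1 h3)

theorem cube_Ree {K : Type*} [Field K] [Fintype K] {m : ℕ} (hm : 1 ≤ m) (hK : Fintype.card K = 3 ^ (2 * m + 1)) :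
    CubeBound ↥(twistedG2 K (3 ^ m)) := by
  classical
  have : Fact (Nat.Prime 3) := ⟨Nat.prime_three⟩
  obtain ⟨θ, c⟩ := Cfsg.Agent.ChevalleyStructure.Ree.Normal.exists_ctx hK
  have hcard := S1069.result hK
  have hU := (S1101.result hK).2
  have hq : 3 ^ 3 ≤ 3 ^ (2 * m + 1) := Nat.pow_le_pow_right (by norm_num) (by omega)
  have hKu : Fintype.card (Kˣ × Bool) = (3 ^ (2 * m + 1) - 1) * 2 := by
    rw [Fintype.card_prod, Fintype.card_bool, Fintype.card_units, hK]
  have hdvd : 3 ∣ 3 ^ (2 * m + 1) := dvd_pow_self _ (by omega)
  refine cube_sylow' (p := 3) (((chevG2.posUnipotent K ⊓ twistedG2 K (3 ^ m))).subgroupOf (twistedG2 K (3 ^ m)))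
    (u := (3 ^ (2 * m + 1)) ^ 3) (k := (2 * m + 1) * 3)
    (m := (3 ^ (2 * m + 1) - 1) * ((3 ^ (2 * m + 1)) ^ 3 + 1)) ?_ (by rw [pow_mul]) ?_ ?_
    (ι := Kˣ × Bool) (fun x => if x.2 then ⟨ChevalleyStructure.Ree.Gens.tU (3 ^ m) x.1, c.torus x.1⟩ else
      ⟨ChevalleyStructure.Ree.Gens.tU (3 ^ m) x.1 * ChevalleyStructure.Ree.Gens.nU K, mul_mem (c.torus x.1) c.nU_mem⟩) ?_ ?_
  · rw [← hU]
    exact Nat.card_congr (Subgroup.subgroupOfEquivOfLe inf_le_right).toEquiv
  · refine Nat.Coprime.mul_right ?_ ?_
    · have h1 := coprime_pow_sub_one (k := 1) Nat.prime_three hdvd (by positivity) one_ne_zero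
      rwa [pow_one] at h1
    · exact coprime_pow_add_one Nat.prime_three hdvd (by norm_num)
  · rw [hcard]; ring
  · intro g
    rcases c.bruhat g.2 with ⟨x, y, z, α, h⟩ | ⟨x, y, z, α, x', y', z', h⟩
    · refine ⟨(α, true), ⟨ChevalleyStructure.Ree.Gens.wU (3 ^ m) x y z, ChevalleyStructure.Ree.Gens.wU_mem _ _ _ _⟩, ?_, 1,
        one_mem _, ?_⟩
      · exact ⟨ChevalleyStructure.Ree.BN.wU_pos _ _ _, ChevalleyStructure.Ree.Gens.wU_mem _ _ _ _⟩
      · apply Subtype.ext
        rw [mul_one]
        exact h
    · refine ⟨(α, false), ⟨ChevalleyStructure.Ree.Gens.wU (3 ^ m) x y z, ChevalleyStructure.Ree.Gens.wU_mem _ _ _ _⟩, ?_,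
        ⟨ChevalleyStructure.Ree.Gens.wU (3 ^ m) x' y' z', ChevalleyStructure.Ree.Gens.wU_mem _ _ _ _⟩, ?_, ?_⟩
      · exact ⟨ChevalleyStructure.Ree.BN.wU_pos _ _ _, ChevalleyStructure.Ree.Gens.wU_mem _ _ _ _⟩
      · exact ⟨ChevalleyStructure.Ree.BN.wU_pos _ _ _, ChevalleyStructure.Ree.Gens.wU_mem _ _ _ _⟩
      · apply Subtype.ext
        rw [h]
        simp only [Bool.false_eq_true, if_false]
        show _ = _ * (_ * _) * _
        rw [← mul_assoc]
  · rw [hKu, hcard]
    generalize 3 ^ (2 * m + 1) = q at hq
    have hq1 : 0 < q - 1 := by omega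
    have h1 := num_of (a := q ^ 3 * (q - 1)) (b := q ^ 3 + 1) ?_ (Nat.mul_pos (Nat.pow_pos (by omega)) hq1)
    · rw [← mul_assoc]
      exact h1
    · calc 8 * (q ^ 3 * (q - 1)) ≤ q ^ 2 * (q ^ 3 * q) := by
            apply Nat.mul_le_mul (by nlinarith only [hq])
            exact Nat.mul_le_mul_left _ (Nat.sub_le _ _)
        _ = (q ^ 3) ^ 2 := by ring
        _ < (q ^ 3 + 1) ^ 2 := Nat.pow_lt_pow_left (by omega) (by norm_num)

theorem num_F4 {q : ℕ} (hq : 8 ≤ q) : (q ^ 12 * ((q - 1) ^ 2 * 16)) ^ 3 <
    (q ^ 12 * (q - 1) * (q ^ 3 + 1) * (q ^ 4 - 1) * (q ^ 6 + 1)) ^ 2 := by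
  obtain ⟨c, rfl⟩ : ∃ c, q = c + 1 := ⟨q - 1, by omega⟩
  have hc7 : 0 < c := by omega
  have e1 : (c + 1) ^ 4 - 1 = c * (c ^ 3 + 4 * c ^ 2 + 6 * c + 4) := by
    apply Nat.sub_eq_of_eq_add; ring
  have e2 : c + 1 - 1 = c := rfl
  rw [e1, e2]
  set b := ((c + 1) ^ 3 + 1) * (c ^ 3 + 4 * c ^ 2 + 6 * c + 4) * ((c + 1) ^ 6 + 1) with hb
  have hb1 : (c + 1) ^ 3 * c ^ 3 * (c + 1) ^ 6 ≤ b := by
    rw [hb]
    gcongr
    · omega
    · omega
    · omega
  have h1 : 4096 * ((c + 1) ^ 12 * c ^ 2) < b ^ 2 := by
    have h2 : 4096 < (c + 1) ^ 6 := lt_of_lt_of_le (by norm_num) (Nat.pow_le_pow_left hq 6)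
    calc 4096 * ((c + 1) ^ 12 * c ^ 2) < (c + 1) ^ 6 * ((c + 1) ^ 12 * c ^ 2) :=
          Nat.mul_lt_mul_of_pos_right h2 (by positivity)
      _ = (c + 1) ^ 18 * c ^ 2 * 1 := by (set_option synthInstance.maxSize 99999 in exact Cfsg.Agent.Lib.RingK.eqN (by decide +kernel))
      _ ≤ (c + 1) ^ 18 * c ^ 2 * c ^ 4 := Nat.mul_le_mul_left _ (Nat.one_le_pow _ _ hc7)
      _ = ((c + 1) ^ 3 * c ^ 3 * (c + 1) ^ 6) ^ 2 := by (set_option synthInstance.maxSize 99999 in exact Cfsg.Agent.Lib.RingK.eqN (by decide +kernel))
      _ ≤ b ^ 2 := Nat.pow_le_pow_left hb1 2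
  calc ((c + 1) ^ 12 * (c ^ 2 * 16)) ^ 3 = 4096 * ((c + 1) ^ 12 * c ^ 2) * ((c + 1) ^ 12 * c ^ 2) ^ 2 := by (set_option synthInstance.maxSize 99999 in exact Cfsg.Agent.Lib.RingK.eqN (by decide +kernel))
    _ < b ^ 2 * ((c + 1) ^ 12 * c ^ 2) ^ 2 := Nat.mul_lt_mul_of_pos_right h1 (by positivity)
    _ = _ := by rw [hb]; (set_option synthInstance.maxSize 99999 in exact Cfsg.Agent.Lib.RingK.eqN (by decide +kernel))

theorem card_N_F4 {K : Type*} [Field K] [Fintype K] {m : ℕ} (hK : Fintype.card K = 2 ^ (2 * m + 1)) :
    Nat.card ↥(chevF4.monomialSubgroup K ⊓ twistedF4 K (2 ^ m)) = (2 ^ (2 * m + 1) - 1) ^ 2 * 16 := by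
  obtain ⟨φ, hs, hk⟩ := S1111.result hK
  have h1 := φ.ker.card_mul_index
  rw [Subgroup.index_ker, MonoidHom.range_eq_top.2 hs, Subgroup.card_top, DihedralGroup.nat_card] at h1
  have hle : chevF4.diagonalSubgroup K ⊓ twistedF4 K (2 ^ m) ≤ chevF4.monomialSubgroup K ⊓ twistedF4 K (2 ^ m) :=
    inf_le_inf_right _ le_sup_left
  have h2 : Nat.card φ.ker = (2 ^ (2 * m + 1) - 1) ^ 2 := by
    rw [hk, ← S1110.result hK]
    exact Nat.card_congr (Subgroup.subgroupOfEquivOfLe hle).toEquiv
  rw [← h1, h2]

theorem cube_twF4 {K : Type*} [Field K] [Fintype K] {m : ℕ} (hm : 1 ≤ m) (hK : Fintype.card K = 2 ^ (2 * m + 1)) :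
    CubeBound ↥(twistedF4 K (2 ^ m)) := by
  classical
  have : Fact (Nat.Prime 2) := ⟨Nat.prime_two⟩
  have := Cfsg.Agent.ChevalleyStructure.TwF4.Twisted.charP_two hK
  obtain ⟨φ, hφ⟩ := Cfsg.Agent.ChevalleyStructure.TwF4.TwistedFix.exists_rln hK
  obtain ⟨P, hB, hN, -⟩ := Cfsg.Agent.ChevalleyStructure.TwF4.BN.exists_bnPair hφ
  have hcard := S1068.result hK
  have hU := S1090.result hK
  have hq : 2 ^ 3 ≤ 2 ^ (2 * m + 1) := Nat.pow_le_pow_right (by norm_num) (by omega)
  have hdvd : 2 ∣ 2 ^ (2 * m + 1) := dvd_pow_self _ (by omega)
  have hNc := card_N_F4 hK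
  have : Fintype ↥(chevF4.monomialSubgroup K ⊓ twistedF4 K (2 ^ m)) := Fintype.ofFinite _
  rw [Nat.card_eq_fintype_card] at hNc
  set q := 2 ^ (2 * m + 1) with hqdef
  have hq1 : 0 < q := by omega
  have hBdec : ∀ b : ↥(twistedF4 K (2 ^ m)), b ∈ P.B →
      ∃ u ∈ (chevF4.posUnipotent K ⊓ twistedF4 K (2 ^ m)).subgroupOf (twistedF4 K (2 ^ m)),
        ∃ h ∈ (chevF4.diagonalSubgroup K).subgroupOf (twistedF4 K (2 ^ m)), b = u * h := by
    intro b hb
    rw [hB] at hb
    obtain ⟨u, hu, huG, h, hh, hhG, e⟩ := ((ChevalleyStructure.TwF4.BN.twistedData hφ).mem_B_iff _ b.2).1 hb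
    exact ⟨⟨u, huG⟩, ⟨hu, huG⟩, ⟨h, hhG⟩, hh, Subtype.ext e⟩
  refine cube_sylow' (p := 2) ((chevF4.posUnipotent K ⊓ twistedF4 K (2 ^ m)).subgroupOf (twistedF4 K (2 ^ m)))
    (u := q ^ 12) (k := (2 * m + 1) * 12)
    (m := (q - 1) * (q ^ 3 + 1) * (q ^ 4 - 1) * (q ^ 6 + 1)) ?_ (by rw [pow_mul]) ?_ ?_
    (ι := ↥(chevF4.monomialSubgroup K ⊓ twistedF4 K (2 ^ m))) (fun x => ⟨x, x.2.2⟩) ?_ ?_
  · rw [← hU]
    exact Nat.card_congr (Subgroup.subgroupOfEquivOfLe inf_le_right).toEquiv
  · refine ((Nat.Coprime.mul_right ?_ ?_).mul_right ?_).mul_right ?_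
    · have h1 := coprime_pow_sub_one (k := 1) Nat.prime_two hdvd hq1 one_ne_zero
      rwa [pow_one] at h1
    · exact coprime_pow_add_one Nat.prime_two hdvd (by norm_num)
    · exact coprime_pow_sub_one Nat.prime_two hdvd hq1 (by norm_num)
    · exact coprime_pow_add_one Nat.prime_two hdvd (by norm_num)
  · rw [hcard]; ring
  · intro g
    obtain ⟨n, hn, hg⟩ := S0308.result P g
    rw [DoubleCoset.mem_doubleCoset] at hg
    obtain ⟨b, hb, b', hb', e⟩ := hg
    obtain ⟨u, hu, h, hh, e1⟩ := hBdec b hb
    obtain ⟨u', hu', h', hh', e2⟩ := hBdec b'⁻¹ (inv_mem hb')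
    rw [hN] at hn
    have hle : (chevF4.diagonalSubgroup K : Subgroup _) ≤ chevF4.monomialSubgroup K := le_sup_left
    have hm1 : h * n * h'⁻¹ ∈ (chevF4.monomialSubgroup K).subgroupOf (twistedF4 K (2 ^ m)) :=
      mul_mem (mul_mem (hle hh) hn) (inv_mem (hle hh'))
    refine ⟨⟨((h * n * h'⁻¹ : ↥(twistedF4 K (2 ^ m))) : GL chevF4.Idx K), hm1, (h * n * h'⁻¹).2⟩, u, hu, u'⁻¹, inv_mem hu', ?_⟩
    show g = u * (h * n * h'⁻¹) * u'⁻¹
    have e3 : b' = (u' * h')⁻¹ := by rw [← e2, inv_inv]
    rw [e, e1, e3]
    group
  · rw [hNc, hcard]
    exact num_F4 hq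

end Cfsg.Agent.H383.Cube.TwSz
end

-- part: H151/CubePSL
section
/-!
# `CubeBound (PSL_n(q))` for `n ≥ 3` (helper151, for S5721/S5718 of helper383)

`cube_psl`: by the class number bounds S2478, S2479, S2480.
-/

set_option autoImplicit false

namespace Cfsg.Agent.H151.CubePSL

open Cfsg.Agent.H383.Cube

/-- `∏_{i<n} (q^n - q^i)` -/
def P (n q : ℕ) : ℕ := ∏ i ∈ Finset.range n, (q ^ n - q ^ i)

theorem P_succ (n q : ℕ) : P (n + 1) q = (q ^ (n + 1) - 1) * (q ^ n * P n q) := by
  unfold P
  rw [Finset.prod_range_succ', pow_zero, mul_comm]
  congr 1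
  have h : ∀ i ∈ Finset.range n, q ^ (n + 1) - q ^ (i + 1) = q * (q ^ n - q ^ i) := by
    intro i _
    rw [Nat.mul_sub, pow_succ', pow_succ']
  rw [Finset.prod_congr rfl h, Finset.prod_mul_distrib, Finset.prod_const, Finset.card_range]

theorem step {n q : ℕ} (hn : 3 ≤ n) (hq : 2 ≤ q) (h : (q - 1) * (q ^ (n - 1) + 5 * q ^ (n - 2)) ^ 3 < P n q) :
    (q - 1) * (q ^ (n + 1 - 1) + 5 * q ^ (n + 1 - 2)) ^ 3 < P (n + 1) q := by
  rw [P_succ]
  have e1 : q ^ (n + 1 - 1) + 5 * q ^ (n + 1 - 2) = q * (q ^ (n - 1) + 5 * q ^ (n - 2)) := by
    have a1 : n + 1 - 1 = (n - 1) + 1 := by omega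
    have a2 : n + 1 - 2 = (n - 2) + 1 := by omega
    rw [a1, a2, pow_succ, pow_succ]
    ring
  rw [e1]
  have h3 : q ^ 3 ≤ q ^ n := Nat.pow_le_pow_right (by omega) hn
  have h4 : 1 ≤ q ^ (n + 1) - 1 := by
    have : 2 ^ 1 ≤ q ^ (n + 1) := (Nat.pow_le_pow_right (by norm_num) (by omega)).trans (Nat.pow_le_pow_left hq (n + 1))
    omega
  calc (q - 1) * (q * (q ^ (n - 1) + 5 * q ^ (n - 2))) ^ 3
      = q ^ 3 * ((q - 1) * (q ^ (n - 1) + 5 * q ^ (n - 2)) ^ 3) := by ring
    _ < q ^ 3 * P n q := Nat.mul_lt_mul_of_pos_left h (by positivity)
    _ ≤ q ^ n * P n q := Nat.mul_le_mul_right _ h3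
    _ ≤ (q ^ (n + 1) - 1) * (q ^ n * P n q) := Nat.le_mul_of_pos_left _ h4

theorem base_three {q : ℕ} (hq : 4 ≤ q) : (q - 1) * (q ^ (3 - 1) + 5 * q ^ (3 - 2)) ^ 3 < P 3 q := by
  obtain ⟨t, rfl⟩ : ∃ t, q = t + 4 := ⟨q - 4, by omega⟩
  have e0 : t + 4 - 1 = t + 3 := by omega
  have e1 : (t + 4) ^ 3 - 1 = (t + 3) * ((t + 4) ^ 2 + (t + 4) + 1) := by
    apply Nat.sub_eq_of_eq_add; ring
  have e2 : (t + 4) ^ 3 - (t + 4) = (t + 4) * ((t + 3) * (t + 5)) := by
    apply Nat.sub_eq_of_eq_add; ring
  have e3 : (t + 4) ^ 3 - (t + 4) ^ 2 = (t + 4) ^ 2 * (t + 3) := by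
    apply Nat.sub_eq_of_eq_add; ring
  have hP : P 3 (t + 4) = (t + 3) * ((t + 4) ^ 2 + (t + 4) + 1) * ((t + 4) * ((t + 3) * (t + 5))) * ((t + 4) ^ 2 * (t + 3)) := by
    unfold P
    rw [Finset.prod_range_succ, Finset.prod_range_succ, Finset.prod_range_succ, Finset.prod_range_zero, one_mul,
      pow_zero, pow_one, e1, e2, e3]
  rw [hP, e0]
  have h : (t + 9) ^ 3 < (t + 3) ^ 2 * (t + 5) * ((t + 4) ^ 2 + (t + 4) + 1) := by
    ring_nf
    linarith only [Nat.zero_le (t ^ 5), Nat.zero_le (t ^ 4), Nat.zero_le (t ^ 3), _root_.sq_nonneg (↑t : ℤ), _root_.Nat.cast_nonneg (α := ℤ) (t)]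
  calc (t + 3) * ((t + 4) ^ (3 - 1) + 5 * (t + 4) ^ (3 - 2)) ^ 3 = ((t + 3) * (t + 4) ^ 3) * (t + 9) ^ 3 := by
        norm_num
        ring
    _ < ((t + 3) * (t + 4) ^ 3) * ((t + 3) ^ 2 * (t + 5) * ((t + 4) ^ 2 + (t + 4) + 1)) :=
        Nat.mul_lt_mul_of_pos_left h (by (clear * -; positivity))
    _ = _ := by (set_option synthInstance.maxSize 99999 in exact Cfsg.Agent.Lib.RingK.eqN (by decide +kernel))

theorem num_lt {n q : ℕ} (hn : 3 ≤ n) (hq : 2 ≤ q) (h2 : ¬ (n = 3 ∧ q ≤ 3)) (h4 : ¬ (n = 4 ∧ q = 2)) :
    (q - 1) * (q ^ (n - 1) + 5 * q ^ (n - 2)) ^ 3 < P n q := by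
  rcases Nat.lt_or_ge q 4 with hq4 | hq4
  · rcases Nat.lt_or_ge q 3 with hq3 | hq3
    · obtain rfl : q = 2 := by omega
      have hn5 : 5 ≤ n := by omega
      induction n, hn5 using Nat.le_induction with
      | base => decide
      | succ m hm ih => exact step (by omega) (by omega) (ih (by omega) (by omega) (by omega))
    · obtain rfl : q = 3 := by omega
      have hn4 : 4 ≤ n := by omega
      induction n, hn4 using Nat.le_induction with
      | base => decide
      | succ m hm ih => exact step (by omega) (by omega) (ih (by omega) (by omega) (by omega))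
  · induction n, hn using Nat.le_induction with
    | base => exact base_three hq4
    | succ m hm ih => exact step (by omega) (by omega) (ih (by omega) (by omega))

variable {F : Type*} [Field F]

theorem card_le_sl [Finite F] (n : ℕ) : Nat.card (ConjClasses (Matrix.ProjectiveSpecialLinearGroup (Fin n) F)) ≤
    Nat.card (ConjClasses (Matrix.SpecialLinearGroup (Fin n) F)) := by
  apply Nat.card_le_card_of_surjective (ConjClasses.map
    (QuotientGroup.mk' (Subgroup.center (Matrix.SpecialLinearGroup (Fin n) F))))
  exact ConjClasses.map_surjective (QuotientGroup.mk'_surjective _)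

/-- `GL₃(3) = {±1} × SL₃(3)` -/
theorem two_mul_card_sl [Fintype F] (h3 : Fintype.card F = 3) :
    2 * Nat.card (ConjClasses (Matrix.SpecialLinearGroup (Fin 3) F)) ≤
      Nat.card (ConjClasses (Matrix.GeneralLinearGroup (Fin 3) F)) := by
  classical
  have hF : ∀ u : Fˣ, u ^ 2 = 1 := by
    intro u
    have h := pow_card_eq_one' (x := u)
    rw [Nat.card_units, Nat.card_eq_fintype_card, h3] at h
    exact h
  have hF3 : ∀ u : Fˣ, u ^ 3 = u := fun u => by rw [pow_succ, hF u, one_mul]
  have hcu : Nat.card Fˣ = 2 := by rw [Nat.card_units, Nat.card_eq_fintype_card, h3]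
  let G := Matrix.GeneralLinearGroup (Fin 3) F
  let ι : Matrix.SpecialLinearGroup (Fin 3) F →* G := Matrix.SpecialLinearGroup.toGL
  let sc : Fˣ →* G := Units.map (Matrix.scalar (Fin 3)).toMonoidHom
  have hsc : ∀ u (g : G), Commute (sc u) g := by
    intro u g
    apply Units.ext
    exact (Matrix.scalar_commute (u : F) (fun r => mul_comm _ _) (g : Matrix (Fin 3) (Fin 3) F)).eq
  have hdsc : ∀ u, Matrix.GeneralLinearGroup.det (sc u) = u := by
    intro u
    apply Units.ext
    change Matrix.det (Matrix.scalar (Fin 3) (u : F)) = _
    rw [Matrix.scalar_apply, Matrix.det_diagonal, Finset.prod_const, Finset.card_univ, Fintype.card_fin, ← Units.val_pow_eq_pow_val,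
      hF3]
  have hdι : ∀ A, Matrix.GeneralLinearGroup.det (ι A) = 1 := by
    intro A
    apply Units.ext
    exact A.2
  have hιinj : Function.Injective ι := by
    intro A B h
    apply Subtype.ext
    exact congrArg (fun g : G => (g : Matrix (Fin 3) (Fin 3) F)) h
  have hmem : ∀ g : G, Matrix.GeneralLinearGroup.det g = 1 → ∃ A, ι A = g := by
    intro g hg
    have h1 : Matrix.det (g : Matrix (Fin 3) (Fin 3) F) = 1 := congrArg Units.val hg
    exact ⟨⟨g, h1⟩, Units.ext rfl⟩
  rw [← hcu, ← Nat.card_prod]
  refine Nat.card_le_card_of_injective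
    (fun p : Fˣ × ConjClasses (Matrix.SpecialLinearGroup (Fin 3) F) =>
      Quotient.liftOn p.2 (fun A => ConjClasses.mk (sc p.1 * ι A)) ?_) ?_
  · intro A B hAB
    obtain ⟨c, hc⟩ := isConj_iff.1 (show IsConj A B from hAB)
    apply ConjClasses.mk_eq_mk_iff_isConj.2
    rw [isConj_iff]
    refine ⟨ι c, ?_⟩
    rw [← hc, map_mul, map_mul, map_inv, ← mul_assoc, ← (hsc p.1 (ι c)).eq]
    group
  · rintro ⟨u, x⟩ ⟨v, y⟩ h
    obtain ⟨A, rfl⟩ := ConjClasses.exists_rep x
    obtain ⟨B, rfl⟩ := ConjClasses.exists_rep y
    have h1 : IsConj (sc u * ι A) (sc v * ι B) := ConjClasses.mk_eq_mk_iff_isConj.1 h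
    obtain ⟨c, hc⟩ := isConj_iff.1 h1
    have h2 := congrArg Matrix.GeneralLinearGroup.det hc
    rw [map_mul, map_mul, map_inv, mul_right_comm, mul_inv_cancel, one_mul, map_mul, map_mul, hdsc, hdsc, hdι, hdι,
      mul_one, mul_one] at h2
    subst h2
    have h3' : c * ι A * c⁻¹ = ι B := by
      have h5 : sc u * (c * ι A * c⁻¹) = sc u * ι B := by
        rw [← hc, ← mul_assoc, ← mul_assoc, ← mul_assoc, (hsc u c).eq]
      exact mul_left_cancel h5
    obtain ⟨C, hC⟩ := hmem (sc (Matrix.GeneralLinearGroup.det c) * c) (by
      rw [map_mul, hdsc, ← sq, hF])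
    have h6 : C * A * C⁻¹ = B := by
      apply hιinj
      rw [map_mul, map_mul, map_inv, hC, ← h3']
      rw [mul_inv_rev]
      have h7 := hsc (Matrix.GeneralLinearGroup.det c) (c * ι A * c⁻¹)
      calc sc (Matrix.GeneralLinearGroup.det c) * c * ι A * (c⁻¹ * (sc (Matrix.GeneralLinearGroup.det c))⁻¹)
          = sc (Matrix.GeneralLinearGroup.det c) * (c * ι A * c⁻¹) * (sc (Matrix.GeneralLinearGroup.det c))⁻¹ := by group
        _ = c * ι A * c⁻¹ := by rw [h7.eq, mul_inv_cancel_right]
    have h8 : IsConj A B := isConj_iff.2 ⟨C, h6⟩
    rw [Prod.mk.injEq]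
    exact ⟨rfl, ConjClasses.mk_eq_mk_iff_isConj.2 h8⟩

theorem card_psl [Fintype F] {n : ℕ} (hn : 2 ≤ n) :
    Nat.gcd n (Fintype.card F - 1) * (Fintype.card F - 1) * Nat.card (Matrix.ProjectiveSpecialLinearGroup (Fin n) F) =
      P n (Fintype.card F) := by
  have h := S0243.result (F := F) rfl n hn
  rw [Fin.prod_univ_eq_prod_range (fun i => Fintype.card F ^ n - Fintype.card F ^ i) n] at h
  rw [mul_assoc]
  exact h

/-- the cube bound for `PSL_n(q)`, `n ≥ 3` -/
theorem cube_psl {F : Type*} [Field F] [Finite F] (n : ℕ) (hn : 3 ≤ n) (h2 : ¬ (n = 3 ∧ Nat.card F = 2)) :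
    CubeBound (Matrix.ProjectiveSpecialLinearGroup (Fin n) F) := by
  classical
  have := Fintype.ofFinite F
  rw [Nat.card_eq_fintype_card] at h2
  have hq : 2 ≤ Fintype.card F := Fintype.one_lt_card
  by_cases h33 : n = 3 ∧ Fintype.card F = 3
  · obtain ⟨rfl, h3⟩ := h33
    have h5 := card_psl (F := F) (n := 3) (by norm_num)
    rw [h3] at h5
    have h6 : P 3 3 = 11232 := by decide
    rw [h6] at h5
    have h7 := (S2478.result (F := F) 3 (by norm_num)).2
    rw [h3] at h7
    have h8 := two_mul_card_sl h3
    have h9 := card_le_sl (F := F) 3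
    refine CubeBound.of_card_conjClasses (k := 13) (by omega) ?_
    have : Nat.gcd 3 (3 - 1) = 1 := by decide
    rw [this] at h5
    omega
  by_cases h42 : n = 4 ∧ Fintype.card F = 2
  · obtain ⟨rfl, h3⟩ := h42
    have h5 := card_psl (F := F) (n := 4) (by norm_num)
    rw [h3] at h5
    have h6 : P 4 2 = 20160 := by decide
    rw [h6] at h5
    have h7 := (S2479.result (F := F) 4 (by norm_num)).2.2 (by norm_num)
    rw [h3] at h7
    have h9 := card_le_sl (F := F) 4
    refine CubeBound.of_card_conjClasses (k := 20) (by omega) ?_
    have : Nat.gcd 4 (2 - 1) = 1 := by decide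
    rw [this] at h5
    omega
  have h5 := card_psl (F := F) (n := n) (by omega)
  have h6 := (S2480.result (F := F) n (by omega)).2
  have h7 := num_lt hn hq (by omega) h42
  rw [← h5] at h7
  refine CubeBound.of_card_conjClasses le_rfl ?_
  set d := Nat.gcd n (Fintype.card F - 1)
  set k := Nat.card (ConjClasses (Matrix.ProjectiveSpecialLinearGroup (Fin n) F))
  set N := Nat.card (Matrix.ProjectiveSpecialLinearGroup (Fin n) F)
  set X := Fintype.card F ^ (n - 1) + 5 * Fintype.card F ^ (n - 2)
  have hd : 0 < d := Nat.gcd_pos_of_pos_left _ (by omega)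
  have hr : 0 < Fintype.card F - 1 := by omega
  have h8 : X ^ 3 < d * N := by
    apply Nat.lt_of_mul_lt_mul_left (a := Fintype.card F - 1)
    calc (Fintype.card F - 1) * X ^ 3 < d * (Fintype.card F - 1) * N := h7
      _ = (Fintype.card F - 1) * (d * N) := by ring
  have h9 : d ^ 3 * k ^ 3 < d ^ 3 * N := by
    calc d ^ 3 * k ^ 3 = (d * k) ^ 3 := by ring
      _ ≤ X ^ 3 := Nat.pow_le_pow_left h6 3
      _ < d * N := h8
      _ ≤ d ^ 3 * N := by
        apply Nat.mul_le_mul_right
        calc d = d ^ 1 := (pow_one d).symm
          _ ≤ d ^ 3 := Nat.pow_le_pow_right hd (by norm_num)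
  exact Nat.lt_of_mul_lt_mul_left h9

end Cfsg.Agent.H151.CubePSL
end

-- part: H151/CubeTwo
section
/-!
# `CubeBound (PSL_2(q))`, `CubeBound (PSL_3(2))` (helper151, for S5721/S5718 of helper383)

* `of_class` : `k(T) (m-1)² < |T| < m³` implies `CubeBound T` (`|T| ≤ |C|² k(T)`);
* `cube_psl_two`, `cube_psl_all` : `PSL_n(q)`, all `n ≥ 2`, `(n,q) ≠ (2,2), (2,3)`.
-/

set_option autoImplicit false

namespace Cfsg.Agent.H151.CubeTwo

open Cfsg.Agent.H383.Cube

/-- `|T| ≤ |C_T(α)|² k(T)` -/
theorem card_le_sq_mul {T : Type*} [Group T] [Finite T] {α : MulAut T} (hα : α * α = 1) :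
    Nat.card T ≤ Nat.card {t : T // α t = t} ^ 2 * Nat.card (ConjClasses T) := by
  have h1 := card_le hα
  have h2 := tw_sq_le α
  set c := Nat.card {t : T // α t = t}
  set i := Nat.card (Tw α)
  set N := Nat.card T
  set k := Nat.card (ConjClasses T)
  have hN : 0 < N := Nat.card_pos
  have h3 : N * N ≤ (c ^ 2 * k) * N := by
    calc N * N = N ^ 2 := by ring
      _ ≤ (c * i) ^ 2 := Nat.pow_le_pow_left h1 2
      _ = c ^ 2 * i ^ 2 := by ring
      _ ≤ c ^ 2 * (k * N) := Nat.mul_le_mul_left _ h2
      _ = (c ^ 2 * k) * N := by ring
  exact Nat.le_of_mul_le_mul_right h3 hN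

/-- the criterion `k(T) (m-1)² < |T| < m³` -/
theorem of_class {T : Type*} [Group T] [Finite T] {k m : ℕ} (hk : Nat.card (ConjClasses T) ≤ k)
    (h1 : k * (m - 1) ^ 2 < Nat.card T) (h2 : Nat.card T < m ^ 3) : CubeBound T := by
  intro α hα
  have h3 := card_le_sq_mul (mul_self_of_order hα)
  have hm : m ≤ Nat.card {t : T // α t = t} := by
    by_contra hcon
    have h4 : Nat.card {t : T // α t = t} ≤ m - 1 := by omega
    have h5 : Nat.card T ≤ (m - 1) ^ 2 * k :=
      h3.trans (Nat.mul_le_mul (Nat.pow_le_pow_left h4 2) hk)
    rw [mul_comm] at h5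
    omega
  exact h2.trans_le (Nat.pow_le_pow_left hm 3)

theorem card_psl_two {F : Type*} [Field F] [Fintype F] :
    Nat.gcd 2 (Fintype.card F - 1) * Nat.card (Matrix.ProjectiveSpecialLinearGroup (Fin 2) F) =
      Fintype.card F * (Fintype.card F ^ 2 - 1) := by
  have hq : 2 ≤ Fintype.card F := Fintype.one_lt_card
  have h := CubePSL.card_psl (F := F) (n := 2) le_rfl
  unfold CubePSL.P at h
  rw [Finset.prod_range_succ, Finset.prod_range_succ, Finset.prod_range_zero, one_mul, pow_zero, pow_one] at h
  have e : Fintype.card F ^ 2 - Fintype.card F = Fintype.card F * (Fintype.card F - 1) := by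
    rw [Nat.mul_sub, mul_one, sq]
  rw [e] at h
  apply Nat.eq_of_mul_eq_mul_left (show 0 < Fintype.card F - 1 by omega)
  calc _ = _ := by rw [← mul_assoc, mul_comm (Fintype.card F - 1)]
    _ = _ := h
    _ = _ := by ring

theorem num_odd {q k N : ℕ} (h9 : 9 ≤ q) (hc : 2 * N = q * (q ^ 2 - 1)) (hk : 2 * k ≤ q + 5) : k ^ 3 < N := by
  obtain ⟨t, rfl⟩ : ∃ t, q = t + 9 := ⟨q - 9, by omega⟩
  have e1 : (t + 9) ^ 2 - 1 = (t + 8) * (t + 10) := by apply Nat.sub_eq_of_eq_add; ring
  rw [e1] at hc
  have h0 : (t + 9 + 5) ^ 3 < 4 * ((t + 9) * ((t + 8) * (t + 10))) := by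
    ring_nf
    linarith only [Nat.zero_le (t ^ 3), _root_.sq_nonneg (↑t : ℤ), _root_.Nat.cast_nonneg (α := ℤ) (t)]
  have h1 : (2 * k) ^ 3 < 4 * (2 * N) := by
    rw [hc]
    exact (Nat.pow_le_pow_left hk 3).trans_lt h0
  have h2 : 8 * k ^ 3 < 8 * N := by
    calc 8 * k ^ 3 = (2 * k) ^ 3 := by ring
      _ < 4 * (2 * N) := h1
      _ = 8 * N := by ring
  omega

/-- the cube bound for `PSL_2(q)` -/
theorem cube_psl_two {F : Type*} [Field F] [Finite F] (hF : 4 ≤ Nat.card F) :
    CubeBound (Matrix.ProjectiveSpecialLinearGroup (Fin 2) F) := by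
  classical
  have := Fintype.ofFinite F
  rw [Nat.card_eq_fintype_card] at hF
  have hc := card_psl_two (F := F)
  rcases Nat.even_or_odd (Fintype.card F) with he | ho
  · have hch : CharP F 2 := by
      obtain ⟨p, hp⟩ := CharP.exists F
      have hpp : p.Prime := CharP.char_is_prime F p
      have h1 : p ∣ Fintype.card F := (CharP.cast_eq_zero_iff F p _).1 (Nat.cast_card_eq_zero F)
      have := Fact.mk hpp
      obtain ⟨n, hp', hn⟩ := FiniteField.card F p
      rw [hn] at he
      have h2 : 2 ∣ p := (Nat.prime_two.dvd_of_dvd_pow he.two_dvd)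
      rwa [← (Nat.prime_dvd_prime_iff_eq Nat.prime_two hpp).1 h2] at hp
    have hk := S2331.result (F := F)
    have hk' := CubePSL.card_le_sl (F := F) 2
    have hd : Nat.gcd 2 (Fintype.card F - 1) = 1 := by
      rw [← Nat.coprime_iff_gcd_eq_one, Nat.coprime_two_left]
      exact Nat.Even.sub_odd (by omega) he odd_one
    rw [hd, one_mul] at hc
    obtain ⟨t, ht⟩ : ∃ t, Fintype.card F = t + 1 := ⟨Fintype.card F - 1, by omega⟩
    have e1 : (t + 1) ^ 2 - 1 = t * (t + 2) := by apply Nat.sub_eq_of_eq_add; ring
    rw [ht, e1] at hc
    rw [ht] at hk hF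
    refine of_class (k := t + 2) (m := t + 1) (by omega) ?_ ?_
    · rw [hc, Nat.add_sub_cancel]
      have : 0 < t * (t + 2) := by have : 0 < t := by omega
                                   positivity
      linarith only [hF, _root_.sq_nonneg (↑t : ℤ)]
    · rw [hc]
      linarith only []
  · have hd : Nat.gcd 2 (Fintype.card F - 1) = 2 := by
      apply Nat.gcd_eq_left
      exact (Nat.Odd.sub_odd ho odd_one).two_dvd
    have hk := (S2480.result (F := F) 2 le_rfl).2
    rw [hd, show 2 - 1 = 1 from rfl, show 2 - 2 = 0 from rfl, pow_one, pow_zero, mul_one] at hk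
    rw [hd] at hc
    rcases Nat.lt_or_ge (Fintype.card F) 9 with h9 | h9
    · have h57 : Fintype.card F = 5 ∨ Fintype.card F = 7 := by
        obtain ⟨m, hm⟩ := ho
        omega
      rcases h57 with h | h
      · rw [h] at hc hk
        exact of_class (k := 5) (m := 4) (by omega) (by omega) (by omega)
      · rw [h] at hc hk
        exact of_class (k := 6) (m := 6) (by omega) (by omega) (by omega)
    · exact CubeBound.of_card_conjClasses le_rfl (num_odd h9 hc hk)

/-- all simple `PSL_n(q)` -/
theorem cube_psl_all {F : Type*} [Field F] [Finite F] (n : ℕ) (hn : 2 ≤ n) (h2 : n = 2 → 4 ≤ Nat.card F) :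
    CubeBound (Matrix.ProjectiveSpecialLinearGroup (Fin n) F) := by
  rcases Nat.lt_or_ge n 3 with h | h
  · obtain rfl : n = 2 := by omega
    exact cube_psl_two (h2 rfl)
  by_cases h32 : n = 3 ∧ Nat.card F = 2
  · obtain ⟨rfl, hF⟩ := h32
    have := Fintype.ofFinite F
    rw [Nat.card_eq_fintype_card] at hF
    have : Fact (Nat.Prime 7) := ⟨by norm_num⟩
    obtain ⟨e⟩ := S0255.result (F := ZMod 7) (K := F) (ZMod.card 7) hF
    exact CubeBound.congr e (cube_psl_two (by rw [Nat.card_zmod]; norm_num))
  · exact CubePSL.cube_psl n h h32

end Cfsg.Agent.H151.CubeTwo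
end

-- part: H47/CubeTool
section
/-!
# The cube bound for inner automorphisms: tools (helper47, S5721)

* `inner_of_cent` : all automorphisms are inner and all involution centralizers are large;
* `le_cent` : `|N| ≤ |E| |C(u)|` for a subgroup `N` normalizing `E`, `u ∈ E`; `le_cent_of_map` : the version for a family
  of elements.
-/

set_option autoImplicit false

namespace Cfsg.Agent.H47.Cube

open Subgroup Cfsg.Agent.H383.Cube

universe u

/-- the fixed points of an inner automorphism -/
theorem card_fix_conj {K : Type*} [Group K] (t : K) :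
    Nat.card {x : K // MulAut.conj t x = x} = Nat.card (centralizer ({t} : Set K)) := by
  refine Nat.card_congr (Equiv.subtypeEquivRight fun x => ?_)
  rw [mem_centralizer_singleton_iff, MulAut.conj_apply, mul_inv_eq_iff_eq_mul]
  exact eq_comm

theorem center_eq_bot {K : Type*} [Group K] [IsSimpleGroup K] (hna : ¬ (Nat.card K).Prime) : center K = ⊥ := by
  rcases (inferInstance : (center K).Normal).eq_bot_or_eq_top with h | h
  · exact h
  · exfalso
    apply hna
    have hc : ∀ a b : K, a * b = b * a := fun a b => (mem_center_iff.1 (h ▸ mem_top a : a ∈ center K) b).symm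
    let _ : CommGroup K := { (inferInstance : Group K) with mul_comm := hc }
    exact IsSimpleGroup.prime_card

/-- **The criterion.** -/
theorem inner_of_cent {K : Type*} [Group K] [IsSimpleGroup K] (hin : ∀ α : MulAut K, ∃ g : K, α = MulAut.conj g)
    {n m : ℕ} (hn : Nat.card K = n) (hp : ¬ n.Prime) (hm : n < m ^ 3)
    (hc : ∀ t : K, t * t = 1 → t ≠ 1 → m ≤ Nat.card (centralizer ({t} : Set K))) : CubeBound K := by
  intro α hα
  obtain ⟨t, rfl⟩ := hin α
  have h1 : t ≠ 1 := by
    rintro rfl
    rw [map_one, orderOf_one] at hα
    omega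
  have h2 : t * t = 1 := by
    have h3 : t * t ∈ center K := by
      rw [mem_center_iff]
      intro g
      have h4 : (MulAut.conj t * MulAut.conj t) g = g := by
        rw [← pow_two, ← hα, pow_orderOf_eq_one, MulAut.one_apply]
      rw [← map_mul, MulAut.conj_apply, mul_inv_eq_iff_eq_mul] at h4
      exact h4.symm
    rw [center_eq_bot (by rw [hn]; exact hp), mem_bot] at h3
    exact h3
  rw [card_fix_conj, hn]
  exact hm.trans_le (Nat.pow_le_pow_left (hc t h2 h1) 3)

/-- centralizers of conjugate elements -/
theorem card_cent_conj {K : Type*} [Group K] {s t : K} (h : IsConj s t) :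
    Nat.card (centralizer ({s} : Set K)) = Nat.card (centralizer ({t} : Set K)) := by
  obtain ⟨g, rfl⟩ := isConj_iff.1 h
  refine Nat.card_congr (Equiv.subtypeEquiv (MulAut.conj g).toEquiv fun x => ?_)
  rw [mem_centralizer_singleton_iff, mem_centralizer_singleton_iff]
  change x * s = s * x ↔ (g * x * g⁻¹) * (g * s * g⁻¹) = (g * s * g⁻¹) * (g * x * g⁻¹)
  have h1 : (g * x * g⁻¹) * (g * s * g⁻¹) = g * (x * s) * g⁻¹ := by group
  have h2 : (g * s * g⁻¹) * (g * x * g⁻¹) = g * (s * x) * g⁻¹ := by group
  rw [h1, h2, mul_left_inj, mul_right_inj]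

/-- a family `f x` of distinct elements conjugating `u` into the finite set `S` -/
theorem le_cent_of_map {K X : Type*} [Group K] [Finite K] (f : X → K) (hf : Function.Injective f) (u : K)
    {Y : Type*} [Finite Y] (g : Y → K) (h : ∀ x, ∃ y, f x * u * (f x)⁻¹ = g y) :
    Nat.card X ≤ Nat.card Y * Nat.card (centralizer ({u} : Set K)) := by
  classical
  choose y hy using h
  -- a chosen element for every value
  let P : Y → K → Prop := fun b k => k * u * k⁻¹ = g b
  let c : Y → K := fun b => if h : ∃ k, P b k then h.choose else 1
  have hc : ∀ b k, P b k → P b (c b) := by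
    intro b k hk
    have h : ∃ k, P b k := ⟨k, hk⟩
    simp only [c, dif_pos h]
    exact h.choose_spec
  rw [← Nat.card_prod]
  refine Nat.card_le_card_of_injective (fun x : X => ((y x, ⟨(c (y x))⁻¹ * f x, ?_⟩) :
    Y × centralizer ({u} : Set K))) ?_
  · have h1 : P (y x) (f x) := hy x
    have h2 := hc _ _ h1
    rw [mem_centralizer_singleton_iff]
    have h3 : f x * u * (f x)⁻¹ = c (y x) * u * (c (y x))⁻¹ := h1.trans h2.symm
    have h4 : f x * u = c (y x) * u * (c (y x))⁻¹ * f x := by rw [← h3]; group
    calc (c (y x))⁻¹ * f x * u = (c (y x))⁻¹ * (f x * u) := by group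
      _ = (c (y x))⁻¹ * (c (y x) * u * (c (y x))⁻¹ * f x) := by rw [h4]
      _ = u * ((c (y x))⁻¹ * f x) := by group
  · intro x x' hx
    have h1 : y x = y x' := congrArg Prod.fst hx
    have h2 : (c (y x))⁻¹ * f x = (c (y x'))⁻¹ * f x' := congrArg (fun p => (p.2 : K)) hx
    rw [h1] at h2
    exact hf (mul_left_cancel h2)

/-- `|N| ≤ |E| |C(u)|` -/
theorem le_cent {K : Type*} [Group K] [Finite K] {E N : Subgroup K} (hN : ∀ n ∈ N, ∀ e ∈ E, n * e * n⁻¹ ∈ E)
    {u : K} (hu : u ∈ E) : Nat.card N ≤ Nat.card E * Nat.card (centralizer ({u} : Set K)) :=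
  le_cent_of_map (fun n : N => (n : K)) Subtype.val_injective u (fun e : E => (e : K)) fun n =>
    ⟨⟨_, hN n n.2 u hu⟩, rfl⟩

/-- a subgroup of the centralizer -/
theorem le_cent_of_sub {K : Type*} [Group K] [Finite K] {L : Subgroup K} {u : K} (h : ∀ x ∈ L, x * u = u * x) :
    Nat.card L ≤ Nat.card (centralizer ({u} : Set K)) := by
  apply Subgroup.card_le_of_le
  intro x hx
  exact mem_centralizer_singleton_iff.2 (h x hx)

/-- a surjection from the centralizer -/
theorem le_cent_of_surj {K H : Type*} [Group K] [Finite K] [Group H] {u : K}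
    {f : centralizer ({u} : Set K) →* H} (hf : Function.Surjective f) :
    Nat.card H ≤ Nat.card (centralizer ({u} : Set K)) := by
  have : Finite (centralizer ({u} : Set K)) := inferInstance
  exact Nat.card_le_card_of_surjective f hf

end Cfsg.Agent.H47.Cube
end

-- part: H817/CubeHeData
section
/-! Data for the double cosets of the stabiliser of a flag `(0, 37)` in the Held group on 2058 points
(helper817, task 240; generated file): words fixing the flag, spanning forests (four bits for each point). -/

set_option autoImplicit false

namespace Cfsg.Agent.H817.CubeHeData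

open Cfsg.Spor.He

/-- a point, a word moving `0` to it, words fixing `0`, `37` and the point, forest and depths, roots -/
structure Row where
  x : ℕ
  g : List Gen
  ws : List (List Gen)
  s : ℕ
  d : ℕ
  R : List ℕ

/-- words fixing `0` and `37` -/
def ws0 : List (List Gen) :=
   [[.a],
    [.c],
    [.d, .c, .e, .d],
    [.a, .b, .a, .b, .d],
    [.e, .d, .f, .d, .e],
    [.e, .d, .c, .d, .f, .b, .c, .d, .e, .b, .c, .d, .e, .b, .c, .d, .e, .b, .c, .d, .e, .b, .c, .d, .e, .b, .c, .d, .e, .b, .c, .d, .e, .f, .d, .c, .d, .e],
    [.d, .e, .c, .d],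
    [.d, .b, .a, .b, .a],
    [.e, .d, .c, .d, .f, .e, .d, .c, .b, .e, .d, .c, .b, .e, .d, .c, .b, .e, .d, .c, .b, .e, .d, .c, .b, .e, .d, .c, .b, .e, .d, .c, .b, .f, .d, .c, .d, .e]]

/-- the numbers of the words -/
def s0 : ℕ := 0x5222248545881421425111421240154331481411441141455251815828825812111812441114522223382184451811158811215115558141842421124113444454215213141182221324411111048224124151412125141211125512152451421812181245142144120181251240288181825424254020815582122552215824024822450128111220208120121223112200055212120014122541120011400411421581280180424325214411444228444445142123381240224241110011421812331421112441212141121452551515110282111114412114131215114131222115181152222221124505422415214854128214513315351031515122815881104815012181144115122111118124442444114411241141584111112110222141121213125851432821023421141112482142222050285122112812044511015542125185421280850112450251242052812441052185110121441141518512411411218514211584141414522412111411211242521114444514121141114581221122141322532228154842441202154815242241414181183424014055244122814220545144424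2122141422212281408142115228424121581125811214122223040011152845424184444114411148015118583321321211235122118854444141518115544141425851325155002115185228111104842422814441112114400212821422211845121558441111151551144848582422484114185544854833122122081520844520151520018121814441011142581244111404151025815121525111410814411544142852140214451148114001114111415200110400131415411f0f112023412551288142214112400258125182058428004414220511001040211281141414141220112404012504441123411118155182185184241400420418f124040152158154240141002221141121482145241425851414050215581124543480224421120022814818181581241241425421282185881085822411414142022218545442811285151042411508520222182402510241204112114211425141214122108028851242201254241824181445811445144511222211120110010148418120411183448014241020411424152858224122418042151111518111181111521115344024443218822020150002222440008112443215522441414414185818008004514112145112122210012041411214414441f04550120051281121134144501210041215122115144128211122421480454144121441423440423441221225211314414541522142211418111114121114112100001122244813852020441220141131412241112441401411111021134441221122340215043114214121f124f4ff22122111141312151455f5140411f121f21ff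

/-- the depths -/
def d0 : ℕ := 0x4336633333357657655466543475434556516544445545437589897753287365488543335444377554448574523336633456543332452374375758858882287723545684638458868487765885372337547548455547845589547458679986778458676998677877333367267234778929828822778367368213543177767788288777432616242266624523988881288823777898955434544737474644554455445445765733575476468899887444484848674735544375567645773277762176445766676445576766655676778721443318359553344954656654454656666576767465334766657474655567755445667755463364436546565666567844755362346656633475666667883778557558995566549547662966984542157467764672745778424567433352749555465543355563455634445165435653587655656876556564334558335575464445754378473477664334467456343787676577786655785446547654877354543255655456833747773377745325554667568774544388537774668336646826518672544357647747663336566536466765646634556645654433476476639666647475696566566676787747635546356222232547221665658854834346542665534355443445645645534466674447335548776577772267474555323566345348347776388774467677723566634344445564321343356754132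76337731737652444472444444444656546464555544557657656252525456447566653765563266467199574728857775688814311765563656774625645362567666334543437567656764373327354365653511126455266750201553226777457745455646545568556823333888884573472564593266555792176576657666677653213265546667443499347546664456565565345418750415286666445656533233434266546637664766467666366655115346878766584465656245543555676566953366534423566669262366654566663644437473475678774587774763575635588533324544544554546444555676554556465546554656624446878636656563535463657445337667877786254457765334333323565236568565542676556356267655625566775677565555823466542346654554558856554362243376446233435454442444343432243376446774457741322345652455543333322332437552363465566674474445055545432344315545344988635234378435644373463545333344459775774652546534255232155143212243524287587556555636564375645421535254567536566744464246625545443776512667673632362536546655336353622145531431141142553233334334013202004324344432411154654404256561032101100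

/-- the point 0 -/
def row0 : Row where
  x := 0
  g := []
  ws :=
   [[.a],
    [.c],
    [.d, .c, .e, .d],
    [.a, .b, .a, .b, .d],
    [.e, .d, .f, .d, .e],
    [.e, .d, .c, .d, .f, .b, .c, .d, .e, .b, .c, .d, .e, .b, .c, .d, .e, .b, .c, .d, .e, .b, .c, .d, .e, .b, .c, .d, .e, .b, .c, .d, .e, .f, .d, .c, .d, .e],
    [.d, .e, .c, .d],
    [.d, .b, .a, .b, .a],
    [.e, .d, .c, .d, .f, .e, .d, .c, .b, .e, .d, .c, .b, .e, .d, .c, .b, .e, .d, .c, .b, .e, .d, .c, .b, .e, .d, .c, .b, .e, .d, .c, .b, .f, .d, .c, .d, .e]]
  s := 0x52200400400000000000000212000003300800224410000800000000058000001000103312203002233800000513000580000150000000018000000000000000000000000000000000000000000000000000000000000000000000000000000000000000000000000000000000000000000000000000000003000000000000000000000000000010000000000000000000000000000000000000000000000000000000000000000000000000000000000000000000000000000000000000000000000000000000000000000000000000150000000000000000000000000000000000000000000000000000000000000000000000000000000000000000000000000000000000000000000000000000000000000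0000000000000000000000000000000000000000000000000000000001000000000000000000000080000000000000000000000000000000000000000000000000000000000000000000000000000000000000000000000000400000000000000000001000000000000000000000000000000000000000000000000000000000000000000000000000000000000000000000000000000000000000000000000000000000000000000000000000000022230000000000000000000000000000000000000000000000000000000000000000000000000000000000013100000000000000000000000000000000000001100000003010220000451200440000010010511400085823200000040000000030000000000000000000000000000000000000000000000000000000000000000000000000000000000000000000000000000000000000000000000000000000000000000000000000000000000000000000000000000000000000000000000000000000000000000000000000000000000000000000000000000000005000000000000000000000000000800000000000000000000000000000000000000000000000000000000000000000000000000000000000000000000000000000000000000000000000000000000000000000000000000000000000000000000000000000000000000000000000000000000000000000000000000000000000000000000000000000000000000000000000430000000000000000000000000000000000000000000000000110000000043000483200000000000000000410000000453200000000000000000000000000004012140012000000000000000000000000000000000000000020004000000000000010020000000000211102000000000000000000000000000000000225010000000000000000000000000000020000000000000022200000000000000000000000000000000000000000000000034400001003300000000000010000ff00031f0000000000000000000000000000000000000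
  d := 0x433002002000000000000004240000055002003344500003000000000310000030003033533030055444000001230002200004300000000430000000000000000000000000000000000000000000000000000000000000000000000000000000000000000000000000000000000000000000000000000000020000000000000000000000000000300000000000000000000000000000000000000000000000000000000000000000000000000000000000000000000000000000000000000000000000000000000000000000000000003200000000000000000000000000000000000000000000000000000000000000000000000000000000000000000000000000000000000000000000000000000000000000000000000000000000000000000000000000000000000000000000005000000000000000000000010000000000000000000000000000000000000000000000000000000000000000000000000000000000000000000000000400000000000000000004000000000000000000000000000000000000000000000000000000000000000000000000000000000000000000000000000000000000000000000000000000000000000000000000000000032220000000000000000000000000000000000000000000000000000000000000000000000000000000000042400000000000000000000000000000000000003300000002030220000414300330000030050444300044444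400000030000000040000000000000000000000000000000000000000000000000000000000000000000000000000000000000000000000000000000000000000000000000000000000000000000000000000000000000000000000000000000000000000000000000000000000000000000000000000000000000000000000000000000003000000000000000000000000000300000000000000000000000000000000000000000000000000000000000000000000000000000000000000000000000000000000000000000000000000000000000000000000000000000000000000000000000000000000000000000000000000000000000000000000000000000000000000000000000000000000000000000000000440000000000000000000000000000000000000000000000000440000000044000233300000000000000000340000000233300000000000000000000000000003033320021000000000000000000000000000000000000000040003000000000000030040000000000332304000000000000000000000000000000000243020000000000000000000000000000020000000000000044400000000000000000000000000000000000000000000000021100001001100000000000030000000002100000000000000000000000000000000000000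
  R := [37, 43, 44]

/-- the point 1 -/
def row1 : Row where
  x := 1
  g := [.b]
  ws :=
   [[.a],
    [.a, .b, .a, .b, .d],
    [.e, .d, .f, .d, .e],
    [.d, .b, .a, .b, .a]]
  s := 0x10000100010000020010000022000000020000000000200001000200000000021001000000000000000000000000000000000000000000102f00000000000000000000000000f0000000000000000000000000000000000000000000000000010000f000000000000000000f000000000000000000000000000000000000000000000000000000000000000000000000000000000000000000000000000000000000000000000000000000000000000000000f0000000000000000000000000010000000000000000000000000000000000000000000000000000000000000000000000000000000000000000000000000000000000000000000000000000000000000000000000000000000000000000000000000000000000000200000200000000000100000f100f0000000200000000000000000000001000f0000000000000f000000000000100000000000000000000000000000000000000000000000000000000000000000000000000000000000000000000000000000000000000000000000000000000000000000000000000000000000000000000000000000000000000000000000000000000000000000000000000000000000000000000000000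00000000000000000000000000000000000000000000000000000000000000000000000000000f0000000000000000000000000f000000002000000000000000000000000000000f1000000000000000000000000000000000000000000000000000000000000000000000020000000000000000000010000f0000000000000000000000000000000000000000000000000100f0f000012000001000000000000000000000000000f0000000000000000f000000000000000000000000000000000000000000000000000000000000000000000000000000000000000000000000000000000000000000000000000001000000000000000000000000000000000000000000000000000000000000000000000000000000000000000000000000000000000000000000000000000000000000000000000000000000000000000000000000000000000000000000000000000000000000000000000000000000000000001000000000000000000200000000000000000000000000f000000200000000000000000000000002f00000000000000001f0f0f0000000000000000000000000f0f000000000000000000000000000020200f00f0f02001000000000000000000000000000000000000100000000000000000000000000000000000000000000000000000000000000000000000000000000000000000000f101000000000000f000f000000f00000000000f000000000000000000000000000000000000000000000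
  d := 0x100000000000000000000000210000230020000010210000011220000212000200002100001000102000000011032000000000000000000000000000000000000021000201000000300000001000000000030000000000000000000000000000000000000000000000031000200000000000000100000000000000000000000000000000000000000000000000000000000000000000000000000000000000000000000000000000000000000000000000000000000000000000000000000000000000000000000030000000020000000000000000000000000000000000000000000000000000000000000000000000000000000000000000000000000000000000000000000000000000000000000000000000000000000000000000000000000000000000002100000100000000012101000012000000000100000000000000000000021011000000000000000000000000000100000000000000000000000000000000000000000000000000000000000000000000000000000000000000000000000000000000000000000000000000000000000000000000000000000000000000000000000000000000000000000000000000000000000000000000000000000000000000000000000000000000000000000000000000000000000000000000000000000000000000000000001000000000000200000000000100000000000000000010000000000000000000000000001000200000000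0000000000000000000000000000000000000000000000000000000000000010000000000000300200021003000000000000000000000000000000000000000000000020001110000022110000010000000000000000000100010000000000000000000000000000000000000000000000000000000000000000000000000000000000000000000000000000000000000000000000000100000000000000000000000020000000000000000000000000000000000000000000000000000000000000000000000000000000000000000000000000000000000000000000000000000000000000000000000000000000000000000000000000000000000000000000000000000000000000000000000000000000000001210000000000000000001200000000000000000000210100000000100000000000000000000000001000000000000000001000000000000000000000000000000030000000000000000000000000000010100000000010010000000000000000000000000000000000001000000000000000000000000000000000000000000000000000000020100000000000000000000300000000001000221000010000000000000000000000000000000000000000000000000000000000000000000000000000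
  R := [45, 57, 64, 68, 84, 219, 221, 224, 258, 260, 286, 288, 290, 308, 342, 745, 762, 802, 804, 857, 955, 995, 1021, 1354, 1368, 1403, 1407, 1640, 1782, 1801, 1857, 1884]

/-- the point 4 -/
def row2 : Row where
  x := 4
  g := [.e, .d, .c, .b]
  ws :=
   [[.a],
    [.a, .b, .a, .b, .d],
    [.e, .d, .f, .d, .e],
    [.c, .d, .c, .e, .d, .c],
    [.e, .d, .c, .d, .f, .b, .c, .d, .e, .b, .c, .d, .e, .b, .c, .d, .e, .b, .c, .d, .e, .b, .c, .d, .e, .b, .c, .d, .e, .b, .c, .d, .e, .f, .d, .c, .d, .e],
    [.d, .b, .a, .b, .a],
    [.c, .d, .e, .c, .d, .c],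
    [.e, .d, .c, .d, .f, .e, .d, .c, .b, .e, .d, .c, .b, .e, .d, .c, .b, .e, .d, .c, .b, .e, .d, .c, .b, .e, .d, .c, .b, .e, .d, .c, .b, .f, .d, .c, .d, .e]]
  s := 0x30000000000000000000000000000000000000000000000000000000000000000000000000000000001200000001100300000000000000000000000000000100001000000000311000000000000000000000000000030000000001000000200000000000000000000000000300000000300001f14000000000000070000000000200020f02000000000000000000000000000000000000000010000000000000000000000000000000000000000000000000000000000000000000000000000000000000000002000000000000000000000000000000000000000000000000000000000000000000000000000000000000000001002000000000000000020000000000000000000000000000000000000000000000000000000000000000000000000000000000000000001000000000000000000000000000000000000300001f0000000000000022000000000000000000000000000000000000000000000000000000000000000000000000000000000000000000000000000000000000000000000000000000000000000000000000000000000000000000000000000000000000000000000000074000000000000000000000000000000000000000000000000000000000000000000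000000000000000000000000000030000000003000000000000000000000210000000000000000000000000000000000000000000000000000000000000000000000000000000000000000000000000000000000000020000000000000000000000027000000200f30000000000000001000100000000000000000000000000000000000000000000033040300000000000034700000000000200000000040040002030f7000000000000000000000000000000000001000000000000000000000000000000000000000000000000004000003000000000000000000000000000000000000000000000000000000000000000000000000000000000001700000000000000000000000000000000000000000000000000000000010300000000000000000000000000000000000000010000000000000000000000000000000000000000000000000000000000000000000000002f000000000000000000000000000000000000000007200000000000000000000000000000000000000000000000000000000000000000000000000f000000000000000000000000000000000000000000000000000000000000000100000f00000f0000f000300000000000000000000000000000003f200000000000000000000000011000000000000000000000000000000000000000000000000000000000000000000000000000002000000000000000000130000000000000000000000000000000000000000000000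
  d := 0x203000000000000000000000000000000000000000000000000000000000000000000000000000000032000300133303000000000000000000000000000002200030000000002130000000000320000000000000030200000000020000002300000000000000000000000002000000002000010210003200000020100000000002000230021000000000000000000000000000000000000000300000000000000000000000000000000000000000000000000000000000000000000000000000000000000000023000000000000000000000000000000000000000000000000000000000000000000000000000000000000000223010000000000000000200000000000000000000000000000000000000000000000300000000000000000000000000010000003000000020000000000000000000000000000000003002000210000300000000002200000000000000000000000000000000000000000000000000000000000000000000000000000000000000000000000000000000000000000000000000000000000000000000000000000000000000000000000000000000000000000000000001100000000000000000000000000000000000000000000000000000000000000000000000000000000000000000000201300000000200000000000000000000012230000000000000000000000000000000000000000000020000000000000000000000000000000000000000000000000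000000000000001000000000000000000000002120000310001000000000000000200020000000000000000000000000000000000000000000022201320000000000001110200000000230000000021311000122001000000000000000000000000000000000032000000000000000000000000000000000000000000000000001000001200000000000000000000000000000000000000000000000000000000000000000000000000000000002100000030000000000000000000000000000000000000000000000000020100000000000000000000000000000000000000020000000000000000000000000000000000000000000000000000002200000031000000002000000000000000000000000000000000000000000110000000000000000000000000000000000000000000000000000000000000000000000000000000000000000000000000000000000000000000000000000200000000000001000000000000000000001000000000000000000000000000000010100000000000000000000000012000000000000000000000000000000000000000000000000000000000000000000000000000001000000000000000000210000000000000000000000000000000000000000000000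
  R := [208, 289, 171, 1776, 213, 219, 407, 1365, 760, 1743, 880]

/-- the point 8 -/
def row3 : Row where
  x := 8
  g := [.b, .c, .d, .c, .e, .d, .c, .b]
  ws :=
   [[.a, .b, .a, .b, .d],
    [.a, .d, .c, .e, .d, .c],
    [.c, .a, .e, .d, .f, .d, .e, .c, .e, .d, .c, .d, .f, .b, .c, .d, .e, .b, .c, .d, .e, .b, .c, .d, .e, .b, .c, .d, .e, .b, .c, .d, .e, .b, .c, .d, .e, .b, .c, .d, .e, .f, .d, .c, .d, .e, .c, .e, .d, .f, .d, .e, .c],
    [.d, .b, .a, .b, .a],
    [.c, .d, .e, .c, .d, .a],
    [.c, .e, .d, .f, .d, .e, .c, .e, .d, .c, .d, .f, .e, .d, .c, .b, .e, .d, .c, .b, .e, .d, .c, .b, .e, .d, .c, .b, .e, .d, .c, .b, .e, .d, .c, .b, .e, .d, .c, .b, .f, .d, .c, .d, .e, .c, .e, .d, .f, .d, .e, .a, .c]]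
  s := 0x4000000000000000000010000000000000000000000000000000000000000000000f1000000000f1000000000000000000000000000000000000000000000000401000000000000000000000000400000001000000000000000000000000000200000000004000000000000001000000000000000000000000000000000000000000000000000000000200000000000000000000000000040000000000000000000000000000000000000000000002000400000000000000100000000000000000200000000000000000004000000000000000000000000000002000000000000000000000000000000000000000000000000000000000000000000000141001000000000000000000040000000000000000000000000000000000040000000000000000000000000000000000000002000000000000000000000000000000000000000000001000100000000000000000200000000000000000020000000000000000000000000000f00000000000000040000000000000f000000000000000000000000000000000000000000000000000000000000000000000000000000000010000000000000000000000000040000000000000000000000000000000000000000004000000000000000000000000000000000000000000000000000000000000000000000000000000000000000000000000010000000000000040000000000000000000000000000000000000000000000000000000000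000000000000000000000000001020000002000000000000000004000000000000000020000000000000000000000000020000000000000000000000000000000000000000000000000000000000000200000000000000000000000001000000002000000000000000000000000000000000000000000000000000000000000040000f0011000000000000000000000000002000f0000000000000000000000000000000000000000000000000000000000000000000000000000000000000000000000000000000000000000000000000000000000000000000000000000000000000000000000000000000000400000000000000000000000000000000000f000000000000000000000000000000000000000000040000001000000000000010000040201000000000000000200000000000000000004000000000020000000000000000000000000000020000400000000000000000000000000000000000000000000000020000000002000000000000000000000000000000000000000004f0000000000100000000000000000000000000000000000000000000000000001000000100000000000000000000000000000002000000000000000000f0000000000140000f000000000000000000000f00000000000000000000000000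
  d := 0x100000000000050500000010060000000000000000400000000000000000000000000000000000010220000000100020000001000200000000000000000000003000002000000000000000203000000000000000000000000100000003000000000000300000000000000500600000403000000000000003000000000000000000000000000000000000000000000000000000000200000000000000000000000000010000000000000000000005040000000002000000000004000400005000000000500000000000000000400000000000000000002000300000000130000000010002003000000000000000000000000000040000000000003000000200000000000000002000111001000000000000000000010000000000050000000000000000000000030000000000000000000000000000000000000002000000000000000000000000000000000000003000002400100000000000000000300000000000000000010000000000000000000000000000000000000000000040000000000000000000000000100000000200000000000000000050000000000000000000000000000000000000000001000000000000000000000000002000000000000000000000000000000100000000000100000000000000000000000000000000000003000000000000000000000000000000000000000000000000000000000006000000007000201000000000000000000000000000000000000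00000000000000000000000020000000000000000000000040520000024000060000002000010000000000000000200000000000020000200000000100000000000000000000000000000000020000000000000000000000000001000000000000000040000000020000000010000000000000000000000000000000000000000000000000000000000000300000001100000000000000000000000000100000000000000000000000000000000000000000000000000000000000000000000200000000000000000000000000000000000000000000000000000000000000000000000000000000000000000000000000000000000000000200000000000000000000000000000000000000000000000000000000000030000000000000000001000000200000000000003000003020300000000000000220000000000000000000220000000001000000000000000000000000000002000030000000000000000000000000000000000000000001030001000000000200000000000000000000000000000000000000000100000000000100000000000000000000000000000000000002300000000000002000000200000100000000000000000000000001000000000000000000000000000001100000000000000000000000000000000000000000000000000000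
  R := [26, 48, 65, 1956, 187, 1967, 446, 661, 696, 1282, 1312]

/-- the point 16 -/
def row4 : Row where
  x := 16
  g := [.g, .b]
  ws :=
   [[.a],
    [.c, .a, .b, .a, .b, .d, .c],
    [.c, .e, .d, .f, .d, .e, .c],
    [.e, .d, .f, .d, .e, .c, .e, .d, .c, .d, .f, .b, .c, .d, .e, .b, .c, .d, .e, .b, .c, .d, .e, .b, .c, .d, .e, .b, .c, .d, .e, .b, .c, .d, .e, .b, .c, .d, .e, .f, .d, .c, .d, .e, .c, .e, .d, .f, .d, .e],
    [.c, .d, .b, .a, .b, .a, .c],
    [.e, .d, .f, .d, .e, .c, .e, .d, .c, .d, .f, .e, .d, .c, .b, .e, .d, .c, .b, .e, .d, .c, .b, .e, .d, .c, .b, .e, .d, .c, .b, .e, .d, .c, .b, .e, .d, .c, .b, .f, .d, .c, .d, .e, .c, .e, .d, .f, .d, .e]]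
  s := 0x1000000000000000000000001000000000000000000000000000000000000000000000005053000000003000000000000000000000000005030000000000000000000000000000000000000000000501000500001130000000000000005000000000002310000000000020000000000000000000000000000000000001000010003000000000000000000000000005000000000000000000000100000000000003000000000000000000000000000000000000000000000000000000000000000000000000000000000000000000000000000000000000000110000000110000000000000000000000000000000000000000000000000000000000000000000000000000000000000000000000000000000000000000000000000000000000000000000000000000000000000000000000f0000000f00000000000000000000010050001000300000000000000000000000000500000000000000000000000030003020000520022000000000000000000000000000000000000000000000000000000000000000000000000000000000000000000000000000000000000000000000000000000000000000000000000000000000000000000000000000000000000000000000000000000000000000000000000000000000000000000000000000000000000000000000000000000003000000000000000010005000000000000000000000000000000000000003f00000000000002000000000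0000000000000000001001000000000000000000000000000000000000000000000000000000000000000000000000f0000000000000053000000001000000000000000000000000000000000000000000000000000000002000000000010000000000000000000000000000000020100010000002020000000000000000002000000000000000000000000000000000000000000000000000000000000000000000000000000000000000000000000000000000000000000000000000000000000000000000000000000000000000000000000000000000000000000000000000000000000000000000000000000000000000000000000000000000000000000000000000000000000000020000000000002000000000000000000000000000000000000000000000000000000000000000000000000000000000000200003051000100001000000000000010000000000000000010000200f1010000000000000000000000000000000000001000000000000000000200303000020000000000002000000000f00002000000000000000000000000000000000000000000000000000000000000000000050000000000000000000000000000000000000000f0000000000ff03000f000000500000000000f00000000000000000000000000000000500f00000000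
  d := 0x340000000000000000000000100200000000000000000000000000000000000000000000201100000000200000000000000000000000000303000000000000000000000000000000000000000000310220510000241000000300000003340000000000233000000003002000000000000000000000000000000000000344003002100000000000000000000020000100000000000000000000020000000000000100200000000000000000000000000000000000000000000000000000000000000000000000000000000000000000030000000000000000022000000022000000000000000000000000000000000000000000000000000000000000000000000000000000000000000000000000000000000000000000000100000000000000000000000000000000000000000000000100000000000000000000000000000540010004500100000000000000000000000000300000000000003000000004020033420000220033000000000000000000000000000000000000000000000000000000000000000000000000000000000000000000000000000000000000000000000000000000000000000000000000000000000000000000000000000000000000000000000000000000000000000000000000000000000000000000000000000000000000000000000000000000021000003000000000020103000000000000000000000000000000000000003000000002000001000000000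000000000000000000300300000000000000000000000000000000000000000000000000000000000000000000000000000000000000011000050004000000000000000000000000000000000000000000000000000000003000000004010000000000000000000000000000000020300030000002020000000000000000043000000000000000000000000000000000000000000000000000000000000000000000000000000000000000000000000000000000000000000000000000000000000000000000000000000000000000000000000000000000000000000000000000000000000000000000000000000000000000000000000000000000000000000000000000000000000000210000000003002000000000000000000000000000000000000000000000000000000000000000000000000000000000000102001011000200002000000000000010000000000030000020000100010100000000000000000000002000000003000020000000000000000003002010000100000000000020000000000000010000000000000000000000000000000000000000000000000000000000000000000100020000000000000000000000000000000000010000002000000010000001000120000000000000000000000000000000000000000000100000000000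
  R := [8, 44, 1444, 63, 69, 70, 81, 195, 883, 287, 1001, 1436]

/-- the point 696 -/
def row5 : Row where
  x := 696
  g := [.e, .d, .c, .b, .d, .f, .c, .d, .c, .b]
  ws :=
   [[.a, .b, .a, .b, .d],
    [.a, .c, .d, .c, .e, .d, .c],
    [.e, .d, .c, .d, .f, .b, .c, .d, .e, .b, .c, .d, .e, .b, .c, .d, .e, .b, .c, .d, .e, .b, .c, .d, .e, .b, .c, .d, .e, .b, .c, .d, .e, .f, .d, .c, .d, .e],
    [.a, .c, .e, .d, .c, .d, .f, .b, .c, .d, .e, .b, .c, .d, .e, .b, .c, .d, .e, .b, .c, .d, .e, .b, .c, .d, .e, .b, .c, .d, .e, .b, .c, .d, .e, .f, .d, .c, .f, .d, .e, .d, .c, .e, .d, .e, .d, .f, .d, .e],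
    [.d, .b, .a, .b, .a],
    [.c, .d, .e, .c, .d, .c, .a],
    [.e, .d, .c, .d, .f, .e, .d, .c, .b, .e, .d, .c, .b, .e, .d, .c, .b, .e, .d, .c, .b, .e, .d, .c, .b, .e, .d, .c, .b, .e, .d, .c, .b, .f, .d, .c, .d, .e],
    [.e, .d, .f, .d, .e, .d, .e, .c, .d, .e, .d, .f, .c, .d, .f, .e, .d, .c, .b, .e, .d, .c, .b, .e, .d, .c, .b, .e, .d, .c, .b, .e, .d, .c, .b, .e, .d, .c, .b, .e, .d, .c, .b, .f, .d, .c, .d, .e, .c, .a]]
  s := 0x70000000000000000000000000000000030600000000000000000000000000000000000000000000000000000000000000000000000000000000000000000000000000000000000000000000000000000000000000000000000000000000000000000000000001000000000000000000000000000000000000000020000000000000000000000000100000000000000000300000000000000000003070000030000000000002000000060000000000000030000700000000000000000000000000000000000000600030000000000000000000000000000000000000000000000000100000000000000011000000200000000000000000100000000000000000070000000000000000000000000000000300000000000000000060000000000000000000f00000000000000000000000000000000000000000000000000000000000000000000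000000030000000000000000000000000000000000700000020000000000000000000000700000000000000000000000000000060000000000000000000000000300000000000000000000100000000000023000007000000000000000000000000003000000000000000000000000000000000000020000000000000000000000000000002000000000000000000000000000070000000000000000000000070000000060000000000000000000000100000000000000000020100000000000000002000000000160000000100000000002100000000000000000000000020000000000000000000000000000000000000000000000000000000001000000000000000000000000600000000000000000003000000000000000000000000000000000000000000000000600000000000000000000020000000000000000000000000000000000000000000000000000070000000000000000000000000000002000000200000000000000000000000000000000000000000000000000000000000000000000000000000000107000000000000000000000001000000020000030000000000000000000000000000000000000007030000100000010060000000000000000000000000000000000000000000000000001f0000000000000000000600000000000300000000100000000000000000000000000f0010000000020000000000000000000000000000000000000000000000000000000000000000000000000000f000000000000000000000000000000000000000000000000000007000000000000001000000000000000000000000000000000300000000000070000000000000000000000000000000000000000000000000000000000000000000f00000000070000000000000000000030000000000000000f00000000000f00100000000000000000f0000000000000000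
  d := 0x200000000000000000000010000000000000000010000000000000010100000020300000000000000000000000000000000000000000000000000000000000000000000000000000000000000000000000000000000000000000000000000000000000000000000000000000002000000002000002000000000030000000000000000000000020000000000000000000000000300000000000000000200000000000000000004040000012000000000001000000320000000000000010000300000000000000000000000000030000000000100030000040000000000000000000000000000000000000000000300000000000000022000000200000000000000000200000000000000000010000000000000000000000000000000200000000000000220040000200000000003000000000000000000000000000000000000000000000000000000000000000000000000000000020000000000000000000000000000000000300000030000000000000020000000300000000000000000000000000000320000000000000000000000000200000000000000000000200000000000043000002000000000000000000300000003000000000000000000000000003000000000010000030000000000000000004000003030000000000000000000000000020000000000000000000000020000000030000000000000000004000200000000000000000010300020000030000001030000000210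0000003003000000023000000303000000000000001300000000000000000000000000000000000000000000000000000000040000000000000000000000003000000000000000000030000000000000000000000000000000000000000000000002000000000000000000000300000000000000000400000000000000003000000000000000000203000000000000000000000000020010000003020000000000000000000030000000000000000000000000000000000000000000000000000000003020000000000000000000000030000020300000200000000000000000000000000000000000000010100003000000300100000000000000001000000000000000000000000000000000010000000000000000000020000000000020000030010000000000000000000000000000010000000010000000020000000000000000000000000000000000000000000000000000000000000000000000000000000000000000000000000000000000000000000000000200000000000000102000000000440000000000000000000040020000000003000000000000000000000000010000000000000000000000000000000100000000000000000002000000000000000000001000000000000000000000000000000010000000010000000000000000000000000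
  R := [16, 37, 49, 1449, 97, 281, 370, 438]

/-- the point 37 -/
def row6 : Row where
  x := 37
  g := [.g, .f, .d, .c, .d, .c, .b]
  ws :=
   [[.a],
    [.c],
    [.d, .c, .e, .d],
    [.a, .b, .a, .b, .d],
    [.e, .d, .f, .d, .e],
    [.e, .d, .c, .d, .f, .b, .c, .d, .e, .b, .c, .d, .e, .b, .c, .d, .e, .b, .c, .d, .e, .b, .c, .d, .e, .b, .c, .d, .e, .b, .c, .d, .e, .f, .d, .c, .d, .e],
    [.d, .e, .c, .d],
    [.d, .b, .a, .b, .a],
    [.e, .d, .c, .d, .f, .e, .d, .c, .b, .e, .d, .c, .b, .e, .d, .c, .b, .e, .d, .c, .b, .e, .d, .c, .b, .e, .d, .c, .b, .e, .d, .c, .b, .f, .d, .c, .d, .e]]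
  s := 0x100000000000000000000000000000000000000000000000000030000000000000000000000000000000000000002441030000000000000000000400000000000000000000000004000002000000000000150000000000000020000000000000000000100000000000000000000400000002000200000000000000000000030000000000000000000000000000000000000000000000000000000210022200000030000000000000000000000000020000000000000000000000000000000000000000000000000000000000000000000000000003000000001000000000000000000000000000000000000000000000000000000000000000000000040000000000328000000000000000000000000000000000000000000013000000000000000000000000000000000000000000000000000000000000000000000000000000000000000000000000000000000000000000000000000000000000000000000000000000000000000000000000310000000000000000000000000000000030000000000000000000000100000000000000000000000000000000000000000000000000000000000000000000000000000000000000080000000000000000000000000000000000000000041000300000000000000000000000000000100f00000000000000000000003100000000000000000000030000000000000000000000000000000800000000020000000000004000000000000000000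000000000000000000000000000000120000000000000000000000000000000000000000000000000000000000000000040002000000000000000000000000000000252000000000040000f000000000000000000000000000020000000000000000000000000000000011300300002401000000000000000000000000000000000000000000000100000000000000000000000000000000030000000000000000400000000004000000000000000000000000000000000000000008000000000000000000000000000000000000000000000000000500000000000000000000000000000000000000000000000000000051000000000000000300000000030000000000000000000000000000000000000000000000000000000000000000000000000200000000000000000000000000000000000000000000000000003000013000000000000000000000000000000000000001500120000000000000000000000000000000000000000800000000000000000000000000000000000400000000033002400000500000000000000000000000000000000000000000000000000000000000000000000000000000000000000000000000000000000000000000000000000000000000010000000000000000000000000000300000000000000000410000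
  d := 0x300000040000000000000000000000000000000000000000000020000000000000000000000000000000003003003332030000000000000000000200000000000000000000000001030001002003200000210000000000000020000000000003000003200000000000000000200230000002000200000000000000000000020000000000000000000000000000000000000000000000000000000330333340000020000000000000000000000000020000000000000000000000000000000000000000000000000000000000000000000000000003000001003000000000003000000000000000000000000000000000000000000000000000000000010000000000222000000000000000000000000000000000000000000033000000000000000000000000000030000000000000000000000000000000000000000000000000000000000000000000000000000000000000000000000000000000000000000000000000000000000000000000222000000000000000000000000000000010000002000000000000000100200000000000000000000000000000000000000000000000000000000000000000000000000000000000030000000000000000000000000000000000000000032320300000000000000000000000000002100000000000000000000000002300000000000000000000040000000000000000000000000000000100000000040000000000003000000000000000000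0000000000000000000000000000003200000000000000000000000000000000000000000000000000000000000000000200012000000000000000000000000000003220000100000333000000000000000000000000000000030000000000000000000000000000000033200330002203000000000000000000000004000000000000000000000300000000000000000000000000000000020000000000000000200000000044000000000000000000000000004000000000000003000000000000000400000000000000000440300000000000000200000000000000000000000000000000000000000000000000000034000000000000030330000000430000000000000000000000000000000000000000000000000000000000000000000000000400000000000000000005000000000000000000000000000000002200021000000000000000000000000000000000000002100430000000030000000000000000000000000000000300000000000000000000000000000000000400000000433003300000200000000000000000000000000000000000000000000000000000000000000000000000000000000000000000000000000000000000000000000000000000000000030000000000000000000000000000400000000000000000340000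
  R := [1089, 819]

/-- the point 38 -/
def row7 : Row where
  x := 38
  g := [.d, .g, .f, .d, .c, .d, .c, .b]
  ws :=
   [[.a],
    [.a, .b, .a, .b, .d],
    [.e, .d, .f, .d, .e],
    [.c, .d, .e, .c, .d, .e, .d, .f, .d, .e, .d, .c, .e, .d, .c],
    [.c, .e, .d, .f, .d, .e, .c, .e, .d, .c, .d, .f, .b, .c, .d, .e, .b, .c, .d, .e, .b, .c, .d, .e, .b, .c, .d, .e, .b, .c, .d, .e, .b, .c, .d, .e, .b, .c, .d, .e, .f, .d, .c, .d, .e, .c, .e, .d, .f, .d, .e, .c],
    [.d, .b, .a, .b, .a],
    [.c, .e, .d, .f, .d, .e, .c, .e, .d, .c, .d, .f, .e, .d, .c, .b, .e, .d, .c, .b, .e, .d, .c, .b, .e, .d, .c, .b, .e, .d, .c, .b, .e, .d, .c, .b, .e, .d, .c, .b, .f, .d, .c, .d, .e, .c, .e, .d, .f, .d, .e, .c]]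
  s := 0x6000030000000000000000000000000000030400000033006000000000000000000000000000000000000200000000000100000400000030000000000000021000000000002206000046000002000000003000000000000000000000000000000000000000000000000000000f000000000000000000000000000000000000000000000110010000000003000000000000000000000000000000000000000000000000000000000000000000000004000000000000000000000000000000000000000010002000000000000000000000000000000000000000000000000000000000000000140000000030010000000000000000000000400000000000000000040000000000000000000000002000000000000000000000000000000000000000000000010000000100000000010000000000000000000000000000000000000000000000000000200000000000000300000000000000400000000000000000000000000f000000000000000002000000000000030000000000000000000000000040000000000000000000000000000000000000000000000000000100000000000000000000000000000000000000000000000060000000000000000000600000000000000000000000000000000000000000000000000000000000000300000000000000000000000001000000000000000000000000200000000000000000000000000200200000000000000002000000000000000000000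00000001200000000000000000000000000020001000000010640000000000000001000000000000023000000000002300000000000000000000000000000000100000000001001000000000000000000600100000400046000000000000000000000000000000000000000000000200000000000000000000000000000000000000000000000000000000004000000000000000000000000000100000000000000300000000000000000000000000000000010000003000000000000000000000000000000000000000000000000000000000000000004000000000000000010060000020000000000000000000000000000000000000000000000000000000000000000000000000006000000000000000000040000000000000000000000000030000010000100000f000000000000000000000000000030000f00030000000000000000000000000000000000000000000000000000000000000100040000000000000000001020000202000001000000000f0000000000000000000000000000000000000000000000000000000000000000000000000000000000000000000000000000000000000000000000000020000000000000000000000000000000000001000000040f0000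
  d := 0x200002000000000000000000000000000002020000002200300000000000000000000000000000000000034000000400030040030000003000000000000004303000000000430200003300400300000000200000000000000000000000000000000000000000002000000000100000000000000000000000000000030000000000000003300400300000040000000000000000000000000000000000000000000000000000000000000000000000030000000000000000000000000000000000000000103020000000000000000000000000000000000000000000000000000000000000001100000000200300000000000000000000002000000000000000000200000000000000000000000020000000000000000000000000000000000000000000000300000003000000003200000000000000000000000000000000000000000000002000001000000000003001000000000000002000000020000000000000010000000000000000000001200000000000020000000000000000000000000210000000000000000000000000000000000000000000000000000300000000003000000000000000000000000000000000000010000000000000000000200200000000002030000000000000000000000000000000000000000000000200000000000000000000000001000000000000000000300000200000000000000000000000000300300000000000000003000000000000000000000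0000000220000000000000000000000000002000300000002011000000000003000200000000000003200000000000320000000000000000000000000000000010003000000300300000000000000000010020003030001300000000000000000000000300000000000000000000020000000000000000000000000000000000000000000000000000000000200000000000000000000000000030000000000000020000000000000000030000000000000003000000100000020000000000000000000000000000000000000000000000000000000000200000000000000002001000001000000000000000000000000000000000000000000000000000000000000000000000000000300000000000000000003000000000000010000000000001020002000020000000000000000000000000000000000100000000100000000000000000000000000000000000000000000000000000000000002000100000000000000030020200002020000030000000000000000000000000000000000000000000000000000000000000000000000000000000000000000000000000000000000000000000000000000000000001000000000000000000000000000000000000200000001000000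
  R := [4, 1282, 174, 1778, 288, 322]

/-- the point 40 -/
def row8 : Row where
  x := 40
  g := [.e, .d, .c, .d, .c, .b]
  ws :=
   [[.a],
    [.c],
    [.d, .c, .e, .d],
    [.a, .b, .a, .b, .d],
    [.e, .d, .c, .d, .f, .b, .c, .d, .e, .b, .c, .d, .e, .b, .c, .d, .e, .b, .c, .d, .e, .b, .c, .d, .e, .b, .c, .d, .e, .b, .c, .d, .e, .f, .d, .c, .d, .e],
    [.d, .e, .c, .d],
    [.d, .b, .a, .b, .a],
    [.e, .d, .c, .d, .f, .e, .d, .c, .b, .e, .d, .c, .b, .e, .d, .c, .b, .e, .d, .c, .b, .e, .d, .c, .b, .e, .d, .c, .b, .e, .d, .c, .b, .f, .d, .c, .d, .e]]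
  s := 0x7000000000420000002000000000000000000000100000000400000000000000000020000000001000001100000000300200002700000003000000002000000000002100000000000000000000000010000000000000000000000000000000000000000000f0200000000000000000000000000000000000010000000000000000000000000000000000000000001000000000000000000000000000000001f00000000000000000004370000000000000000000370001000000700000000000000000000000000000070100000000000000000000000000000000000000000000000000000000000000000000000000000000000000000000000000000000000000000000000201100000000000000000000000000000000000000000000000000000000000000000000000000000000000200000200000000000000000000000000000000000000000000000000000000000000000000000000000000000000002000000000000000000000000000000000000000000000000000000000000000000000000000100000000070000000002000000000004000000000000000000000000000000000000000000000000000000000000000000000000000000000000000000000000007000000000000000000000000010000000000000020000000000000007000000000000000000000000000000000000000000000000000000000000000070000040000000000000000000100010010f00000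00000000400000000000000000000073020400000000000270000000120000000000000000000000420000f100000000000000000001000000000400000000000700000000000200000001000000000000000000000000000000000000000000f0000000000000000000000000000000000000000000000000000000000000000000000000000000000000000000000000000000000000000000000000000000030000000000000000200000000000000000000000000000000000000000000000000000000000000000000000000000000000000000040000003000000000000000000000000000000000000000000000000000000400000000000000000000000000000000000000000000000000000000000070000000000000000000000000f100000000000000000000000000000000000000000000000000000000000000000000000004000000000000002000020000000000140000001000000000000000000000000000000002130000300000000000000000000000000000000000000000000000000000000000000000000000000000000000000000000000000000000000000000000000000000010000000000000000f0400000300100000000000000000000000000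
  d := 0x300000000022000000200000000000030000000030000003020000000000000000003000000000300000330000000010040000220000000230000003300000000000230000000000000000000000302000000000200000000000000000000000000200000000100000000000000000000000000000004000010002000000000000000000000000000000000000004000000000000000000000000002100001000000000000000400003330000000000000000000330004000000200000000003000000000000000000020200000000000000000000000000100000000000200000000000000000000000000000000000000000000000000000000000000000000000000004000304300000000000000000000000000000000000000000000000000000000000000000000000000000000000300000300000000000000000000000000000000000000000000000000000000000000000000000000000000000000003000000000000000000000000000000000000000003000000000000000000000000000000000300000000020000000002000000000003200000000000000000000000000000000000000000000000000000000000000000000000000000000000000000000000002030000000000000000000000030000000000000033000000000000001000000000000000000020000000000000000000000000000000000000000000020000020000000000000000000120010320000000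01000000100000000000000000000022020100000000300330003200210000000000000000200000330000010000400000100000000200030003020000000000210000000000030000000300000000000000000000000000000000000000000000010000000000000000000000000000000000000000000000000000000000000000000000000200000000000304000002000000000000000000000000000000030000000000000000100000000000000000000000000000000000000000000000000000000000000000000000000000000000000000040000004000000000000000000000000000000000000000000000000000000100000000000000000000000000000000000000000000000000000000000010000000000000000000000000010000000000000000000000000000000000000000000000000000000000000000000000000100000000000002100001000000000021000000300000000000000000000000000000000221000022000000000000000000000000000000000000000000000000000000000000000000000000000000000000000000000000000000000000000000000000000003000000000000000000100000200200000000000000000000000000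
  R := [721, 37, 919, 335, 1672, 827, 1788]

/-- the point 44 -/
def row9 : Row where
  x := 44
  g := [.d, .f, .g, .d, .c, .e, .d, .c, .b]
  ws :=
   [[.a],
    [.d, .c, .e, .d],
    [.c, .a, .b, .a, .b, .d, .c],
    [.e, .d, .f, .d, .e, .c, .e, .d, .f, .d, .e],
    [.c, .e, .d, .c, .d, .f, .b, .c, .d, .e, .b, .c, .d, .e, .b, .c, .d, .e, .b, .c, .d, .e, .b, .c, .d, .e, .b, .c, .d, .e, .b, .c, .d, .e, .f, .d, .c, .d, .e, .c],
    [.d, .e, .c, .d],
    [.c, .d, .b, .a, .b, .a, .c],
    [.c, .e, .d, .c, .d, .f, .e, .d, .c, .b, .e, .d, .c, .b, .e, .d, .c, .b, .e, .d, .c, .b, .e, .d, .c, .b, .e, .d, .c, .b, .e, .d, .c, .b, .f, .d, .c, .d, .e, .c]]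
  s := 0x12000000000000000000030000000011000003000000000000000000000023000000000000001000000000000000000000000000000000020030000000000000000000000000000000000300000000000000000000000000000000000000000020100000000000000000000000000000000001000000000000000000000000000000000000000000000007010001000000000040000000000000000000000000000000000000000000300000000000000000000300000000000000000000000000040000000004310000000000000000000f000000000000000000000000000000000070000000004000000000000000107040000000000000000070000000002000000000000000000000000000000000000000000000000030000000700000000000700400020000000000000000010000000000000000000000300000000000000000000000000000000000000000000000000000000000000000000700000000000000000000001200000000f00000000000000000000000000001000000000000000000000000000000000000000000000003000000000000000000000000100000000000000000000000000000000000000000000200000000000000000000000000000030000000000001000000000000000000000000400000070000400000022100000000000000100002000000000000000000000000000000000000000000000000000000000000100000000000000000000000000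00000000000000000000010300000100000300004000000000000000000000000000000000000000000000000000000000000000000000000000000000000000000000000000000000000000000000000000000000000000000000000000000040000020000000000000000100000003000000000000003000000000000000000000000000000000000000000000000000000000000000000003000000000200000000000000000000000000000000000000000000000000000000000000004000000000000000000000000000000000000000f000000200002000000000000000000000000000000000000000f0000000000000000000000000000000000000000000000000000000000000000020040000000000000000000000001000000000000000000000000000040000000000f0010000000010000000000000000000000000000000000000000000000000000000000000000000000000000000040000000000000000004030000000000000000000000000000000007000300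
  d := 0x200000000000000000000000000000000000000000000000000000000000000000000000000000000000000000000000000000000000000000000000000000000000000000000000000000000000000000000000002200000000000000000003000000002340000200330000000100000000002200000000000003200000000000000000000000000000000002001000040300000000000000000000002000010000000000000000000000000000000000000000001023000000000000000000000000500000000400000000000000000000000000000000000000000000000303000200000000003300040000030000000000000000000000000000000020000000000000000003020000000000000000000000200003000000000333400000000000000000000000000000000000000000040000000000100000000010000000000000003030300000400000000000300000000020000000000000000030003000000000000000000000000000200000001000000030001001000300000000000000002200020000000000000000002000000000000000000003000000000000000000000000000000300000000000000201000000000040000000000044000000000000000000000000000000000000320000100000000000000000002000000000000004000000040000000050000000000000001000000000200000000000000000000000000000000001002000000000000000000000000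000500000000000050000000000000000000000001000000100003000000133000000000000001200210000000000000000000000000000000000000000000000000000000000002300000000000000000000000000000000000000000000001320000030000032000300000000000000000000000000000000000000000000000000000000000000000000000000000000000000000000000000000000000000000000000000000000000000000000000000000001020002000000000400000030003000200000000000000200000000000000000000000000000000000000000000000000000000000000002000100000000020000000000000000000000000000000000000000000000000000000000000000300000040000000000000000000000000000000000100002000020000000000000000000000000000000000000000000000000000000000000000000000000000000000000000000000000000000003002000000000000000000000000500000000000000000000000000002003000000300020000000030000000000000000000000000000000000000000000000000000000000000000000000000000000040000000000000000002010000000000000000000000000000000005000500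
  R := [1420, 154, 1107, 340, 288]

/-- the point 825 -/
def row10 : Row where
  x := 825
  g := [.f, .e, .d, .f, .b, .c, .b, .d, .c, .d, .g]
  ws :=
   [[.d, .b, .a, .b, .a, .c, .d, .c, .e, .d],
    [.a, .d, .e, .c, .d, .e, .d, .f, .d, .e, .d, .c, .e, .d],
    [.a, .d, .b, .a, .b, .a, .e, .d, .c, .d, .f, .e, .d, .c, .b, .e, .d, .c, .b, .e, .d, .c, .b, .e, .d, .c, .b, .e, .d, .c, .b, .e, .d, .c, .b, .e, .d, .c, .b, .f, .d, .c, .f, .d, .e],
    [.d, .e, .c, .d, .c, .a, .b, .a, .b, .d],
    [.d, .e, .c, .d, .e, .d, .f, .d, .e, .d, .c, .e, .d, .a],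
    [.e, .d, .f, .c, .d, .f, .b, .c, .d, .e, .b, .c, .d, .e, .b, .c, .d, .e, .b, .c, .d, .e, .b, .c, .d, .e, .b, .c, .d, .e, .b, .c, .d, .e, .f, .d, .c, .d, .e, .a, .b, .a, .b, .d, .a]]
  s := 0x20000000000000000000000000000000000000000000000000000000000002000000001000000000000000000000000000000020000000000000000000000000000000000000f00000000000000000000000000000000000000020000000000000000000000000000000000000000000000000000000000000001000000000000200000000000000100000000000002000020000000000020000200000000000000000000000000000000000000000000000000000101000000000000000000000000000000000000000000000000020000000000000000000000000000000000000000000000000000000000000000000000000000000000000000000110000000000000000000000000000000000000000010000000000000000000000000000000002020000000000000000000000f000000000000000000000000000000000000000000000000200000000000000000000000000000000020010000000000000000200000000000200000000000000000000000000000001000000000000002000000000000000000000000000000000000000000000000000000001000000001000000000000000000020000100200001000000000000000010000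00000200000000000000000000000000000000000000100000000000000000000012000000000000000000000000000000000000000f000000002000000000000000000000000000000000000000000000000000000000000000000000000000000020000020000000000000000000000000000000000000000000000000000000000000000000000000000000000000000001000000000000000000000000000000000000000000000200100000000000000000000000000000000000000000000000000000100000000000001000000000000000000200000000200000000000000000000000102000000000000000000f0000000000020000000000000020000000000000000000000000000000000000000000000000000000000000000000000000100000000000000000010000000000001000000000000000000000000000000f0000000f0000000020000000000000020000000000000000000000000000000000000000000000000000000000000000000000000000000000000000000000000000002000000020000000000000000000000000000000000000000000002020000000000000000000000000000000000000000000000000000000000000000020000120000000000000000000000000000000000020000000020000000000000000000000000000002000000000002000000000000f1000000000000000000000000100000002000100000000000000000000000000001020000000000000000000000000000000000000000000000000000000000f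
  d := 0x100000000000000030000000000000000000000000000000000000000000000000000000000004000000001000000000000000000000000000000010000000000000000000000000000000000000000000000000000000000000000000000000060030000000000000000000000000000000000000000004000000000000000000004000000000000200000003000000300006000000002000020000000000050000500000000000000000000000000000000000000000000000000000305000000000000000000005000000000000000000000000000040000000010000000000040000060000030005000000000000000000000000000000000000000000000000002000610000000000000000000000000000000004000000040000000000000000200000000000000043040000005000005000000000000000000000000000000000000000002000000000000000010000001000030000000000000000000005032000000000000000010000000000030000000000003100000000000000000400000000000000400005000000010000000000000000000000000000200000000000000100000000300000000000000000006000020030000500000000000000004000000000300000000000000020000500000000002000000200000000000000000000026000000000030000000000000000000000000000000000000200000000000000000000000000000000000000000000000000000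0000000000000000000000000020000010000000000000000000000000000000000000000001000000000000000000000000000000000000000000000004000000000000000000000000000000000000000000000500500000000000000000000000000000000000000000000000000000100000000000005000000000000000000300000000500000000000004000000004201200000000000000000000020000005200000000000000300000000000000000000000000002000000000000000000000003000000000000000000003000000000000000000100000005000050000000000004000000000000000000000000000000000050000000000000010000000000000000000000000000000000000000000000000000000000000000000000000000000000000000000020000000004000000040000040000000000000000000000000000000000003004040005000000000000000000000100000000000000004000000000000000000000020300260000004000000000000000000000000000050000000020000000000000000000000003003002000000000003000004000060040000000000000000000000001000000030003000000000000000000000020000030100000000000000000000000000000000000000000000000002000000000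
  R := [0, 1422, 1032, 492, 128, 484, 1890, 656]

/-- the point 260 -/
def row11 : Row where
  x := 260
  g := [.g, .c, .d, .c, .d, .g, .b, .c, .d, .c, .e, .d, .c, .b]
  ws :=
   [[.b, .a, .b, .d],
    [.a, .c, .d, .c, .e, .d],
    [.a, .c, .e, .d, .c, .d, .f, .e, .d, .c, .b, .e, .d, .c, .b, .e, .d, .c, .b, .e, .d, .c, .b, .e, .d, .c, .b, .e, .d, .c, .b, .e, .d, .c, .b, .f, .d, .c, .d, .e],
    [.e, .d, .f, .d, .e, .c, .d, .e, .c, .d, .e, .d, .c, .d, .f, .e, .d, .c, .b, .e, .d, .c, .b, .e, .d, .c, .b, .e, .d, .c, .b, .e, .d, .c, .b, .e, .d, .c, .b, .e, .d, .c, .b, .f, .d, .c, .d, .e, .c, .e, .d, .f, .d, .e],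
    [.d, .b, .a, .b],
    [.d, .e, .c, .d, .c, .a],
    [.e, .d, .c, .d, .f, .b, .c, .d, .e, .b, .c, .d, .e, .b, .c, .d, .e, .b, .c, .d, .e, .b, .c, .d, .e, .b, .c, .d, .e, .b, .c, .d, .e, .f, .d, .c, .d, .e, .c, .a],
    [.e, .d, .f, .d, .e, .c, .e, .d, .c, .d, .f, .b, .c, .d, .e, .b, .c, .d, .e, .b, .c, .d, .e, .b, .c, .d, .e, .b, .c, .d, .e, .b, .c, .d, .e, .b, .c, .d, .e, .f, .d, .c, .d, .e, .d, .c, .e, .d, .c, .e, .d, .f, .d, .e]]
  s := 0x100000000006000000000005000500000000003000000000000000000020000500005000007000050300000000000000000001700000000000000010000000000002000000000000000000000000000000000001000000000000000000000000000000000000000600000000000000000000000000000000000000000000000000000000000000600000000000005000000000050000000000000002000000060000000f00000003000000000000000000000000000000001001000000000000000200000500000000000000000000000000000200000003000000000000000000000003000000000600000000000000000000000005000000000002001000000000000000000070500000206050003000000000000000000000000030000000000000000000000000000000000000000500f000000100000000000200010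0000000000000000000000000000000001000000000300000000000000060000000000000000000000500000000000700000300000100000070003000500000110000500000000000000000000000000000001030000070000000000000000000000000000000000000000000000000000000000000000700000000000000000000000000010000000005100000007520000205600000000000000000000000000000000000000000000000000000000000000000000000000000000000000000000000010000000000000000000000000070000000000000000000000000000000000000000000000000000000000000000000000000050000000000000000000000000000000060000000000000000000200000000000000000000000700000000000000000000000000000000000000000000000000000000000000000000000000000000000000000000100100000630000000000000300000000000000100000000001000000020000000000050000000000000005000000001000000006000000000000000500000000000000000000000000000000000000000000000000000000000000000000000000000000000000000000000000000000000000000000000000000000000000000000060000000000000000000000000000000007000000000000000000000000000000000000000000000100000000000000000000000000000000000000000f00000000000000000000000000000000000000000000000000000000000000000000000000000000000000102000000003000000000000000000000000000000000000000000000000000000000000000000000000000000000000500000000000000000005000000000000000000000000000000000006000000000000000000000000000000000000000000000000000000000000000000f000500000000050000000100000f0000f000000000000000000000000000000000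
  d := 0x200000000001400000000002000100000000001000003000000000000010000200002000001000020100000000000000000002100000000000000030000000000002000000000000000000000000000000020002000000000000000000000000000000000000300400000000000000000000000000000000000000000000000000000000000000100000000000003000000000030000000000000004000000021000000000000002000000000000000000000000000000004003000003000000000300000300000000000000000000000000000200000003000000000000000000000002000000000300000000000000000000000003000000000003002003000000000000000010100000303030002000000400004000000000000043000000000000000000000000000000000000000200000000010000000300010002000000000000000000000000000000000030000000004000000000000000200000000000000003000002000000000003000001000001000000100040004000001200002000000000000000000000000002000020300000100000000000000000000000000000000000000000000000000000000000000003000000000000000000000000000220000000024000000022100002022000000000000000000000000200000002000300000000000000000000000000000000000000000000000000000000000200000002000000000000200000100000000000020000000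000000000000000000000000000000000000000000000000000000200000000000000000000000000000000300000000000000000001000000000000000000000002000000000000000000000000000000000000000000000000000000000000000000000000000000000000000000002002200202100000000000001300000000000002000000000020000000200000000000200000000000000030000000040000100030000000000000002000000000000000000000000000000000000000000000000000000000000000000000000000000000000000000000000000000000000000000000000000000004000000000000200000000000000000000000000000000020000000000000000000000000000000000000000000003000000000000000000000000000000000000000000000000000000000000000000000000000000000000000000000000000000000000000000000000000000001010000000020002000000000000000000000000000200000000000000000000000000000000000000000000000000001000000000000000000010000000000000000000000000100000000010000000000000000000000000000000000000000000000000000000000000000000000100000000020000000100000000000000000000000000000000000000000000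
  R := [33, 38, 66, 1730, 372, 1445]

/-- the point 823 -/
def row12 : Row where
  x := 823
  g := [.e, .d, .a, .b, .c, .b, .d, .c, .d, .g]
  ws :=
   [[.a, .b, .a, .b, .d],
    [.c, .a, .e, .d, .f, .d, .e, .c],
    [.c, .a, .e, .d, .c, .d, .f, .b, .c, .d, .e, .b, .c, .d, .e, .b, .c, .d, .e, .b, .c, .d, .e, .b, .c, .d, .e, .b, .c, .d, .e, .b, .c, .d, .e, .f, .d, .c, .d, .e, .c],
    [.e, .d, .c, .d, .f, .e, .d, .c, .b, .e, .d, .c, .b, .e, .d, .c, .b, .e, .d, .c, .b, .e, .d, .c, .b, .e, .d, .c, .b, .e, .d, .c, .b, .f, .d, .c, .f, .d, .e, .c, .e, .d, .f, .d, .e],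
    [.d, .b, .a, .b, .a],
    [.c, .e, .d, .f, .d, .e, .a, .c],
    [.c, .e, .d, .c, .d, .f, .e, .d, .c, .b, .e, .d, .c, .b, .e, .d, .c, .b, .e, .d, .c, .b, .e, .d, .c, .b, .e, .d, .c, .b, .e, .d, .c, .b, .f, .d, .c, .d, .e, .a, .c],
    [.e, .d, .f, .d, .e, .c, .e, .d, .f, .c, .d, .f, .b, .c, .d, .e, .b, .c, .d, .e, .b, .c, .d, .e, .b, .c, .d, .e, .b, .c, .d, .e, .b, .c, .d, .e, .b, .c, .d, .e, .f, .d, .c, .d, .e]]
  s := 0x700000000000000000000000000100000000000000000000000000000000000000000000000000000000000000000000000000000000000000000000000010000000000000000000000002000000000000000000000000000100000000200000000000000000000007000000000000000000000070000000000000000000000000000000020000000000000000000030000000000000000000000000000000000000000000000000000000000000000000000000000002700000000000000000000000000000000000000000000000200000000000000003000000000000000000000000000000000000000000000000000000000000000000000000000000000000000000000000000003100000000000000000000000000000000000000000000000030000000000000000000000000000000000000000000000000010700100300000000000000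00001010001000000007000300070000000000001000000300000000000000000000000000000000000000000000300000000000000000000070000000000200000001000000000000003000000000000330000070001000000000000000000000000007000000000000000000000000000000000000000100000000000000000000000000000000000000000000000000000000000002200000000000211100000000000000000000000000000300000000000000000000000000000000000000000000000020000000000000000000000000000000000000000000000000000000000000300000000000000000000000030000000000000000000000000070000000000000000200000000000000000000000000000010000000000000000000000000000000000000000002030000000000000000000000000000000000000000100000000000000000000000000000000200000000000000000000210000000020000000000000000000000000000000001000000300000000000000000070000000000000000000000700000000000000000000000000000200000000000000000000000000012700000000000000000000002000000000300000000000000000000000000000000000000000000001000001000000000020000100000000000100007000000000000100000200000000000000000000000000100000000000100020000000000000000000000000000000000000000010300000000000000001000010000000002000000000000000000000000000000000002000000000000000000000000000000000000000100000100010000000000000001000300000000f0000000000000000000003000000000000f000000000000000000007000003002000000000030000000000000f0000000000000000000000000000000000000020000000000000f000000f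
  d := 0x400000000000100000000000000000000000000400000000000000000000000000000000000000000000000000000000000000000000000000000000000000000000000020000000000000000000000004000000000000000000000000000400000000300000000000000000000003000000000000400000000040000000000000000000000000000000030000000400000000000030000000000000000000000000030000000000004000000000000000300000000000000000000003300000000000000000000000000000000000000000000000200000000000000003000000000000000000000000000000000000000000000000000000000000000000000000000000000000000000000000000004400000000000000020000000000000000000000000000000030002000000000000000000030000000000000000000000000020200300100000200000300000030200030000000220004000300000000000020000003000000000000000000000000000000000000000000003000000000000000000000200000000004020000040000000000000020000000000203200000300330000000000000000000000000030000000000000000000000000000000000000302030000000000000000000000000000000000000000000000000400000000044000000000003342000000000000000000000000000021000000000000000000000000000000000000000000000000300000000000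000000000000000000000000000000000000000000000000004000000000000000000000000100000000000000000000000000100000000000000002000000000000000000000000000000300002000000000000000020000000000000000000040300000000000000000000000000000000000000004000000000000000000003000000000001000000000000000000002103000000200000000000000000000000000000000030000003000000000000000000100300040000000000000001000000000000000000000000000001000000000000000000000000000223200000000000000000000020000000002000000000000000000000000000000000000000000000010000030000000000100002000000100003000020000000000002000001000000000000000300000000004000000000002000400000000004000000000000000000000000000000303000000000000000030000400000000030000000000020000000000000000030000040000000000000000000000000000002000000001000003000100000000000000030003000000000000000000000000000000140000000000000000000000000000000040000040040000000000400000000000000000000000000000000000000000000000000002000000000000000000000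
  R := [0, 7, 115, 60, 150]

/-- all rows -/
def rows : List Row := [row0, row1, row2, row3, row4, row5, row6, row7, row8, row9, row10, row11, row12]

end Cfsg.Agent.H817.CubeHeData
end

-- part: H817/CubeHe
section
/-!
# The row `He` of S5721 (helper817, task 240)

`|He| = 4030387200`; `B`, of order at most `14400`, is the stabiliser of the points `0` and `37` of the
representation on 2058 points (`37` is in a suborbit of length `136`); `116` double cosets of `B` cover.
-/

set_option autoImplicit false
set_option maxRecDepth 100000

namespace Cfsg.Agent.H817.CubeHe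

open Cfsg.Agent.H383.Cube Cfsg.Agent.H817.CubeRank Cfsg.Agent.H817.CubeHeData
open Cfsg.Spor Cfsg.Spor.He Cfsg.Agent.SporadicB.HePerm Cfsg.Agent.FixBN.HeData Cfsg.Agent.FixBN.HeStab

/-- membership in a list of numbers -/
def mem (y : ℕ) (R : List ℕ) : Bool := R.any fun z => Nat.beq z y

theorem mem_of {y : ℕ} {R : List ℕ} (h : mem y R = true) : y ∈ R := by
  rw [mem, List.any_eq_true] at h
  obtain ⟨z, hz, h⟩ := h
  rwa [← Nat.eq_of_beq_eq_true h]

/-- the point is a root or is moved to a point of smaller depth -/
def stepOK (ws : List (List Gen)) (s d : ℕ) (R : List ℕ) (y : ℕ) : Bool :=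
  or (mem y R) (Nat.blt (look4 d (act (nth ws (look4 s y)) y)) (look4 d y))

/-- **descent** -/
theorem descend {ws : List (List Gen)} {s d : ℕ} {R : List ℕ} (S : Subgroup He) (hS : ∀ w ∈ ws, wd w ∈ S)
    (Q : Fin 2058 → Prop) (hQ : ∀ b ∈ S, ∀ y, Q y → Q (phi b y))
    (hstep : ∀ y : Fin 2058, Q y → stepOK ws s d R y = true) (y : Fin 2058) (hy : Q y) :
    ∃ b ∈ S, ((phi b y : Fin 2058) : ℕ) ∈ R := by
  induction hn : look4 d y using Nat.strong_induction_on generalizing y with
  | _ n ih =>
    have h := hstep y hy
    rw [stepOK, Bool.or_eq_true] at h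
    rcases h with h | h
    · exact ⟨1, S.one_mem, by rw [map_one]; exact mem_of h⟩
    · have hw : wd (nth ws (look4 s y)) ∈ S := by
        rcases nth_mem ws (look4 s y) with h1 | h1
        · exact hS _ h1
        · rw [h1]; exact S.one_mem
      have h2 : ((phi (wd (nth ws (look4 s y))) y : Fin 2058) : ℕ) = act (nth ws (look4 s y)) y := phi_wd_apply _ _
      have h3 := Nat.le_of_ble_eq_true h
      rw [← h2] at h3
      obtain ⟨b, hb, hb'⟩ := ih _ (by rw [← hn]; exact h3) (phi (wd (nth ws (look4 s y))) y) (hQ _ hw y hy) rfl
      exact ⟨b * wd (nth ws (look4 s y)), S.mul_mem hb hw, by rw [map_mul, Equiv.Perm.mul_apply]; exact hb'⟩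

/-- the pointwise stabiliser of two points -/
noncomputable def fx (i : Fin 2058) : Subgroup He := (fixer i).comap phi

theorem mem_fx {i : Fin 2058} {g : He} : g ∈ fx i ↔ phi g i = i := Iff.rfl

/-- the stabiliser of the flag -/
noncomputable def B : Subgroup He := fx 0 ⊓ fx 37

theorem mem_B {g : He} : g ∈ B ↔ phi g 0 = 0 ∧ phi g 37 = 37 := Iff.rfl

/-- the word fixes the point -/
def fixes (w : List Gen) (i : ℕ) : Bool := Nat.beq (act w i) i

theorem wd_mem_fx {w : List Gen} {i : Fin 2058} (h : fixes w i = true) : wd w ∈ fx i :=
  mem_fx.2 (Fin.ext ((phi_wd_apply w i).trans (Nat.eq_of_beq_eq_true h)))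

/-- the check of a row -/
def rowOK (r : Row) : Bool :=
  and (r.ws.all fun w => and (fixes w 0) (and (fixes w 37) (fixes w r.x)))
    (and (Nat.beq (act r.g 0) r.x)
      (allBelow 2058 fun z => or (not (Nat.beq (col z) (col 37))) (stepOK r.ws r.s r.d r.R (act r.g z))))

theorem chk0 : (ws0.all fun w => and (fixes w 0) (fixes w 37)) = true := by decide +kernel

theorem chk1 : allBelow 2058 (fun y => stepOK ws0 s0 d0 (rows.map Row.x) y) = true := by decide +kernel

theorem chk2 : rows.all rowOK = true := by decide +kernel

/-- the representatives of the orbits on the flags -/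
def pairs : List (ℕ × ℕ) := rows.flatMap fun r => r.R.map fun y => (r.x, y)

theorem length_pairs : pairs.length = 116 := by decide +kernel

open scoped Classical in
/-- an element which moves the flag `(0, 37)` to a given one -/
noncomputable def toFlag (p : ℕ × ℕ) : He :=
  if h : ∃ g : He, ((phi g 0 : Fin 2058) : ℕ) = p.1 ∧ ((phi g 37 : Fin 2058) : ℕ) = p.2 then h.choose else 1

theorem cover (t : He) : ∃ p ∈ pairs, ∃ b ∈ B, ∃ c ∈ B, t = b * toFlag p * c := by
  -- level 0
  have hB0 : ∀ w ∈ ws0, wd w ∈ B := by
    intro w hw
    have h := chk0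
    rw [List.all_eq_true] at h
    have h1 := h w hw
    rw [Bool.and_eq_true] at h1
    exact ⟨wd_mem_fx h1.1, wd_mem_fx h1.2⟩
  obtain ⟨b0, hb0, h0⟩ := descend B hB0 (fun _ => True) (fun _ _ _ _ => trivial)
    (fun y _ => of_allBelow chk1 y y.2) (phi t 0) trivial
  obtain ⟨r, hr, hrx⟩ := List.mem_map.1 h0
  have hrow := chk2
  rw [List.all_eq_true] at hrow
  have h1 := hrow r hr
  rw [rowOK, Bool.and_eq_true, Bool.and_eq_true] at h1
  obtain ⟨h1, h2, h3⟩ := h1
  rw [List.all_eq_true] at h1
  have h2' := Nat.eq_of_beq_eq_true h2
  -- the point of the row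
  have hx : ((phi (b0 * t) 0 : Fin 2058) : ℕ) = r.x := by
    rw [map_mul, Equiv.Perm.mul_apply]; exact hrx.symm
  set x : Fin 2058 := phi (b0 * t) 0 with hxdef
  have hS : ∀ w ∈ r.ws, wd w ∈ B ⊓ fx x := by
    intro w hw
    have h4 := h1 w hw
    rw [Bool.and_eq_true, Bool.and_eq_true] at h4
    refine ⟨⟨wd_mem_fx h4.1, wd_mem_fx h4.2.1⟩, wd_mem_fx ?_⟩
    rw [hx]; exact h4.2.2
  obtain ⟨b1, hb1, h5⟩ := descend (B ⊓ fx x) hS (fun y => ∃ u : He, phi u 0 = x ∧ phi u 37 = y) (by
    rintro b hb y ⟨u, hu, hu'⟩
    refine ⟨b * u, ?_, ?_⟩
    · rw [map_mul, Equiv.Perm.mul_apply, hu]; exact hb.2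
    · rw [map_mul, Equiv.Perm.mul_apply, hu']) (s := r.s) (d := r.d) (R := r.R) (by
    rintro y ⟨u, hu, hu'⟩
    -- the neighbour of `0` which corresponds to `y`
    have hg : phi ((wd r.g)⁻¹ * u) 0 = 0 := by
      have h6 : phi (wd r.g) 0 = x := Fin.ext (((phi_wd_apply r.g 0).trans h2').trans hx.symm)
      rw [map_mul, map_inv, Equiv.Perm.mul_apply, hu, ← h6, inv_app]
    have h7 := col_inv hg 37
    have h8 := of_allBelow h3 (phi ((wd r.g)⁻¹ * u) 37) (Fin.is_lt _)
    rw [Bool.or_eq_true] at h8
    rcases h8 with h8 | h8
    · rw [h7] at h8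
      exfalso
      revert h8
      change ¬ (!(Nat.beq (col 37) (col 37))) = true
      rw [Nat.beq_refl]
      decide
    · have h9 : act r.g (phi ((wd r.g)⁻¹ * u) 37 : Fin 2058) = (y : ℕ) := by
        rw [← phi_wd_apply, ← Equiv.Perm.mul_apply, ← map_mul, mul_inv_cancel_left, hu']
      rw [h9] at h8
      exact h8) (phi (b0 * t) 37) ⟨b0 * t, rfl, rfl⟩
  set y : ℕ := ((phi b1 (phi (b0 * t) 37) : Fin 2058) : ℕ) with hy
  have hmem : (r.x, y) ∈ pairs := List.mem_flatMap.2 ⟨r, hr, List.mem_map.2 ⟨y, h5, rfl⟩⟩
  have hex : ∃ g : He, ((phi g 0 : Fin 2058) : ℕ) = (r.x, y).1 ∧ ((phi g 37 : Fin 2058) : ℕ) = (r.x, y).2 := by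
    refine ⟨b1 * (b0 * t), ?_, ?_⟩
    · rw [map_mul, Equiv.Perm.mul_apply, ← hxdef, mem_fx.1 hb1.2]; exact hx
    · rw [map_mul, Equiv.Perm.mul_apply]
  have hto : toFlag (r.x, y) = hex.choose := by rw [toFlag, dif_pos hex]
  obtain ⟨e1, e2⟩ := hex.choose_spec
  rw [← hto] at e1 e2
  refine ⟨(r.x, y), hmem, (b1 * b0)⁻¹, B.inv_mem (B.mul_mem hb1.1 hb0),
    (toFlag (r.x, y))⁻¹ * (b1 * (b0 * t)), ?_, by group⟩
  rw [mem_B]
  constructor
  · have h10 : phi (b1 * (b0 * t)) 0 = phi (toFlag (r.x, y)) 0 := by
      apply Fin.ext
      rw [e1, map_mul, Equiv.Perm.mul_apply, ← hxdef, mem_fx.1 hb1.2]; exact hx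
    rw [map_mul, map_inv, Equiv.Perm.mul_apply, h10, inv_app]
  · have h10 : phi (b1 * (b0 * t)) 37 = phi (toFlag (r.x, y)) 37 := by
      apply Fin.ext
      rw [e2, map_mul, Equiv.Perm.mul_apply]
    rw [map_mul, map_inv, Equiv.Perm.mul_apply, h10, inv_app]

theorem ordK3 : look Data.kOrd 1786 = 37 := by decide +kernel

theorem card_B_le : Nat.card B ≤ 14400 := by
  have e : Fin.ofNat 2058 (look Data.kOrd 1786) = (37 : Fin 2058) := by rw [ordK3]; rfl
  have s0 : 136 * Nat.card ↥(phi.range ⊓ fixer 0 ⊓ fixer 37) ≤ Nat.card ↥(phi.range ⊓ fixer 0) := by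
    refine le_trans (Nat.mul_le_mul_right _ (card_pts treeK3).ge) ?_
    apply chain_step _ _ (37 : Fin 2058) _ _ inf_le_left
    · intro k hk; exact mem_fixer.mp hk.2
    · intro y hy
      have := reach_pts treeK3 (phi.range ⊓ fixer 0) (fun w hw => prod_mem_stab hw) y hy
      rwa [e] at this
  have h1 := card_stab_le
  have h2 : Nat.card B ≤ Nat.card ↥(phi.range ⊓ fixer 0 ⊓ fixer 37) :=
    Nat.card_le_card_of_injective (fun g : B => (⟨phi g, ⟨⟨⟨g, rfl⟩, g.2.1⟩, g.2.2⟩⟩ :
      ↥(phi.range ⊓ fixer 0 ⊓ fixer 37))) fun g h hgh => Subtype.ext (phi_injective (congrArg Subtype.val hgh))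
  omega

theorem cubeBound_He : CubeBound He := by
  refine CubeRank.CubeBound.of_cover B (fun i : Fin 116 => toFlag (pairs.get (i.cast length_pairs.symm))) ?_ ?_
  · intro t
    obtain ⟨p, hp, b, hb, c, hc, h⟩ := cover t
    obtain ⟨i, hi⟩ := List.mem_iff_get.1 hp
    exact ⟨i.cast length_pairs, b, hb, c, hc, by rw [Fin.cast_cast, Fin.cast_eq_self, hi]; exact h⟩
  · rw [card_he]
    calc (Nat.card B * 116) ^ 3 ≤ (14400 * 116) ^ 3 := Nat.pow_le_pow_left (Nat.mul_le_mul_right _ card_B_le) 3
      _ < 4030387200 ^ 2 := by norm_num

/-- **row `He`** -/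
theorem cube_He {G : Type*} [Group G] (h : Cfsg.Spor.IsoHe G) : CubeBound G := by
  obtain ⟨e⟩ := h
  exact CubeBound.congr e.symm cubeBound_He

end Cfsg.Agent.H817.CubeHe
end

private theorem dce_70aae7ca3bdb : _root_.True := by
  try have : _root_.True := by simp only [_root_.Cfsg.Agent.H383.Cube.Chev.pq.eq_1]
  try have : _root_.True := by simp only [_root_.Cfsg.Agent.H817.CubeHe.rowOK.eq_1]
  try have : _root_.True := by simp only [_root_.Cfsg.Agent.H817.CubeHe.stepOK.eq_1]
  try have : _root_.True := by simp only [_root_.Cfsg.Agent.H817.CubeHe.toFlag.eq_1]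
  try have : _root_.True := by simp only [_root_.Cfsg.Agent.H817.CubeHe.mem.eq_1]
  exact _root_.True.intro
end

-- part: H68/CubeTits
section
set_option linter.all false
open scoped Cfsg.Agent.FastGrp

/-!
# The cube bound for the Tits group (helper68)

`|T| < |C_T(α)| ^ 3` for every involutory automorphism `α` of the Tits group `T = ²F₄(2)'`.  The Sylow 2-subgroup
`B` of `²F₄(2)` has 16 double cosets (Bruhat decomposition), hence `B ⊓ T` has at most 32 double cosets in `T`, and
`|{x : x α(x) = 1}| ≤ 32 * 2 ^ 11`.
-/

set_option autoImplicit false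

namespace Cfsg.Agent.H68.CubeTits

open Cfsg.Agent.H383.Cube
open scoped Pointwise

/-! ### the abstract count -/

theorem dc_index_two {F : Type*} [Group F] {B D : Subgroup F} (hD : D.index = 2) {x y z : D}
    (hx : ∃ b ∈ B, ∃ c ∈ B, (x : F) = b * z * c) (hy : ∃ b ∈ B, ∃ c ∈ B, (y : F) = b * z * c)
    (h : (∃ b ∈ B.subgroupOf D, ∃ c ∈ B.subgroupOf D, x = b * z * c) ↔
      ∃ b ∈ B.subgroupOf D, ∃ c ∈ B.subgroupOf D, y = b * z * c) :
    ∃ b ∈ B.subgroupOf D, ∃ c ∈ B.subgroupOf D, y = b * x * c := by
  have key : ∀ {b c : F} {u : D}, (u : F) = b * z * c → (b ∈ D ↔ c ∈ D) := by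
    intro b c u hu
    have h1 : b * z * c ∈ D := hu ▸ u.2
    rw [Subgroup.mul_mem_iff_of_index_two hD, Subgroup.mul_mem_iff_of_index_two hD] at h1
    have h2 : (z : F) ∈ D := z.2
    tauto
  by_cases hP : ∃ b ∈ B.subgroupOf D, ∃ c ∈ B.subgroupOf D, x = b * z * c
  · obtain ⟨b, hb, c, hc, rfl⟩ := hP
    obtain ⟨b', hb', c', hc', rfl⟩ := h.1 ⟨b, hb, c, hc, rfl⟩
    exact ⟨b' * b⁻¹, mul_mem hb' (inv_mem hb), c⁻¹ * c', mul_mem (inv_mem hc) hc', by group⟩
  · have hQ := fun hy' => hP (h.2 hy')
    obtain ⟨b, hb, c, hc, hxe⟩ := hx
    obtain ⟨b', hb', c', hc', hye⟩ := hy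
    have h1 := key hxe
    have h2 := key hye
    have hbD : b ∉ D := by
      intro hbD
      exact hP ⟨⟨b, hbD⟩, hb, ⟨c, h1.1 hbD⟩, hc, Subtype.ext hxe⟩
    have hbD' : b' ∉ D := by
      intro hbD
      exact hQ ⟨⟨b', hbD⟩, hb', ⟨c', h2.1 hbD⟩, hc', Subtype.ext hye⟩
    have hcD : c ∉ D := fun h => hbD (h1.2 h)
    have hcD' : c' ∉ D := fun h => hbD' (h2.2 h)
    have h3 : b' * b⁻¹ ∈ D := by
      rw [Subgroup.mul_mem_iff_of_index_two hD, inv_mem_iff]
      exact ⟨fun h => absurd h hbD', fun h => absurd h hbD⟩
    have h4 : c⁻¹ * c' ∈ D := by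
      rw [Subgroup.mul_mem_iff_of_index_two hD, inv_mem_iff]
      exact ⟨fun h => absurd h hcD, fun h => absurd h hcD'⟩
    refine ⟨⟨b' * b⁻¹, h3⟩, mul_mem hb' (inv_mem hb), ⟨c⁻¹ * c', h4⟩, mul_mem (inv_mem hc) hc', Subtype.ext ?_⟩
    show (y : F) = b' * b⁻¹ * x * (c⁻¹ * c')
    rw [hye, hxe]
    group

/-- `B` has at most `|ι|` double cosets in `F`, `D` has index two and `B ⊓ D` is a Sylow 2-subgroup of `D`. -/
theorem card_tw_le_of_index_two {F : Type*} [Group F] [Finite F] {B D : Subgroup F} (hD : D.index = 2)
    {ι : Type*} [Fintype ι] (w : F → ι) (hw : ∀ x y, w x = w y → ∃ b ∈ B, ∃ c ∈ B, y = b * x * c)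
    (P : Sylow 2 D) (hP : (P : Subgroup D) = B.subgroupOf D) {α : MulAut D} (hα : α * α = 1) :
    Nat.card (Tw α) ≤ Nat.card (B.subgroupOf D) * (Fintype.card ι * 2) := by
  classical
  have : Fact (Nat.Prime 2) := ⟨Nat.prime_two⟩
  -- `α(B') = t B' t⁻¹`
  obtain ⟨t, ht⟩ : ∃ t : D, ∀ c ∈ B.subgroupOf D, ∃ c' ∈ B.subgroupOf D, α c' = t * c * t⁻¹ := by
    let Q : Sylow 2 D := P.comapOfInjective α.symm.toMonoidHom α.symm.injective (by
      intro x _
      exact ⟨α x, α.symm_apply_apply x⟩)
    obtain ⟨t, ht⟩ := MulAction.exists_smul_eq D P Q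
    refine ⟨t, fun c hc => ⟨α.symm (t * c * t⁻¹), ?_, α.apply_symm_apply _⟩⟩
    have h1 : t * c * t⁻¹ ∈ (t • P : Sylow 2 D) := by
      have h2 : t * c * t⁻¹ ∈ MulAut.conj t • (P : Subgroup D) :=
        ⟨c, by rw [hP]; exact hc, rfl⟩
      exact h2
    rw [ht] at h1
    have h3 : α.symm (t * c * t⁻¹) ∈ (P : Subgroup D) := h1
    rwa [hP] at h3
  let z : ι → D := fun i => if h : ∃ d : D, w d = i then h.choose else 1
  have hz : ∀ d : D, w (z (w d)) = w d := by
    intro d
    have h : ∃ e : D, w e = w d := ⟨d, rfl⟩
    simp only [z, dif_pos h]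
    exact h.choose_spec
  let δ : D → ι × Bool := fun x => (w ((x * t : D) : F),
    decide (∃ b ∈ B.subgroupOf D, ∃ c ∈ B.subgroupOf D, x * t = b * z (w ((x * t : D) : F)) * c))
  have hmain := card_tw_le hα (B.subgroupOf D) δ Finset.univ (fun _ _ => Finset.mem_univ _) ?_
  · rwa [Finset.card_univ, Fintype.card_prod, Fintype.card_bool] at hmain
  · intro x _ y _ hxy
    have h1 : w ((x * t : D) : F) = w ((y * t : D) : F) := congrArg Prod.fst hxy
    have h2 : (∃ b ∈ B.subgroupOf D, ∃ c ∈ B.subgroupOf D, x * t = b * z (w ((x * t : D) : F)) * c) ↔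
        ∃ b ∈ B.subgroupOf D, ∃ c ∈ B.subgroupOf D, y * t = b * z (w ((y * t : D) : F)) * c :=
      decide_eq_decide.1 (congrArg Prod.snd hxy)
    rw [← h1] at h2
    obtain ⟨b, hb, c, hc, he⟩ := dc_index_two hD (hw _ _ (hz (x * t))) (hw _ _ ((hz (x * t)).trans h1)) h2
    obtain ⟨c', hc', hce⟩ := ht c hc
    refine ⟨b, hb, c', hc', ?_⟩
    rw [hce]
    calc y = (y * t) * t⁻¹ := by group
      _ = b * x * (t * c * t⁻¹) := by rw [he]; group

/-! ### the Tits group -/

open Cfsg.Lie Cfsg.Agent.ChevalleyStructure.TwF4.BN Cfsg.Agent.Schreier.TwFFour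
open Cfsg.Agent.LieExceptional.BNPairCore
open Cfsg.Agent.ChevalleyStructure.TwF4.TwistedFix
open Cfsg.Agent.ChevalleyStructure.TwF4.Groups

variable {K : Type*} [Field K] [Fintype K] {m : ℕ}

/-- `²F₄(2)`: a subgroup `B` of order `2 ^ 12` with at most 16 double cosets -/
theorem exists_B_aux (hK : Fintype.card K = 2 ^ (2 * m + 1)) (hm : m = 0) :
    ∃ (B : Subgroup ↥(twistedF4 K (2 ^ m))) (w : ↥(twistedF4 K (2 ^ m)) → DihedralGroup 8),
      Nat.card B = 2 ^ 12 ∧ ∀ x y, w x = w y → ∃ b ∈ B, ∃ c ∈ B, y = b * x * c := by
  have : CharP K 2 := Cfsg.Agent.ChevalleyStructure.TwF4.Twisted.charP_two hK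
  obtain ⟨φ, hφ⟩ := exists_rln hK
  obtain ⟨P, hPB, hPN, hPS⟩ := exists_bnPair hφ
  have hB : P.B = B0 K (2 ^ m) := hPB
  have hdec := dec hK hφ
  obtain ⟨ψ, -, hψ⟩ := Cfsg.Agent.ChevalleyStructure.TwF4.WeylDih.exists_hom hK
  have hunit : ∀ s : Kˣ, s = 1 := by
    have h1 : Nat.card Kˣ = 1 := by
      rw [Nat.card_units, Nat.card_eq_fintype_card, hK, hm]
      norm_num
    intro s
    have := (Nat.card_eq_one_iff_unique.1 h1).1
    exact Subsingleton.elim _ _
  have hBU : B0 K (2 ^ m) = U0 K (2 ^ m) := by
    refine le_antisymm ?_ U0_le_B0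
    intro b hb
    obtain ⟨s, t, u, hu, hbu⟩ := hdec.1 b hb
    have h1 := Cfsg.Agent.ParSys.Fam.TwoFFour.tt_one hdec
    have h2 : b = u * Cfsg.Agent.ParSys.Fam.TwoFFour.tt hdec s t := Subtype.ext hbu
    rw [hunit s, hunit t, h1, mul_one] at h2
    rw [h2]
    exact hu
  have hcard : Nat.card P.B = 2 ^ 12 := by
    rw [hB, hBU]
    have h0 := Cfsg.Agent.S1090.result hK
    have h2 : (U0 K (2 ^ m)).map (twistedF4 K (2 ^ m)).subtype = chevF4.posUnipotent K ⊓ twistedF4 K (2 ^ m) := by
      rw [U0, Subgroup.subgroupOf_map_subtype, posUnipotent_eq]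
    rw [← h2] at h0
    rw [Nat.card_congr ((U0 K (2 ^ m)).equivMapOfInjective _ (Subgroup.subtype_injective _)).toEquiv, h0, hm]
    norm_num
  choose n hnN hnC using fun g : ↥(twistedF4 K (2 ^ m)) => bruhat (P := P) g
  have hnN' : ∀ g, ((n g : ↥(twistedF4 K (2 ^ m))) : GL chevF4.Idx K) ∈
      chevF4.monomialSubgroup K ⊓ twistedF4 K (2 ^ m) := by
    intro g
    have h1 := hnN g
    rw [hPN, Subgroup.mem_subgroupOf] at h1
    exact ⟨h1, (n g).2⟩
  refine ⟨P.B, fun g => ψ ⟨_, hnN' g⟩, hcard, ?_⟩
  intro x y hxy
  have h1 : (⟨_, hnN' x⟩ : ↥(chevF4.monomialSubgroup K ⊓ twistedF4 K (2 ^ m)))⁻¹ * ⟨_, hnN' y⟩ ∈ ψ.ker := by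
    rw [MonoidHom.mem_ker, map_mul, map_inv]
    exact inv_mul_eq_one.2 hxy
  rw [hψ, Subgroup.mem_subgroupOf] at h1
  have h2 : (n x)⁻¹ * n y ∈ P.B := by
    rw [hPB, Subgroup.mem_subgroupOf]
    exact Cfsg.Agent.ChevalleyStructure.TwF4.RankOne.H_le_borel h1.1
  obtain ⟨b, hb, c, hc, hx⟩ := mem_C.1 (hnC x)
  obtain ⟨b', hb', c', hc', hy⟩ := mem_C.1 (hnC y)
  refine ⟨b' * b⁻¹, mul_mem hb' (inv_mem hb), c⁻¹ * ((n x)⁻¹ * n y) * c', mul_mem (mul_mem (inv_mem hc) h2) hc', ?_⟩
  calc y = b' * n y * c' := hy
    _ = b' * b⁻¹ * (b * n x * c) * (c⁻¹ * ((n x)⁻¹ * n y) * c') := by group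
    _ = b' * b⁻¹ * x * (c⁻¹ * ((n x)⁻¹ * n y) * c') := by rw [← hx]

theorem exists_B : ∃ (B : Subgroup ↥(twistedF4 (ZMod 2) 1)) (w : ↥(twistedF4 (ZMod 2) 1) → DihedralGroup 8),
    Nat.card B = 2 ^ 12 ∧ ∀ x y, w x = w y → ∃ b ∈ B, ∃ c ∈ B, y = b * x * c :=
  exists_B_aux (K := ZMod 2) (m := 0) (by simp) rfl

theorem cube_abs {F : Type*} [Group F] [Finite F] (D : Subgroup F) [D.Normal] (hidx : D.index = 2)
    (hcard : Nat.card D = 2 ^ 11 * 3 ^ 3 * 5 ^ 2 * 13) (B : Subgroup F) (w : F → DihedralGroup 8)
    (hB : Nat.card B = 2 ^ 12) (hw : ∀ x y, w x = w y → ∃ b ∈ B, ∃ c ∈ B, y = b * x * c) : CubeBound D := by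
  have : Fact (Nat.Prime 2) := ⟨Nat.prime_two⟩
  have hno : ¬ 2 ^ 12 ∣ 2 ^ 11 * 3 ^ 3 * 5 ^ 2 * 13 := by norm_num
  -- `|B ⊓ D| = 2 ^ 11`
  have hcong : Nat.card (B.subgroupOf D) = Nat.card (D.subgroupOf B) :=
    Nat.card_congr
      { toFun := fun x => ⟨⟨x.1.1, x.2⟩, x.1.2⟩
        invFun := fun x => ⟨⟨x.1.1, x.2⟩, x.1.2⟩
        left_inv := fun x => rfl
        right_inv := fun x => rfl }
  have hrel : (D.subgroupOf B).index ∣ 2 := by
    rw [← hidx]
    exact Subgroup.relIndex_dvd_index_of_normal D B
  have hmul := Subgroup.card_mul_index (D.subgroupOf B)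
  rw [hB, ← hcong] at hmul
  have hdvd : Nat.card (B.subgroupOf D) ∣ 2 ^ 11 * 3 ^ 3 * 5 ^ 2 * 13 := by
    rw [← hcard]
    exact Subgroup.card_subgroup_dvd_card _
  have hB' : Nat.card (B.subgroupOf D) = 2 ^ 11 := by
    rcases (Nat.dvd_prime Nat.prime_two).1 hrel with h | h
    · rw [h, mul_one] at hmul
      exact absurd (hmul ▸ hdvd) hno
    · rw [h] at hmul
      omega
  obtain ⟨P, hP⟩ := (IsPGroup.of_card hB').exists_le_sylow
  have hPB : (P : Subgroup D) = B.subgroupOf D := by
    refine (Subgroup.eq_of_le_of_card_ge hP ?_).symm
    obtain ⟨k, hk⟩ := IsPGroup.iff_card.1 P.isPGroup'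
    have h1 : Nat.card (P : Subgroup D) ∣ 2 ^ 11 * 3 ^ 3 * 5 ^ 2 * 13 := by
      rw [← hcard]
      exact Subgroup.card_subgroup_dvd_card _
    rw [hk] at h1
    rw [hB', hk]
    refine Nat.pow_le_pow_right (by norm_num) ?_
    by_contra hlt
    exact hno ((pow_dvd_pow 2 (by omega)).trans h1)
  refine CubeBound.of_tw fun α hα => ?_
  have h1 := card_tw_le_of_index_two hidx w hw P hPB (mul_self_of_order hα)
  have h3 : Fintype.card (DihedralGroup 8) = 16 := DihedralGroup.card
  rw [hB', h3] at h1
  have h4 : Nat.card (Tw α) ≤ 65536 := h1.trans (by norm_num)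
  have h5 : Nat.card (Tw α) ^ 3 ≤ 65536 ^ 3 := Nat.pow_le_pow_left h4 3
  have h6 : Nat.card D = 17971200 := by rw [hcard]; norm_num
  rw [h6]
  exact lt_of_le_of_lt h5 (by norm_num)

theorem congr_sub {F G : Type*} [Group F] [Group G] (D : Subgroup F) (e : G ≃* D) (h : CubeBound D) : CubeBound G :=
  CubeBound.congr e.symm h

theorem cube_titsGroup : CubeBound TitsGroup := by
  obtain ⟨hidx, -, -, hcard⟩ := Cfsg.Agent.S1074.result
  obtain ⟨B, w, hB, hw⟩ := exists_B
  exact cube_abs _ hidx hcard B w hB hw

/-- **the cube bound for the Tits group** -/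
theorem cube_tits {G : Type*} [Group G] (h : Cfsg.Lie.IsoTits G) : CubeBound G := by
  obtain ⟨e⟩ := h
  exact congr_sub (commutator ↥(twistedF4 (ZMod 2) 1)) e cube_titsGroup

end Cfsg.Agent.H68.CubeTits
end

-- part: H817/CubeON
section
set_option linter.all false
open scoped Cfsg.Agent.FastGrp

/-!
# The row `ON` of S5721 (helper817, task 240)

`|ON| = 460815505920`, `H = L3(7)` extended by a graph automorphism, of order `3753792`, has rank five.
-/

set_option autoImplicit false

namespace Cfsg.Agent.H817.CubeON

open Cfsg.Agent.H383.Cube Cfsg.Agent.H817.CubeRank Cfsg.Agent.SporRec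

theorem cubeBound_ON : CubeBound Cfsg.Spor.ON := by
  obtain ⟨hi, hc, -⟩ := ONFinal.index_eq ONIndexUpper.index_ne_zero ONIndexUpper.index_le
  have hB : Nat.card ONAssembly.H = 3753792 := ONAssembly.card_H ONLower.ab_ne_one
  have hfin : Finite Cfsg.Spor.ON := Nat.finite_of_card_ne_zero (by rw [hc]; norm_num)
  obtain ⟨q₁, q₂, q₃, q₄, h1, h2, h3, h4⟩ := Cfsg.Agent.ONType.RepOrb.suborbits hi
  obtain ⟨w, hw⟩ := OrbCover.cover_of_orbits ONAssembly.H
    ![((1 : Cfsg.Spor.ON) : Cfsg.Spor.ON ⧸ ONAssembly.H), q₁, q₂, q₃, q₄]
    (OrbCover.exists_mem_orbit _ ![1, 6384, 5586, 58653, 52136]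
      (by
        intro i
        fin_cases i
        · exact OrbCover.ncard_orbit_one _
        · exact h1
        · exact h2
        · exact h3
        · exact h4)
      (by decide)
      (by
        rw [← Subgroup.index_eq_card, hi]
        rfl))
  refine CubeRank.CubeBound.of_cover ONAssembly.H w hw ?_
  rw [hc, hB]
  norm_num

/-- **row `ON`** -/
theorem cube_ON {G : Type*} [Group G] (h : Cfsg.Spor.IsoON G) : CubeBound G := by
  obtain ⟨e⟩ := h
  exact CubeBound.congr e.symm cubeBound_ON

end Cfsg.Agent.H817.CubeON
end

-- part: H848/CubeB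
section
set_option linter.all false
open scoped Cfsg.Agent.FastGrp

/-!
# `|T| < |C_T(α)| ^ 3` for the Baby Monster

Every involution of `B` is the product of two commuting transpositions, or the image of an involution of
`2.B = C_M(ι x₀)` which is conjugate to `f₁` or to an element of the extraspecial group.
-/

set_option autoImplicit false

open Subgroup Cfsg Cfsg.Agent.H383.Cube

namespace Cfsg.Agent.H848.CubeB

open Cfsg.Agent.Bimonster Cfsg.Agent.BabyComp Cfsg.Agent.BabyU
open Cfsg.Agent.MonsterX.KSide Cfsg.Agent.MonsterX.KLift Cfsg.Agent.MonsterX.KModel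
open Cfsg.Agent.MonsterX.Model Cfsg.Agent.MonsterX.MainPack Cfsg.Agent.MonsterX.MainSimple
open Cfsg.Agent.MonsterX.MainBasic Cfsg.Agent.MonsterU.Assembly Cfsg.Agent.MonsterN.Lit
open Cfsg.Agent.MonsterN Cfsg.Agent.MonsterN.LitInst Cfsg.Agent.MonsterU.Lam2 Cfsg.Agent.MonsterU.TwoCls
open Cfsg.Agent.R01.Lifts Cfsg.Agent.BabyComp.Main
open Cfsg.Agent.TwoESix Cfsg.Agent.TwoESix.Cox10 Cfsg.Agent.TwoESix.Lift Cfsg.Agent.TwoESix.Cover
open Cfsg.Lie

section gen

variable {X : Type*} [Group X] [Finite X]

/-- the index of the centralizer is at most the number of conjugates -/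
theorem card_le_of_orbit (K : Subgroup X) (x : X) {S : Set X} (hS : ∀ k ∈ K, k * x * k⁻¹ ∈ S) {N : ℕ}
    (hN : Nat.card ↥S ≤ N) : Nat.card ↥K ≤ N * Nat.card ↥(K ⊓ centralizer ({x} : Set X)) := by
  have h1 : ((K ⊓ centralizer ({x} : Set X)).subgroupOf K).index ≤ N := by
    refine le_trans ?_ hN
    let f : ↥K ⧸ ((K ⊓ centralizer ({x} : Set X)).subgroupOf K) → ↥S :=
      Quotient.lift (fun k : ↥K => (⟨(k : X) * x * (k : X)⁻¹, hS k k.2⟩ : ↥S)) (by
        intro a b hab
        have h2 : a⁻¹ * b ∈ (K ⊓ centralizer ({x} : Set X)).subgroupOf K := QuotientGroup.leftRel_apply.1 hab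
        rw [mem_subgroupOf, mem_inf, mem_centralizer_singleton_iff] at h2
        have h3 : (a : X)⁻¹ * b * x = x * ((a : X)⁻¹ * b) := h2.2
        apply Subtype.ext
        show (a : X) * x * (a : X)⁻¹ = (b : X) * x * (b : X)⁻¹
        symm
        calc (b : X) * x * (b : X)⁻¹ = (a : X) * ((a : X)⁻¹ * b * x) * (b : X)⁻¹ := by group
          _ = (a : X) * (x * ((a : X)⁻¹ * b)) * (b : X)⁻¹ := by rw [h3]
          _ = _ := by group)
    refine Nat.card_le_card_of_injective f ?_
    intro a b
    obtain ⟨a, rfl⟩ := QuotientGroup.mk_surjective a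
    obtain ⟨b, rfl⟩ := QuotientGroup.mk_surjective b
    intro hab
    have h2 : (a : X) * x * (a : X)⁻¹ = (b : X) * x * (b : X)⁻¹ := congrArg Subtype.val hab
    rw [QuotientGroup.eq, mem_subgroupOf, mem_inf, mem_centralizer_singleton_iff]
    refine ⟨K.mul_mem (K.inv_mem a.2) b.2, ?_⟩
    show (a : X)⁻¹ * b * x = x * ((a : X)⁻¹ * b)
    calc (a : X)⁻¹ * b * x = (a : X)⁻¹ * (b * x * (b : X)⁻¹) * b := by group
      _ = (a : X)⁻¹ * (a * x * (a : X)⁻¹) * b := by rw [h2]
      _ = _ := by group
  have h2 := ((K ⊓ centralizer ({x} : Set X)).subgroupOf K).index_mul_card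
  have h3 : Nat.card ↥((K ⊓ centralizer ({x} : Set X)).subgroupOf K) =
      Nat.card ↥(K ⊓ centralizer ({x} : Set X)) := Nat.card_congr (subgroupOfEquivOfLe inf_le_left).toEquiv
  rw [h3] at h2
  rw [← h2]
  exact Nat.mul_le_mul_right _ h1

end gen

variable {V P W : Type} [AddCommGroup V] [Module ℚ V] [Group P] [AddCommGroup W] [Module ℚ W]
  {D : MData V} {M : KS ↥D.G V P W} {x₀ : P} {θ : leechLattice → P} {K₀ : Type} [Group K₀]

theorem card_K (A : All D K₀) (H : Link D M x₀) : Nat.card ↥M.K = 2 ^ 25 * 4157776806543360000 := by
  rw [← card_C A.hG]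
  refine Nat.card_congr (Equiv.ofBijective
    (fun x : ↥M.K => (⟨((x : D.G) : V ≃ₗ[ℚ] V), (H.C_iff _).1 x.2⟩ : D.C)) ⟨?_, ?_⟩)
  · intro a b hab
    apply Subtype.ext
    apply Subtype.ext
    exact congrArg (fun y : D.C => (y : V ≃ₗ[ℚ] V)) hab
  · intro c
    exact ⟨⟨⟨c, C_le c.2⟩, (H.C_iff _).2 c.2⟩, rfl⟩

/-- **Two commuting elements of the extraspecial group.** -/
theorem card_pair (A : All D K₀) (H : Link D M x₀) (L : Lift M θ) (p : P) :
    2 * 10 ^ 13 ≤ Nat.card ↥(centralizer ({M.ι x₀} : Set D.G) ⊓ centralizer ({M.ι p} : Set D.G)) := by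
  have hfin : Finite D.G := G_finite A.hO
  have hP : Finite P := Nat.finite_of_card_ne_zero (by rw [L.card]; norm_num)
  have h1 := card_le_of_orbit M.K (M.ι x₀) (S := M.ι '' M.Sh) (N := 196560) (by
    intro k hk
    obtain ⟨A', α, T, hA⟩ := M.acts k hk
    exact ⟨α x₀, hA.act_sh x₀ H.x₀_mem, by rw [conj_ι hA, mul_inv_cancel_right]⟩) (by
    rw [Nat.card_coe_set_eq, Set.ncard_image_of_injective _ (Link.ι_inj L), Sh_ncard])
  have h2 := card_le_of_orbit (M.K ⊓ centralizer ({M.ι x₀} : Set D.G)) (M.ι p) (S := Set.range M.ι) (N := 2 ^ 25) (by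
    intro k hk
    obtain ⟨A', α, T, hA⟩ := M.acts k hk.1
    exact ⟨α p, by rw [conj_ι hA, mul_inv_cancel_right]⟩) (by
    rw [← L.card]
    exact (Nat.card_range_of_injective (Link.ι_inj L)).le)
  rw [card_K A H] at h1
  have h3 : Nat.card ↥(M.K ⊓ centralizer ({M.ι x₀} : Set D.G) ⊓ centralizer ({M.ι p} : Set D.G)) ≤
      Nat.card ↥(centralizer ({M.ι x₀} : Set D.G) ⊓ centralizer ({M.ι p} : Set D.G)) :=
    Subgroup.card_le_of_le (inf_le_inf_right _ inf_le_right)
  omega

/-- the order of a centralizer in a quotient by a central subgroup of order two -/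
theorem card_cent_le {B X : Type*} [Group B] [Group X] [Finite B] [Finite X] {q : B →* X} {τ : B} (hq : Ext q τ)
    (k : B) : Nat.card ↥(centralizer ({k} : Set B)) ≤ 2 * Nat.card ↥(centralizer ({q k} : Set X)) := by
  let g : ↥(centralizer ({k} : Set B)) →* ↥(centralizer ({q k} : Set X)) :=
    { toFun := fun m => ⟨q m, by
        have := mem_centralizer_singleton_iff.1 m.2
        rw [mem_centralizer_singleton_iff, ← map_mul, this, map_mul]⟩
      map_one' := Subtype.ext (map_one q)
      map_mul' := fun a b => Subtype.ext (map_mul q (a : B) b) }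
  have hg : Nat.card ↥g.ker ≤ 2 := by
    have h1 : Nat.card ↥({1, τ} : Set B) ≤ 2 := by
      rw [Nat.card_coe_set_eq]
      exact (Set.ncard_insert_le _ _).trans (by rw [Set.ncard_singleton])
    refine le_trans (Nat.card_le_card_of_injective (fun z : ↥g.ker => (⟨((z : ↥(centralizer ({k} : Set B))) : B), ?_⟩ :
      ↥({1, τ} : Set B))) ?_) h1
    · have := congrArg Subtype.val (MonoidHom.mem_ker.1 z.2)
      exact (hq.ker _).1 this
    · intro a b hab
      exact Subtype.ext (Subtype.ext (congrArg (fun z : ↥({1, τ} : Set B) => (z : B)) hab))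
  rw [← g.ker.card_mul_index, Subgroup.index_ker]
  exact Nat.mul_le_mul hg (Nat.card_le_card_of_injective _ g.range.subtype_injective)

/-- the facts on the fusion, with `f₁ f₂ f₃` in the extraspecial group -/
theorem exists_facts (A : All D K₀) (H : Link D M x₀) (L : Lift M θ) {τ : D.G} {y : P}
    (T : Cfsg.Agent.MonsterU.InvTwo.TauHyp M θ ⊤ τ y) {t : P} (ht : t ∈ M.Sh) :
    ∃ f₁ f₂ f₃ f₄ : BB M t, FusionType.Facts (tb M t) f₁ f₂ f₃ f₄ ∧
      (∀ h, IsConj (tb M t * (f₁ * f₂)) (⟨M.z, h⟩ : BB M t)) ∧
      IsConj M.z ((f₁ * f₂ * f₃ : BB M t) : D.G) ∧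
      (∃ p : P, ((f₁ : BB M t) : D.G) = M.ι p ∧ IsType 2 (clP L p) ∧ IsType 2 (clP L t + clP L p)) ∧
      (∃ p : P, ((f₁ * f₂ : BB M t) : D.G) = M.ι p) ∧ ∃ p : P, ((f₁ * f₂ * f₃ : BB M t) : D.G) = M.ι p := by
  have F := FusInst.hyp A H L T ht
  obtain ⟨p₁, p₂, p₃, p₄, C⟩ := FusF2.exists_conf L ht
  have e0 : ((FusF2.elt M p₁ (F.c₁ C) * FusF2.elt M p₂ (F.c₂ C) : FusF2.B M t) : D.G) = M.ι (p₁ * p₂) := by
    rw [map_mul]
    rfl
  have e : ((FusF2.elt M p₁ (F.c₁ C) * FusF2.elt M p₂ (F.c₂ C) * FusF2.elt M p₃ (F.c₃ C) :
      FusF2.B M t) : D.G) = M.ι (p₁ * p₂ * p₃) := by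
    rw [map_mul, map_mul]
    rfl
  refine ⟨_, _, _, _, F.facts C (F.c₁ C) (F.c₂ C) (F.c₃ C) (F.c₄ C), fun h => F.conj_z C _ _, ?_,
    ⟨p₁, rfl, C.s₁, C.t₁⟩, ⟨_, e0⟩, ⟨_, e⟩⟩
  obtain ⟨g, hg⟩ := F.four_z (q := p₁ * p₂ * p₃) (by rw [clP_mul, clP_mul]; exact C.s123)
  have h1 : IsConj (M.ι (p₁ * p₂ * p₃)) M.z := isConj_iff.2 ⟨g, hg⟩
  rw [e]
  exact h1.symm

/-- an element of the extraspecial group in `2.B` -/
theorem card_cent_of_mem (A : All D K₀) (H : Link D M x₀) (L : Lift M θ) {b : BB M x₀} {p : P}
    (hb : (b : D.G) = M.ι p) : 2 * 10 ^ 13 ≤ Nat.card ↥(centralizer ({b} : Set (BB M x₀))) := by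
  have hfin : Finite D.G := G_finite A.hO
  refine (card_pair A H L p).trans ?_
  have h1 : ∀ x : ↥(centralizer ({M.ι x₀} : Set D.G) ⊓ centralizer ({M.ι p} : Set D.G)),
      (⟨(x : D.G), x.2.1⟩ : BB M x₀) ∈ centralizer ({b} : Set (BB M x₀)) := by
    intro x
    rw [mem_centralizer_singleton_iff]
    apply Subtype.ext
    show (x : D.G) * b = b * x
    rw [hb]
    exact mem_centralizer_singleton_iff.1 x.2.2
  refine Nat.card_le_card_of_injective (fun x => (⟨_, h1 x⟩ : ↥(centralizer ({b} : Set (BB M x₀))))) ?_
  intro a c hab
  exact Subtype.ext (congrArg (fun z : ↥(centralizer ({b} : Set (BB M x₀))) => ((z : BB M x₀) : D.G)) hab)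

/-- **The centralizers of the involutions of `B` are large.** -/
theorem large (A : All D K₀) (H : Link D M x₀) (L : Lift M θ) {τ : D.G} {y' : P}
    (T : Cfsg.Agent.MonsterU.InvTwo.TauHyp M θ ⊤ τ y') {y : ℕ → D.G} (hP : PRel y) (hne : y 0 ≠ y 1)
    (hy : ∃ g : D.G, g * tG A.hG A.hR * g⁻¹ = y 10) (u : Spor.BabyMonster) (hu : orderOf u = 2) :
    10 ^ 12 ≤ Nat.card ↥(centralizer ({u} : Set Spor.BabyMonster)) := by
  have hfin : Finite D.G := G_finite A.hO
  have hB : Cfsg.IsB Cfsg.Spor.BabyMonster := Cfsg.Agent.S1704.result
  obtain ⟨⟨h1, h2, h3⟩, h43⟩ := ModelB.fieldsKS A H L hP hne hy hB H.x₀_mem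
  obtain ⟨f₁, f₂, f₃, f₄, Fc, hcz, hcd, ⟨p, hp, hp2, hp2'⟩, ⟨p12, hp12⟩, ⟨p123, hp123⟩⟩ :=
    exists_facts A H L T H.x₀_mem
  have hzm : M.z ∈ BB M x₀ := mem_centralizer_singleton_iff.2 (by
    show M.ι M.zc * M.ι x₀ = M.ι x₀ * M.ι M.zc
    rw [← map_mul, ← map_mul, M.zc_comm])
  have hE : Emb (BB M x₀).subtype M.z (tb M x₀) f₁ f₂ f₃ :=
    ⟨Subtype.val_injective, nineteen H A, ((BB M x₀).subtype.map_isConj (hcz hzm)).symm, hcd⟩
  -- the group `²E₆(2)`
  let K := GaloisField 2 2
  let _i : Fintype K := Fintype.ofFinite K
  have hK : Fintype.card K = 4 := by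
    rw [← Nat.card_eq_fintype_card]
    exact GaloisField.card 2 2 (by norm_num)
  have hF : Fintype.card K = 2 ^ 2 := by rw [hK]; norm_num
  have hsE := EInst.isSimple K hK
  obtain ⟨e0, r, he0, hgen, hr, -, hconj⟩ := TwoESix.GoodInst.exists_good K hK
  have hR : ∀ i, e0 i ∈ rootClass K := fun i => by
    obtain ⟨g, hg⟩ := hconj i
    exact ⟨g, r, hr, hg⟩
  have hHB : Finite HB := Cfsg.Agent.BM.HBFinal.finite_HB
  have hcard := Cfsg.Agent.BM.HBFinal.hcard K hK
  have big_a : KEq.Big (BB M x₀) (tb M x₀) f₁ := by
    have hm : M.ι p ∈ BB M x₀ := by rw [← hp]; exact f₁.2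
    have e : f₁ = ⟨M.ι p, hm⟩ := Subtype.ext hp
    rw [e]
    exact BigAConf.big_a L T H.x₀_mem h43 hp2 hp2'
  obtain ⟨q, yB, hpre, π, hq, h10, DK, hc5, hq5⟩ :=
    NodesB.nodes he0 hgen hcard (Cfsg.Agent.BM.HBFinal.card_E K hK) hR h1 h2 h3 Fc hE
  obtain ⟨M₁, Bs⟩ := BaseB.exists_base hq5
  have hfX : Finite Spor.BabyMonster := Finite.of_surjective q hq.surj
  have big : KEq.Big (BB M x₀) (tb M x₀) (yB 5) := big_a.conj (fun x => (Fc.cen x).symm) hc5
  have huu : u * u = 1 := by rw [← pow_two, ← hu, pow_orderOf_eq_one]
  have hu1 : u ≠ 1 := by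
    rintro rfl
    rw [orderOf_one] at hu
    omega
  have hct : ∀ d : Spor.BabyMonster, IsConj (q (yB 5)) d →
      Nat.card ↥(centralizer ({d} : Set Spor.BabyMonster)) = 306129918735099415756800 := by
    intro d hd
    rw [← CardK.card_centralizer_isConj hd, CardK.card_centralizer_isConj hq5]
    exact BM.KHAll.card_cent .t1
  rcases Bs.classes u huu hu1 with ⟨g, hg⟩ | ⟨d, hd, hc, hud⟩
  · -- case I
    obtain ⟨k, hk, hqk⟩ := M_le hq h10 big Bs _ hg
    have hgu : u = g * q k * g⁻¹ := by rw [hqk]; group
    have hkk : k * k = 1 := by
      refine lift_sq (Cfsg.Agent.TwoESix.LeviG.rootFacts hK hF) (KeyInst.extra hF)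
        (Cfsg.Agent.TwoESix.RootsInst.roots K hF) hq h10 DK hk ?_
      rw [hqk]
      calc g⁻¹ * u * g * (g⁻¹ * u * g) = g⁻¹ * (u * u) * g := by group
        _ = 1 := by rw [huu]; group
    have hqk1 : q k ≠ 1 := by
      intro e
      apply hu1
      rw [hgu, e]; group
    have hk1 : k ≠ 1 := fun e => hqk1 (by rw [e, map_one])
    have hkτ : k ≠ tb M x₀ := fun e => hqk1 (by rw [e, hq.mapz])
    rw [hgu, ← CardK.card_centralizer_isConj (isConj_iff.2 ⟨g, rfl⟩)]
    have key : ∀ b : BB M x₀, IsConj b k → 2 * 10 ^ 13 ≤ Nat.card ↥(centralizer ({b} : Set (BB M x₀))) →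
        10 ^ 12 ≤ Nat.card ↥(centralizer ({q k} : Set Spor.BabyMonster)) := by
      intro b hb hcb
      rw [CardK.card_centralizer_isConj hb] at hcb
      have h6 := hcb.trans (card_cent_le hq k)
      omega
    rcases Fc.classes k hkk hk1 hkτ with h1 | h1 | h1 | h1
    · rw [hct (q k) (q.map_isConj (hc5.symm.trans h1))]
      norm_num
    · exact key _ h1 (card_cent_of_mem A H L hp12)
    · refine key _ h1 (card_cent_of_mem A H L (p := x₀ * p12) ?_)
      rw [map_mul, ← hp12]
      rfl
    · exact key _ h1 (card_cent_of_mem A H L hp123)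
  · -- case II
    have h4 := card_le_of_orbit (centralizer ({d} : Set Spor.BabyMonster)) (u * d) (S := {s | IsConj (q (yB 5)) s})
      (N := 13571955000) (fun k _ => hud.trans (isConj_iff.2 ⟨k, rfl⟩)) (Par.card_class hq5)
    rw [hct d hd] at h4
    have h5 : Nat.card ↥(centralizer ({d} : Set Spor.BabyMonster) ⊓ centralizer ({u * d} : Set Spor.BabyMonster)) ≤
        Nat.card ↥(centralizer ({u} : Set Spor.BabyMonster)) := by
      refine Subgroup.card_le_of_le fun x hx => ?_
      have h6 := mem_centralizer_singleton_iff.1 hx.1
      have h7 := mem_centralizer_singleton_iff.1 hx.2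
      rw [mem_centralizer_singleton_iff]
      have h8 : x * u * d = u * x * d := by
        calc x * u * d = x * (u * d) := by rw [mul_assoc]
          _ = u * (d * x) := by rw [h7, mul_assoc]
          _ = u * x * d := by rw [← h6, mul_assoc]
      exact mul_right_cancel h8
    omega

theorem large_B (u : Spor.BabyMonster) (hu : orderOf u = 2) :
    10 ^ 12 ≤ Nat.card ↥(centralizer ({u} : Set Spor.BabyMonster)) :=
  large Cfsg.Agent.MonsterN.LitFin.all Cfsg.Agent.MonsterX.KDone.lnk Cfsg.Agent.MonsterX.KDone.lft
    (Cfsg.Agent.MonsterU.TauInst.tauHyp (Cfsg.Agent.MonsterU.Final.cent Cfsg.Agent.MonsterX.InstanceFinal.mOrbit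
      Cfsg.Agent.MonsterX.Instance.mTrans)) (Cfsg.Agent.MonsterP.NodesGrp.prel Cfsg.Agent.CTwoTab.BInst.H)
    (Cfsg.Agent.MonsterP.NodesNe.ne Cfsg.Agent.CTwoTab.BInst.H) Cfsg.Agent.CTwoTab.BInst.conj_ten u hu

theorem cube_baby : CubeBound Spor.BabyMonster := by
  have h0 : IsB Spor.BabyMonster := S1704.result
  have := h0.1
  have : Finite Spor.BabyMonster := Nat.finite_of_card_ne_zero (by rw [h0.2]; norm_num)
  refine CubeM.of_inner CpAut.TwoInner.inner_b (CubeM.centerless ?_) fun t ht => ?_
  · rw [h0.2]; norm_num
  · rw [h0.2]
    calc 4154781481226426191177580544000000 < (10 ^ 12) ^ 3 := by norm_num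
      _ ≤ _ := Nat.pow_le_pow_left (large_B t ht) 3

/-- **The Baby Monster.** -/
theorem cube_B {G : Type*} [Group G] (h : Cfsg.Spor.IsoB G) : CubeBound G := by
  obtain ⟨e⟩ := h
  exact CubeBound.congr e.symm cube_baby

end Cfsg.Agent.H848.CubeB
end

-- part: H47/CubeSporC
section
set_option linter.all false
open scoped Cfsg.Agent.FastGrp

/-!
# The cube bound for `J4`, `Ru`, `Ly`, `Th` (helper47, S5721)
-/

set_option autoImplicit false

namespace Cfsg.Agent.H47.Cube

open Subgroup Cfsg Cfsg.Agent.H383.Cube

universe u

theorem orderOf_two {K : Type*} [Group K] {t : K} (h : t * t = 1) (h1 : t ≠ 1) : orderOf t = 2 :=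
  orderOf_eq_prime (by rw [pow_two]; exact h) h1

theorem cube_Th {G : Type*} [Group G] (h : Spor.IsoTh G) : CubeBound G := by
  have hn : Nat.card Spor.Th = 90745943887872000 := NotCT.Orders.th ⟨MulEquiv.refl _⟩
  obtain ⟨e⟩ := h
  have hs : IsSimpleGroup Spor.Th := Cfsg.Agent.Th.Main1700.isTh.1
  refine CubeBound.congr e.symm (inner_of_cent (m := 92897280) Cfsg.Agent.KFacts.Th.Main.inner hn (by norm_num)
    (by norm_num) fun t ht ht1 => ?_)
  rw [Cfsg.Agent.MonsterX.ThOneClass.card_centralizer (orderOf_two ht ht1)]

theorem cube_Ly {G : Type*} [Group G] (h : Spor.IsoLy G) : CubeBound G := by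
  have hn : Nat.card Spor.Ly = 51765179004000000 := NotCT.Orders.ly ⟨MulEquiv.refl _⟩
  obtain ⟨e⟩ := h
  have hs : IsSimpleGroup Spor.Ly := Cfsg.Agent.Ly.Setup.isSimple_ly
  refine CubeBound.congr e.symm (inner_of_cent (m := 39916800) (fun α => ?_) hn (by norm_num)
    (by norm_num) fun t ht ht1 => ?_)
  · obtain ⟨g, hg⟩ := Cfsg.Agent.TypeM.OutLyFin.inner ⟨MulEquiv.refl _⟩ α
    exact ⟨g, hg.symm⟩
  · obtain ⟨g, hg⟩ := R10.Close.one_class (orderOf_two ht ht1)
    rw [← card_cent_conj (isConj_iff.2 ⟨g, hg⟩), R10.Close.cover_τ.1]

theorem cube_J4 {G : Type*} [Group G] (h : Spor.IsoJ4 G) : CubeBound G := by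
  have hn : Nat.card G = 86775571046077562880 := NotCT.Orders.j4 h
  obtain ⟨hf, hs, ⟨F⟩⟩ := Cfsg.Agent.KFacts.J4.Base.exists_full h
  refine inner_of_cent (m := 244823040) (Cfsg.Agent.KFacts.J4.SheetJ4.inner F) hn (by norm_num)
    (by norm_num) fun t ht ht1 => ?_
  obtain ⟨g, hg⟩ := Cfsg.Agent.KFacts.J4.DFour.exists_conj_E F.C ht ht1
  rw [card_cent_conj (isConj_iff.2 ⟨g, rfl⟩)]
  have h1 := le_cent (N := normalizer (F.C.E Cfsg.Agent.J4Type.hex0 : Set G))
    (fun n hn e he => (mem_normalizer_iff.1 hn e).1 he) hg
  have hE : Nat.card (F.C.E Cfsg.Agent.J4Type.hex0) = 2 ^ 11 :=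
    F.C.E_card _ Cfsg.Agent.J4Type.HexMax.hex0_isHex
  have hN : Nat.card (normalizer (F.C.E Cfsg.Agent.J4Type.hex0 : Set G)) = 2 ^ 11 * 244823040 := by
    have hsurj : Function.Surjective F.C.π := F.C.π_surj
    have hk : Nat.card F.C.π.ker = 2 ^ 11 := by
      rw [← hE]
      refine Nat.card_congr ⟨fun x => ⟨((x : normalizer (F.C.E Cfsg.Agent.J4Type.hex0 : Set G)) : G),
        (F.C.π_ker x).1 x.2⟩, fun y => ⟨⟨y, le_normalizer y.2⟩, (F.C.π_ker _).2 y.2⟩, fun x => rfl, fun y => rfl⟩
    have h3 := Subgroup.card_eq_card_quotient_mul_card_subgroup F.C.π.ker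
    rw [Nat.card_congr (QuotientGroup.quotientKerEquivOfSurjective _ hsurj).toEquiv, hk,
      SporadicA.M24Trans.card_M24] at h3
    rw [h3, mul_comm]
  rw [hE, hN] at h1
  exact Nat.le_of_mul_le_mul_left h1 (by norm_num)

theorem cube_Ru {G : Type*} [Group G] (h : Spor.IsoRu G) : CubeBound G := by
  have hn : Nat.card G = 145926144000 := NotCT.Orders.ru h
  have hf : Finite G := Nat.finite_of_card_ne_zero (by rw [hn]; norm_num)
  obtain ⟨C, -, hL⟩ := CTwoTab.Ru.exists_core_sz h
  have hs : IsSimpleGroup G := by
    obtain ⟨e⟩ := h
    exact (MulEquiv.isSimpleGroup_congr e).2 Cfsg.Agent.S1627.result.2.2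
  refine inner_of_cent (m := 29120) (fun α => ?_) hn (by norm_num)
    (by norm_num) fun t ht ht1 => ?_
  · obtain ⟨e⟩ := h
    obtain ⟨g, hg⟩ := Cfsg.Agent.OddHalf.Table.OutRu.inner (MulAut.congr (e.trans Cfsg.Agent.RuLat.Main.equiv) α)
    refine ⟨(e.trans Cfsg.Agent.RuLat.Main.equiv).symm g, ?_⟩
    ext x
    have h1 := congrArg (fun β : MulAut Cfsg.Agent.SporadicB.RuOrder.H => β ((e.trans Cfsg.Agent.RuLat.Main.equiv) x)) hg
    apply (e.trans Cfsg.Agent.RuLat.Main.equiv).injective
    simpa [MulAut.congr] using h1
  · rcases Cfsg.Agent.KFacts.Ru.InvC.invol_cases C ht ht1 with ⟨g, hg⟩ | ⟨g, a, ha, hg⟩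
    · rw [← card_cent_conj (isConj_iff.2 ⟨g, hg⟩), Ru127.Sg.card_cent C]
      norm_num
    · rw [← card_cent_conj (isConj_iff.2 ⟨g, hg⟩), ← hL]
      exact le_cent_of_sub fun x hx => (C.v_comm a x hx).symm

end Cfsg.Agent.H47.Cube
end

-- part: H47/CubeSporD
section
set_option linter.all false
open scoped Cfsg.Agent.FastGrp

/-!
# The cube bound for `Co1`, `Co2`, `Co3`, `Fi23` (helper47, S5721)
-/

set_option autoImplicit false

namespace Cfsg.Agent.H47.Cube

open Subgroup Cfsg Cfsg.Agent.H383.Cube

/-- the centralizer of an image modulo a central subgroup of order two -/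
theorem card_le_of_fibre {X Y : Type*} [Finite X] [Finite Y] (f : X → Y) (s : X → X)
    (h : ∀ a b, f a = f b → a = b ∨ a = s b) : Nat.card X ≤ 2 * Nat.card Y := by
  classical
  have h2 : Nat.card Bool = 2 := by simp
  rw [← h2, mul_comm, ← Nat.card_prod]
  let g : Y → Option X := fun y => if h : ∃ x, f x = y then some h.choose else none
  refine Nat.card_le_card_of_injective (fun x : X => (f x, decide (g (f x) = some x))) ?_
  intro a b hab
  have h1 : f a = f b := congrArg Prod.fst hab
  have h3 : decide (g (f a) = some a) = decide (g (f b) = some b) := congrArg Prod.snd hab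
  have hex : ∃ x, f x = f b := ⟨b, rfl⟩
  have hg : g (f b) = some hex.choose := by simp only [g, dif_pos hex]
  have hs := hex.choose_spec
  rw [h1, hg, decide_eq_decide, Option.some_inj, Option.some_inj] at h3
  by_cases h4 : hex.choose = b
  · exact (h3.2 h4).symm.trans h4
  · have h5 : hex.choose ≠ a := fun h => h4 (h3.1 h)
    rcases h _ _ hs with h6 | h6
    · exact absurd h6 h4
    · rcases h _ _ (hs.trans h1.symm) with h7 | h7
      · exact absurd h7 h5
      · rcases h _ _ h1 with h8 | h8
        · exact h8
        · exact absurd (h6.trans h8.symm) h5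

theorem orderOf_two' {K : Type*} [Group K] {t : K} (h : t * t = 1) (h1 : t ≠ 1) : orderOf t = 2 :=
  orderOf_eq_prime (by rw [pow_two]; exact h) h1

/-! ### `Fi23` -/

theorem cube_Fi23 {G : Type*} [Group G] (h : Spor.IsoFi23 G) : CubeBound G := by
  have hn : Nat.card Spor.Fi23 = 4089470473293004800 := NotCT.Orders.fi23 ⟨MulEquiv.refl _⟩
  obtain ⟨e⟩ := h
  have hs : IsSimpleGroup Spor.Fi23 := Cfsg.Agent.S1697.result.1
  have hf : Finite Spor.Fi23 := KFacts.FiTTh.BasInv.finite
  refine CubeBound.congr e.symm (inner_of_cent (m := 10200960) KFacts.FiTTh.Has.inn hn (by norm_num)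
    (by norm_num) fun t ht ht1 => ?_)
  obtain ⟨y, hy, hc⟩ := KFacts.FiTTh.BasInv.exists_conj ht
  rw [card_cent_conj hc]
  have h1 := le_cent (N := normalizer (KFacts.FiTTh.BasDef.A KFacts.FiTTh.BasFi.e : Set Spor.Fi23))
    (fun n hn e he => (mem_normalizer_iff.1 hn e).1 he) hy
  rw [KFacts.FiTTh.BasInv.loc.cardA, KFacts.FiTTh.BasInv.cardN] at h1
  exact Nat.le_of_mul_le_mul_left h1 (by norm_num)

/-! ### `Co3` -/

theorem cube_Co3 {G : Type*} [Group G] (h : Spor.IsoCo3 G) : CubeBound G := by
  obtain ⟨e⟩ := h
  have hf : Finite _ := CTwoTab.Co3.finite_G3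
  obtain ⟨w, D⟩ := CTwoTab.Co3.exists_data
  have hi := SporRec.Co3.Chain.isCo3_G3
  have hs := hi.1
  refine CubeBound.congr (SporRec.Co3.Model.equivCo3.trans e.symm) (inner_of_cent (m := 95040)
    (KFacts.Co3.Sheet.inner_of (MulEquiv.refl _)) hi.2 (by norm_num) (by norm_num) fun t ht ht1 => ?_)
  obtain ⟨g, hg | hg⟩ := D.cls t (orderOf_two' ht ht1)
  · obtain ⟨π, N⟩ := D.ns
    rw [hg, ← card_cent_conj (isConj_iff.2 ⟨g, rfl⟩), CTwoTab.Co3.card_of_NS N]
    norm_num
  · rw [hg, ← card_cent_conj (isConj_iff.2 ⟨g, rfl⟩), ← D.card]
    obtain ⟨f, hf1, -⟩ := D.hom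
    exact le_cent_of_surj hf1

/-! ### `Co2` -/

section

open Cfsg.Agent.SporadicA.GolayBase Cfsg.Agent.SporadicA.GolayPerm
open Cfsg.Agent.SporadicStructure.M24El
open Cfsg.Agent.Co2Type.Mono Cfsg.Agent.Co2Type.TData Cfsg.Agent.Co2Type.TGroup Cfsg.Agent.Co2Type.FactsD
open Cfsg.Agent.Co2Type.TCard Cfsg.Agent.Co2Type.FactsClass Cfsg.Agent.Co2Type.Facts

/-- a permutation of order 3 in `M22` stabilising `mv` -/
def PV3 : ℕ := 984251285326018339970941658112106784

theorem chkPV3 : (okP PV3 && Nat.blt PV3 (2 ^ 120) && Nat.beq (pimg PV3 mv) mv && !(Nat.beq PV3 idP) &&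
    Nat.beq (pcomp PV3 (pcomp PV3 PV3)) idP) = true := by decide +kernel

theorem le_cent_v : 3 * 2 ^ 15 ≤ Nat.card (centralizer ({ge mv} : Set Spor.Co2)) := by
  have := KFacts.Co2D4.finite_co2
  have h := chkPV3
  rw [Bool.and_eq_true, Bool.and_eq_true, Bool.and_eq_true, Bool.and_eq_true] at h
  obtain ⟨⟨⟨⟨h1, h2⟩, h3⟩, h4⟩, h5⟩ := h
  have h2' : PV3 < 2 ^ 120 := Nat.blt_eq.mp h2
  have h3' : pimg PV3 mv = mv := Nat.eq_of_beq_eq_true h3
  have h4' : PV3 ≠ idP := by
    intro h6
    rw [h6] at h4
    exact absurd h4 (by decide +kernel)
  have h5' : pcomp PV3 (pcomp PV3 PV3) = idP := Nat.eq_of_beq_eq_true h5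
  have hc : mo2 0 PV3 ∈ centralizer ({ge mv} : Set Spor.Co2) := by
    rw [mem_centralizer_singleton_iff]
    exact (comm_E_iff inE_zero (by decide +kernel) h1 h2').2 h3'
  have ho : orderOf (⟨_, hc⟩ : centralizer ({ge mv} : Set Spor.Co2)) = 3 := by
    rw [Subgroup.orderOf_mk]
    refine orderOf_eq_prime ?_ ?_
    · have h6 : okP (pcomp PV3 PV3) = true := okP_pcomp h1 h1
      have h8 : ∀ {P : ℕ}, isPerm P = true → (0 : ℕ) ^^^ pimg P 0 = 0 := fun hP => by
        rw [pimg_zero hP, Nat.xor_self]
      have h9 : isPerm PV3 = true := isPerm_of_ok (ok_of_okP h1)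
      rw [pow_succ', pow_two, mo2_mul inE_zero inE_zero h1 h1, h8 h9, mo2_mul inE_zero inE_zero h1 h6, h8 h9, h5',
        mo2_one]
    · intro h6
      rw [← mo2_one] at h6
      exact h4' (mo2_inj inE_zero inE_zero h1 okP_idP h2' idP_lt h6).2
  have hd3 : 3 ∣ Nat.card (centralizer ({ge mv} : Set Spor.Co2)) := ho ▸ orderOf_dvd_natCard _
  have hd2 : 2 ^ 15 ∣ Nat.card (centralizer ({ge mv} : Set Spor.Co2)) := by
    rw [← cardv]
    apply Subgroup.card_dvd_of_le
    intro x hx
    exact mem_centralizer_singleton_iff.2 (mem_cent.1 hx).2.symm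
  exact Nat.le_of_dvd Nat.card_pos (Nat.Coprime.mul_dvd_of_dvd_of_dvd (by norm_num) hd3 hd2)

theorem le_cent_z : 2 ^ 18 ≤ Nat.card (centralizer ({ge mz} : Set Spor.Co2)) := by
  have := KFacts.Co2D4.finite_co2
  rw [← card_T]
  exact le_cent_of_sub z_comm

theorem le_cent_y : 2 ^ 17 ≤ Nat.card (centralizer ({ge my} : Set Spor.Co2)) := by
  have := KFacts.Co2D4.finite_co2
  rw [← cardy]
  exact le_cent_of_sub fun x hx => (mem_cent.1 hx).2.symm

theorem cube_Co2 {G : Type*} [Group G] (h : Spor.IsoCo2 G) : CubeBound G := by
  obtain ⟨e⟩ := h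
  have hf := KFacts.Co2D4.finite_co2
  have hs := Cfsg.Agent.Co2Type.SimpleCo2.simple_co2
  refine CubeBound.congr e.symm (inner_of_cent (m := 3 * 2 ^ 15)
    (KFacts.CoTwo.Main.allInner_iso (MulEquiv.refl _)) Cfsg.Agent.Co2Type.CardCo2.card_co2 (by norm_num)
    (by norm_num) fun t ht ht1 => ?_)
  rcases classes ht ht1 with h | h | h
  · rw [← card_cent_conj h]
    exact le_trans (by norm_num) le_cent_z
  · rw [← card_cent_conj h]
    exact le_trans (by norm_num) le_cent_y
  · rw [← card_cent_conj h]
    exact le_cent_v

end

/-! ### `Co1` -/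

section

open Cfsg.Agent.SporadicA.Co0Mono
open Cfsg.Agent.SporadicA.Co1Simple (allOne exists_sign_perm)
open Cfsg.Agent.SporadicA.GolayBase Cfsg.Agent.SporadicA.GolayPerm
open Cfsg.Agent.CoOneType.SignFacts (wt wt_add_allOne sign_allOne_comm)
open Cfsg.Agent.CoOneType.ClosingFacts (mk mk_mul mk_inv exists_mk mk_eq_one mk_eq)

theorem le_cent_sign (c : golayCode) : 122411520 ≤ Nat.card (centralizer ({mk (signCo0 c)} : Set Spor.Co1)) := by
  have hf0 : Finite Co0 := Cfsg.Agent.CoOneType.FrameFix.finite_co0
  have hf1 : Finite Spor.Co1 := Nat.finite_of_card_ne_zero (by rw [Cfsg.Agent.S0399.result.2]; norm_num)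
  have hfC : Finite golayCode := Nat.finite_of_card_ne_zero (by rw [Cfsg.Agent.S0358.card_golayCode]; norm_num)
  have h1 := le_cent_of_map (fun x : golayCode × M24 => signCo0 x.1 * permCo0 x.2) (fun x y hxy => by
    obtain ⟨h1, h2⟩ := Cfsg.Agent.MonsterU.CoFrameF.sp_inj hxy
    exact Prod.ext h1 h2) (signCo0 c) (fun y : golayCode => signCo0 y) (fun x => ⟨wordPerm x.2 c, by
    obtain ⟨a, σ⟩ := x
    have h3 : (signCo0 a * permCo0 σ) * signCo0 c * (signCo0 a * permCo0 σ)⁻¹ =
        signCo0 a * (permCo0 σ * signCo0 c * (permCo0 σ)⁻¹) * (signCo0 a)⁻¹ := by group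
    rw [h3, perm_mul_sign_mul_inv, signCo0_inv, ← signCo0_add, ← signCo0_add]
    congr 1
    rw [add_comm a, add_assoc, Cfsg.Agent.SporadicA.Co1Simple.signCo0_add_self a, add_zero]⟩)
  rw [Nat.card_prod, Cfsg.Agent.S0358.card_golayCode, SporadicA.M24Trans.card_M24] at h1
  have h2 : 244823040 ≤ Nat.card (centralizer ({signCo0 c} : Set Co0)) := Nat.le_of_mul_le_mul_left h1 (by norm_num)
  have h3 := card_le_of_fibre (X := centralizer ({signCo0 c} : Set Co0))
    (Y := centralizer ({mk (signCo0 c)} : Set Spor.Co1))
    (fun x => ⟨mk x, by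
      rw [mem_centralizer_singleton_iff, ← mk_mul, mem_centralizer_singleton_iff.1 x.2, mk_mul]⟩)
    (fun x => ⟨x * signCo0 allOne, mul_mem x.2 (by
      rw [mem_centralizer_singleton_iff, ← signCo0_add, ← signCo0_add, add_comm])⟩)
    (fun a b hab => by
      rcases (mk_eq _ _).1 (congrArg Subtype.val hab) with h | h
      · exact Or.inl (Subtype.ext h)
      · exact Or.inr (Subtype.ext h))
  omega

theorem cube_Co1 {G : Type*} [Group G] (h : Spor.IsoCo1 G) : CubeBound G := by
  obtain ⟨e⟩ := h
  have hf : Finite Spor.Co1 := Nat.finite_of_card_ne_zero (by rw [Cfsg.Agent.S0399.result.2]; norm_num)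
  have hs : IsSimpleGroup Spor.Co1 := Cfsg.Agent.S0399.result.1
  refine CubeBound.congr e.symm (inner_of_cent (m := 122411520) (fun α => ?_) Cfsg.Agent.S0399.result.2 (by norm_num)
    (by norm_num) fun t ht ht1 => ?_)
  · obtain ⟨s, hs⟩ := Cfsg.Agent.ConwayFacts.AutCo1.inner α
    exact ⟨s, MulEquiv.ext hs⟩
  · obtain ⟨g, s, hr, hg⟩ := CTwoTab.Co1.exists_rep t (orderOf_two' ht ht1)
    rw [hg, ← card_cent_conj (isConj_iff.2 ⟨g, rfl⟩)]
    rcases hr with ⟨o, -, rfl⟩ | ⟨o, -, rfl⟩ | rfl
    · exact le_cent_sign o
    · exact le_cent_sign o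
    · have h1 := le_cent_of_sub (K := Spor.Co1) KFacts.Co1D4.TwoB.Lw
      rw [KFacts.Co1D4.GTwo.card_L] at h1
      exact le_trans (by norm_num) h1

end

end Cfsg.Agent.H47.Cube
end

-- part: H383/Cube/Main
section
set_option linter.all false
open scoped Cfsg.Agent.FastGrp

/-!
# The bound `|T| < |C_T(α)| ^ 3` for all finite nonabelian simple groups (helper383, S5721)
-/

set_option autoImplicit false

namespace Cfsg.Agent.H383.Cube

open Cfsg

theorem CubeBound.of_equiv {G H : Type*} [Group G] [Group H] (e : G ≃* H) (h : CubeBound H) : CubeBound G :=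
  CubeBound.congr e.symm h

theorem cube_sporadic {G : Type*} [Group G] (h : IsSporadicGroup G) : CubeBound G := by
  rcases h with h | h | h | h | h | h | h | h | h | h | h | h | h | h | h | h | h | h | h | h | h | h | h | h | h | h
  · exact H269.CubeMat.cube_M11 h
  · exact H269.CubeMat.cube_M12 h
  · exact H269.CubeMat.cube_M22 h
  · exact H269.CubeMat.cube_M23 h
  · exact H269.CubeMat.cube_M24 h
  · exact H269.CubeJ1.cube_J1 h
  · exact H269.CubeJ2.cube_J2 h
  · exact H269.CubeJ3.cube_J3 h
  · exact H47.Cube.cube_J4 h
  · exact H47.Cube.cube_Co1 h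
  · exact H47.Cube.cube_Co2 h
  · exact H47.Cube.cube_Co3 h
  · exact H692.CubeMcL.cube_McL h
  · exact H692.CubeHS.cube_HS h
  · exact H692.CubeSuz.cube_Suz h
  · exact H817.CubeHe.cube_He h
  · exact H47.Cube.cube_Ru h
  · exact H817.CubeON.cube_ON h
  · exact H47.Cube.cube_Ly h
  · exact Cfsg.Agent.H383.Cube.FiTT.cube_Fi22 h
  · exact H47.Cube.cube_Fi23 h
  · exact H819.CubeFi24.cube_Fi24' h
  · exact H817.CubeHN.cube_HN h
  · exact H47.Cube.cube_Th h
  · exact H848.CubeB.cube_B h
  · exact H848.CubeM.cube_M h

theorem cube_exceptional {G : Type*} [Group G] (h : IsExceptionalLieType G) : CubeBound G := by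
  rcases h with h | h | h | h | h | h | h | h | h | h | h
  · obtain ⟨F, _, _, hF, ⟨e⟩⟩ := h
    exact (Chev.cube_G2 hF).of_equiv e
  · obtain ⟨F, _, _, ⟨e⟩⟩ := h
    exact (Chev.cube_F4 (K := F)).of_equiv e
  · obtain ⟨F, _, _, ⟨e⟩⟩ := h
    exact (Chev.cube_E6 (K := F)).of_equiv e
  · obtain ⟨F, _, _, ⟨e⟩⟩ := h
    exact (Chev.cube_E7 (K := F)).of_equiv e
  · obtain ⟨F, _, _, ⟨e⟩⟩ := h
    exact (Chev.cube_E8 (K := F)).of_equiv e
  · obtain ⟨K, _, _, q, hq, hK, ⟨e⟩⟩ := h
    exact (Twist.cube_twE6 hq hK).of_equiv e
  · obtain ⟨K, _, _, q, hq, hK, ⟨e⟩⟩ := h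
    exact (Twist.cube_twD4 hq hK).of_equiv e
  · obtain ⟨K, _, _, m, hm, hK, ⟨e⟩⟩ := h
    exact (TwSz.cube_Sz hm hK).of_equiv e
  · obtain ⟨K, _, _, m, hm, hK, ⟨e⟩⟩ := h
    exact (TwSz.cube_Ree hm hK).of_equiv e
  · obtain ⟨K, _, _, m, hm, hK, ⟨e⟩⟩ := h
    exact (TwSz.cube_twF4 hm hK).of_equiv e
  · exact H68.CubeTits.cube_tits h

/-- **The bound for all finite nonabelian simple groups** -/
theorem cube_simple {G : Type*} [Group G] [Finite G] [IsSimpleGroup G] (hG : ¬ IsMulCommutative G) : CubeBound G := by
  rcases (S0000.result (G := G)) with h | h | h | h | h | h | h | h | h | h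
  · have : Fact (Nat.card G).Prime := ⟨h⟩
    have : IsCyclic G := isCyclic_of_prime_card (p := Nat.card G) rfl
    exact absurd IsCyclic.isMulCommutative hG
  · obtain ⟨n, hn, ⟨e⟩⟩ := h
    exact (H177.CubeAlt.cube_alt n hn).of_equiv e
  · obtain ⟨F, _, _, n, hn, h2, ⟨e⟩⟩ := h
    exact (H151.CubeTwo.cube_psl_all n hn fun h => by rw [Nat.card_eq_fintype_card]; exact h2 h).of_equiv e
  · obtain ⟨F, _, _, m, hm, h2, ⟨e⟩⟩ := h
    exact (Small.cube_PSp hm h2).of_equiv e
  · obtain ⟨F, _, _, n, q, hF, hn, h2, ⟨e⟩⟩ := h
    exact (Small.cube_PSU hF hn h2).of_equiv e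
  · obtain ⟨F, _, _, m, hm, ho, ⟨e⟩⟩ := h
    exact (Classical.cube_po_odd rfl ho hm).of_equiv e
  · obtain ⟨F, _, _, m, hm, ⟨e⟩⟩ := h
    exact (Classical.cube_po_plus rfl hm).of_equiv e
  · obtain ⟨F, _, _, m, a, b, hm, hab, ⟨e⟩⟩ := h
    exact (Classical.cube_po_minus rfl hm hab).of_equiv e
  · exact cube_exceptional h
  · exact cube_sporadic h

end Cfsg.Agent.H383.Cube
end
end
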